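/-
Generated data: witnesses for the action lemmas of the derived group of the twisted F4 group over
the field with two elements.
-/
set_option autoImplicit false

namespace Cfsg.Agent.TwistedF4Two

/-- The levels of the unipotent elements in the normal closure of an element of order five. -/
def coreLevels : List Nat :=
  [1, 2, 3, 4, 5, 6, 7, 8, 11]

/-- Elements of the normal closure, by level: the mask and the conjugating pairs. -/
def coreWits : List (Nat × List (Nat × Nat)) :=
  [
    (2, [(4, 1596), (1216, 1216)]),
    (1028, [(2, 2), (2078, 3014)]),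
    (24, [(64, 3136), (522, 1062)]),
    (1040, [(2, 2), (342, 654)]),
    (1568, [(0, 0), (110, 3366)]),
    (1216, [(2, 2), (3270, 1822)]),
    (1664, [(2, 2), (174, 1910)]),
    (1792, [(2, 2), (386, 666)]),
    (2048, [(0, 0), (384, 2432)])]

/-- Words reaching the second reflection from the unipotent group and a Weyl element. -/
def reachWits : List (List Nat) :=
  [
    [],
    [],
    [0, 0],
    [2700, 3990, 284, 762, 1350, 474, 3664, 2134, 32],
    [730, 498, 3902, 3154, 336, 920, 2846, 3870, 36],
    [730, 1784, 1586, 1734, 540, 36],
    [3884, 3852, 36],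
    [1696, 1648, 3512, 1022, 4],
    [258, 2000, 3650, 638, 36],
    [3076, 1366, 3716, 366, 0],
    [2262, 100, 32],
    [1218, 1580, 3302, 4],
    [1982, 1474, 3038, 0],
    [3312, 1172, 2684, 32],
    [2960, 2552, 36],
    [2960, 8, 36]]

end Cfsg.Agent.TwistedF4Two
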