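import Cfsg.Agent.TwistedF4Two.Tits
import Cfsg.Agent.TwistedF4Two.ActionData

/-!
# Overgroups of a Sylow 2-subgroup of the Tits group, and some of its elements
-/

set_option autoImplicit false
set_option maxRecDepth 100000

namespace Cfsg.Agent.TwistedF4Two

open scoped Matrix
open MulAction

attribute [local irreducible] rho toM comp img Cfsg.Lie.chevF4 gen

/-- The product of the powers of a matrix alternating with unipotent ones. -/
def reachB (A : List ℕ) : List ℕ → List ℕ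
  | [] => idB
  | [m] => sprodB pcMats m
  | m :: l => comp (comp (sprodB pcMats m) A) (reachB A l)

/-- The element of order five. -/
def yT : T := pc.getD 2 1 * s2

/-- Its matrix. -/
def yB : List ℕ := comp (pcMats.getD 2 []) w2M

/-- A product of conjugates of the element of order five. -/
def yProd : List (ℕ × ℕ) → List ℕ
  | [] => idB
  | (a, b) :: l => comp (comp (comp (sprodB pcMats a) yB) (sprodB pcMats b)) (yProd l)

theorem reach_ok : ∀ w : Fin 16, 2 ≤ (w : ℕ) →
    reachB (weylMats.getD (w : ℕ) []) (reachWits.getD (w : ℕ) []) = w2M ∧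
    (reachWits.getD (w : ℕ) []).all (fun m => m % 2 == 0) = true := by decide +kernel

theorem core_ok : coreLevels.length = 9 ∧ coreLevels.Nodup ∧ ∀ j : Fin 9,
    (coreLevels.getD (j : ℕ) 0) < 12 ∧ 1 ≤ coreLevels.getD (j : ℕ) 0 ∧
    (coreWits.getD (j : ℕ) (0, [])).1 % 2 ^ (coreLevels.getD (j : ℕ) 0 + 1) =
      2 ^ coreLevels.getD (j : ℕ) 0 ∧
    yProd (coreWits.getD (j : ℕ) (0, [])).2 = sprodB pcMats (coreWits.getD (j : ℕ) (0, [])).1 ∧
    (coreWits.getD (j : ℕ) (0, [])).2.all (fun p => p.1 % 2 == 0 &&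
      comp (sprodB pcMats p.1) (sprodB pcMats p.2) == idB) = true := by decide +kernel

theorem orders_ok : powB (sprodB pcMats 34) 16 = idB ∧ powB (sprodB pcMats 34) 8 = zB ∧
    powB yB 5 = idB ∧ img yB (2 ^ 0) ≠ 2 ^ 0 ∧ img zB (2 ^ 0) ≠ 2 ^ 0 ∧
    (weylWords.getD 1 [] = [1]) ∧ img yB (2 ^ 0) < 2 ^ 26 ∧ img zB (2 ^ 0) < 2 ^ 26 := by decide +kernel

theorem rep_yT : Rep yT yB := (rep_pc' (k := 2) (by norm_num)).mul rep_s2

theorem pc_drop_one_mem_D : ∀ x ∈ pc.drop 1, x ∈ D := fun x hx => by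
  obtain ⟨i, hi, rfl⟩ := List.getElem_of_mem hx
  rw [List.length_drop, pc_length] at hi
  rw [List.getElem_drop, ← List.getD_eq_getElem _ 1]
  exact (pc_tail_PT (by omega) (by omega)).1

theorem U1_le_D : U1 ≤ D := (Subgroup.closure_le _).2 pc_drop_one_mem_D

theorem mem_U1_iff_mem_D {u : T} (hu : u ∈ UT) : u ∈ U1 ↔ u ∈ D := by
  refine ⟨fun h => U1_le_D h, fun h => ?_⟩
  by_contra hne
  have hp : pc.getD 0 1 * u ∈ U1 := by
    rw [mul_mem_U1_iff (pc_getD_mem 0) hu]
    exact iff_of_false pc_zero_not_mem hne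
  exact pc_zero_not_mem_commutator ((Subgroup.mul_mem_cancel_right _ h).1 (U1_le_D hp))

theorem pc_zero_conj {x : T} (hx : x ∈ U1) :
    pc.getD 0 1 * x * (pc.getD 0 1)⁻¹ ∈ U1 :=
  (mem_U1_conj_UT (pc_getD_mem 0) (U1_le hx)).2 hx

theorem weylEl_mem_D (w : ℕ) : weylEl w ∈ D := by
  refine wordG_mem (fun y hy => ?_) _
  simp only [List.mem_cons, List.not_mem_nil, or_false] at hy
  rcases hy with rfl | rfl | rfl
  · exact D.one_mem
  · exact D_eq_Nz ▸ gens_mem_Nz.2.1
  · exact D_eq_Nz ▸ gens_mem_Nz.2.2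

theorem weylEl_one : weylEl 1 = s1 := by
  rw [weylEl, orders_ok.2.2.2.2.2.1]; simp [wordG]

theorem sprod_mem_U1 {m : ℕ} (h : m % 2 = 0) : sprod pc m ∈ U1 := (sprod_pc_mem_U1 m).2 h

theorem exists_reach {K : Subgroup T} (hK : U1 ≤ K) {g : T} (hg : g ∈ K) {A : List ℕ} (hr : Rep g A) :
    ∀ l : List ℕ, (∀ m ∈ l, m % 2 = 0) → ∃ e ∈ K, Rep e (reachB A l)
  | [], _ => ⟨1, K.one_mem, Rep.one⟩
  | [m], h => ⟨_, hK (sprod_mem_U1 (h m List.mem_cons_self)), rep_pc_prod m⟩
  | m :: k :: l, h => by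
    obtain ⟨e, he, hre⟩ := exists_reach hK hg hr (k :: l) fun x hx => h x (List.mem_cons_of_mem _ hx)
    exact ⟨sprod pc m * g * e, K.mul_mem (K.mul_mem (hK (sprod_mem_U1 (h m List.mem_cons_self))) hg) he,
      ((rep_pc_prod m).mul hr).mul hre⟩

theorem s2_mem_of_weyl {K : Subgroup T} (hK : U1 ≤ K) {w : ℕ} (hw : w < 16) (h2 : 2 ≤ w)
    (hg : weylEl w ∈ K) : s2 ∈ K := by
  obtain ⟨h1, h⟩ := reach_ok ⟨w, hw⟩ h2
  obtain ⟨e, he, hr⟩ := exists_reach hK hg (rep_weyl hw) _ fun m hm => by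
    simpa using List.all_eq_true.1 h m hm
  exact rep_s2.eq hr h1.symm ▸ he

/-- The stabiliser of the base point in the derived group. -/
abbrev PD : Subgroup D := stabilizer D pt0

/-- The Sylow subgroup of the derived group. -/
abbrev U1D : Subgroup D := U1.subgroupOf D

theorem card_U1D : Nat.card U1D = 2048 :=
  (Nat.card_congr (Subgroup.subgroupOfEquivOfLe U1_le_D).toEquiv).trans card_U1

theorem mem_PD_iff {d : D} : d ∈ PD ↔ (d : T) ∈ PT := by
  rw [mem_stabilizer_iff, ← stabilizer_hi0, mem_stabilizer_iff, Subtype.ext_iff, coe_D_smul]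
  rfl

theorem U1D_le_PD : U1D ≤ PD := fun _ hd => mem_PD_iff.2 (UT_le_PT (U1_le hd))

theorem index_PD : PD.index = 1755 := by
  rw [index_stabilizer_of_transitive, card_Pt]

theorem card_PD : Nat.card PD = 10240 := by
  have h := Subgroup.card_mul_index PD
  rw [index_PD, card_D] at h
  omega

theorem isCoatom_PD : IsCoatom PD := by
  have : Nontrivial Pt := by
    rw [← Finite.one_lt_card_iff_nontrivial, card_Pt]; norm_num
  exact IsPreprimitive.isCoatom_stabilizer_of_isPreprimitive D pt0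

theorem PD_le_of_mem {H : Subgroup D} (hU : U1D ≤ H) {q : D} (hq : q ∈ H) (hP : (q : T) ∈ PT)
    (hne : (q : T) ∉ UT) : PD ≤ H := by
  have hle : U1D ≤ H ⊓ PD := le_inf hU U1D_le_PD
  have h1 : 2048 ∣ Nat.card ↥(H ⊓ PD) := card_U1D ▸ Subgroup.card_dvd_of_le hle
  have h2 : Nat.card ↥(H ⊓ PD) ∣ 10240 := card_PD ▸ Subgroup.card_dvd_of_le inf_le_right
  have h3 : Nat.card ↥(H ⊓ PD) ≠ 2048 := fun e => by
    have heq : U1D = H ⊓ PD := Subgroup.eq_of_le_of_card_ge hle (by rw [e, card_U1D])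
    have : q ∈ U1D := heq ▸ ⟨hq, mem_PD_iff.2 hP⟩
    exact hne (U1_le this)
  obtain ⟨c, hc⟩ := h1
  rw [hc] at h2 h3
  have hc5 : c ∣ 5 := Nat.dvd_of_mul_dvd_mul_left (k := 2048) (by norm_num) h2
  rcases (Nat.dvd_prime Nat.prime_five).1 hc5 with rfl | rfl
  · exact absurd rfl h3
  · exact le_trans (le_of_eq (Subgroup.eq_of_le_of_card_ge inf_le_right (by rw [hc, card_PD])).symm)
      inf_le_left

/-- The union of the cells of the first parabolic subgroup. -/
theorem exists_big_cell {H : Subgroup D} (hcard : 12288 < Nat.card H) :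
    ∃ d ∈ H, ∃ u ∈ UT, ∃ w, w < 16 ∧ 2 ≤ w ∧ ∃ u' ∈ UT, (d : T) = u * weylEl w * u' := by
  by_contra hno
  push Not at hno
  let f : UT × Fin 3 → T := fun p =>
    (p.1 : T) * (if p.2 = 0 then 1 else if p.2 = 1 then s1 else s1 * gen 0)
  have hsub : ∀ d : H, ∃ p, f p = ((d : D) : T) := by
    intro d
    obtain ⟨u, hu, w, hw, u', hu', e⟩ := inCells_all ((d : D) : T)
    rcases (show w = 0 ∨ w = 1 ∨ 2 ≤ w by omega) with rfl | rfl | h2
    · refine ⟨(⟨u * u', UT.mul_mem hu hu'⟩, 0), ?_⟩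
      rw [e, weylEl_zero, mul_one]
      simp [f]
    · obtain ⟨v, hv, k, hk, rfl⟩ := refl1.hdec u' hu'
      obtain ⟨-, hv2, -⟩ := refl1.of_mem_closure hv
      have hk' : k = 0 ∨ k = 1 := by omega
      have e' : ((d : D) : T) = u * (s1 * v * s1) * (s1 * gen 0 ^ k) := by
        rw [e, weylEl_one]
        simp only [mul_assoc]
        rw [← mul_assoc s1 s1, s1_sq, one_mul]
      rcases hk' with rfl | rfl
      · refine ⟨(⟨u * (s1 * v * s1), UT.mul_mem hu hv2⟩, 1), ?_⟩
        rw [e', pow_zero, mul_one]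
        simp [f]
      · refine ⟨(⟨u * (s1 * v * s1), UT.mul_mem hu hv2⟩, 2), ?_⟩
        rw [e', pow_one]
        simp [f]
    · exact absurd e (hno d d.2 u hu w hw h2 u' hu')
  choose g hg using hsub
  have hinj : Function.Injective g := fun a b h => by
    have := hg a
    rw [h, hg b] at this
    exact Subtype.ext (Subtype.ext this.symm)
  have := Nat.card_le_card_of_injective g hinj
  rw [Nat.card_prod, card_UT, Nat.card_fin] at this
  omega

/-- One step of the overgroup argument, after conjugation. -/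
theorem conj_step {HT : Subgroup T} (hHT : U1 ≤ HT) {p W : T} (hp : ∀ x ∈ U1, p * x * p⁻¹ ∈ U1)
    {w : ℕ} (hw : w < 16) (h2 : 2 ≤ w) (hW : W = weylEl w) (h : p * W * p⁻¹ ∈ HT) :
    p * s2 * p⁻¹ ∈ HT := by
  have hK : U1 ≤ HT.comap (MulAut.conj p).toMonoidHom := fun x hx => by
    rw [Subgroup.mem_comap, MulEquiv.coe_toMonoidHom, MulAut.conj_apply]
    exact hHT (hp x hx)
  have hg : weylEl w ∈ HT.comap (MulAut.conj p).toMonoidHom := by
    rw [Subgroup.mem_comap, MulEquiv.coe_toMonoidHom, MulAut.conj_apply, ← hW]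
    exact h
  have := s2_mem_of_weyl hK hw h2 hg
  rwa [Subgroup.mem_comap, MulEquiv.coe_toMonoidHom, MulAut.conj_apply] at this

/-- Large overgroups of the Sylow subgroup. -/
theorem eq_top_of_overgroup {H : Subgroup D} (hU : U1D ≤ H) (hcard : 12288 < Nat.card H) : H = ⊤ := by
  obtain ⟨d, hd, u, hu, w, hw, h2, u', hu', e⟩ := exists_big_cell hcard
  set HT := H.map D.subtype with hHT
  have hUT : U1 ≤ HT := fun x hx => ⟨⟨x, U1_le_D hx⟩, hU hx, rfl⟩
  have hmem : u * weylEl w * u' ∈ HT := ⟨d, hd, e⟩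
  have hfin : ∀ q ∈ HT, q ∈ PT → q ∉ UT → PD ≤ H := by
    rintro q ⟨c, hc, rfl⟩ hP hne
    exact PD_le_of_mem hU hc hP hne
  have hs2 : s2 ∉ UT := fun h => by
    have := cell_eq UT.one_mem UT.one_mem h UT.one_mem (w := 2) (w' := 0) (by norm_num) (by norm_num)
      (by rw [one_mul, mul_one, weylEl_two, weylEl_zero, mul_one, mul_one])
    omega
  have hle : PD ≤ H := by
    by_cases hu1 : u ∈ U1
    · have hu'1 : u' ∈ U1 := by
        rw [mem_U1_iff_mem_D hu']
        have hD : u * weylEl w * u' ∈ D := e ▸ d.2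
        exact (Subgroup.mul_mem_cancel_left _ (D.mul_mem (U1_le_D hu1) (weylEl_mem_D w))).1 hD
      have hW : weylEl w ∈ HT :=
        (Subgroup.mul_mem_cancel_left _ (hUT hu1)).1 ((Subgroup.mul_mem_cancel_right _ (hUT hu'1)).1 hmem)
      exact hfin _ (s2_mem_of_weyl hUT hw h2 hW) s2_mem_PT hs2
    · obtain ⟨p, hp0⟩ : ∃ p : T, p = pc.getD 0 1 := ⟨_, rfl⟩
      have hpU : p ∈ UT := hp0 ▸ pc_getD_mem 0
      have hp1 : p ∉ U1 := hp0 ▸ pc_zero_not_mem
      have hpc : ∀ x ∈ U1, p * x * p⁻¹ ∈ U1 := hp0 ▸ fun x hx => pc_zero_conj hx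
      have hu'1 : u' ∉ U1 := fun h => by
        have hD : u * weylEl w * u' ∈ D := e ▸ d.2
        exact hu1 ((mem_U1_iff_mem_D hu).2 ((Subgroup.mul_mem_cancel_right _ (weylEl_mem_D w)).1
          ((Subgroup.mul_mem_cancel_right _ (U1_le_D h)).1 hD)))
      have h1 : u * p⁻¹ ∈ U1 := by
        rw [mul_mem_U1_iff hu (UT.inv_mem hpU), inv_mem_iff]
        exact iff_of_false hu1 hp1
      have h1' : p * u' ∈ U1 := by
        rw [mul_mem_U1_iff hpU hu']
        exact iff_of_false hp1 hu'1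
      have hW : p * weylEl w * p⁻¹ ∈ HT := by
        have : u * p⁻¹ * (p * weylEl w * p⁻¹) * (p * u') ∈ HT := by
          rw [show u * p⁻¹ * (p * weylEl w * p⁻¹) * (p * u') = u * weylEl w * u' by group]
          exact hmem
        exact (Subgroup.mul_mem_cancel_left _ (hUT h1)).1 ((Subgroup.mul_mem_cancel_right _ (hUT h1')).1 this)
      have hq : p * s2 * p⁻¹ ∈ HT := conj_step hUT hpc hw h2 rfl hW
      refine hfin _ hq (PT.mul_mem (PT.mul_mem (UT_le_PT hpU) s2_mem_PT) (PT.inv_mem (UT_le_PT hpU)))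
        fun h => hs2 ?_
      have := UT.mul_mem (UT.mul_mem (UT.inv_mem hpU) h) hpU
      rwa [show p⁻¹ * (p * s2 * p⁻¹) * p = s2 by group] at this
  rcases isCoatom_PD.le_iff.1 hle with h | h
  · exact h
  · rw [h, card_PD] at hcard; omega

/-! ### Elements -/

/-- An element of order sixteen. -/
def xD : D := ⟨sprod pc 34, U1_le_D (sprod_mem_U1 (by norm_num))⟩

theorem xD_mem : xD ∈ PD := mem_PD_iff.2 (UT_le_PT (sprod_pc_mem 34))

theorem xD_pow : xD ^ 16 = 1 ∧ xD ^ 8 = zD :=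
  ⟨Subtype.ext (((rep_pc_prod 34).pow 16).eq Rep.one orders_ok.1),
    Subtype.ext (((rep_pc_prod 34).pow 8).eq rep_zT orders_ok.2.1)⟩

theorem ne_one_of_img {g : T} {A : List ℕ} (hr : Rep g A) {v : ℕ} (hv : v < 2 ^ 26)
    (h : img A v < 2 ^ 26) (hne : img A v ≠ v) : g ≠ 1 := fun e => by
  have := smul_vec hr v
  rw [e, one_smul] at this
  exact hne (vec_inj hv h this).symm

theorem zD_ne_one : zD ≠ 1 := fun h =>
  ne_one_of_img rep_zT (by norm_num) orders_ok.2.2.2.2.2.2.2 orders_ok.2.2.2.2.1 (congrArg Subtype.val h)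

theorem commute_zD {d : D} (hd : d ∈ PD) : d * zD = zD * d :=
  Subtype.ext (commute_zT (mem_PD_iff.1 hd))

/-- The element of order five. -/
def yD : D := ⟨yT, D.mul_mem (pc_tail_PT (by norm_num) (by norm_num)).1 (D_eq_Nz ▸ gens_mem_Nz.2.2)⟩

theorem yD_mem : yD ∈ PD :=
  mem_PD_iff.2 (PT.mul_mem (pc_tail_PT (by norm_num) (by norm_num)).2 s2_mem_PT)

theorem orderOf_yD : orderOf yD = 5 := by
  have := Fact.mk Nat.prime_five
  refine orderOf_eq_prime (Subtype.ext ((rep_yT.pow 5).eq Rep.one orders_ok.2.2.1)) fun h => ?_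
  exact ne_one_of_img rep_yT (by norm_num) orders_ok.2.2.2.2.2.2.1 orders_ok.2.2.2.1 (congrArg Subtype.val h)

theorem sprod_pivot {i m : ℕ} (hi : i < 12) (h : m % 2 ^ (i + 1) = 2 ^ i) :
    sprod pc m ∈ listClosure (pc.drop i) ∧ sprod pc m ∉ listClosure (pc.drop (i + 1)) := by
  have hlt : i < pc.length := by rw [pc_length]; exact hi
  have h0 : m % 2 ^ i = 0 := by
    have := Nat.mod_mod_of_dvd m (pow_dvd_pow 2 (Nat.le_succ i))
    rw [h, Nat.mod_self] at this
    exact this.symm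
  have h1 : m / 2 ^ i % 2 = 1 := by
    rw [pow_succ, Nat.mod_mul, h0, zero_add] at h
    exact Nat.eq_of_mul_eq_mul_left (by positivity) (h.trans (mul_one _).symm)
  have e : sprod pc m = sprod (pc.drop i) (m / 2 ^ i) := by
    conv_lhs => rw [← List.take_append_drop i pc]
    rw [sprod_split, List.length_take, min_eq_left hlt.le, h0, sprod_zero, one_mul]
  rw [e]
  refine ⟨sprod_mem (fun _ => mem_listClosure) _, fun hmem => ?_⟩
  rw [List.drop_eq_getElem_cons hlt, sprod, if_pos h1, ← List.getD_eq_getElem _ 1 hlt] at hmem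
  exact pc_not_mem_drop hi
    ((Subgroup.mul_mem_cancel_right _ (sprod_mem (fun _ => mem_listClosure) _)).1 hmem)

theorem exists_yProd {M : Subgroup T} (hy : yT ∈ M)
    (hM : ∀ v ∈ U1, ∀ g ∈ M, v * g * v⁻¹ ∈ M) :
    ∀ l : List (ℕ × ℕ), l.all (fun p => p.1 % 2 == 0 &&
      comp (sprodB pcMats p.1) (sprodB pcMats p.2) == idB) = true → ∃ e ∈ M, Rep e (yProd l)
  | [], _ => ⟨1, M.one_mem, Rep.one⟩
  | (a, b) :: l, h => by
    simp only [List.all_cons, Bool.and_eq_true, beq_iff_eq] at h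
    obtain ⟨⟨ha, hab⟩, hl⟩ := h
    obtain ⟨e, he, hr⟩ := exists_yProd hy hM l hl
    have hinv : (sprod pc a)⁻¹ = sprod pc b :=
      inv_eq_of_mul_eq_one_right (((rep_pc_prod a).mul (rep_pc_prod b)).eq Rep.one hab)
    refine ⟨sprod pc a * yT * sprod pc b * e, M.mul_mem ?_ he,
      (((rep_pc_prod a).mul rep_yT).mul (rep_pc_prod b)).mul hr⟩
    rw [← hinv]
    exact hM _ (sprod_mem_U1 ha) _ hy

/-- A subgroup normalised by the Sylow subgroup and holding the element of order five is large. -/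
theorem core_large {M : Subgroup T} (hy : yT ∈ M) (hM : ∀ v ∈ U1, ∀ g ∈ M, v * g * v⁻¹ ∈ M) :
    512 ≤ Nat.card ↥(M ⊓ U1) := by
  have hpiv : ∀ i ∈ coreLevels, i < 12 ∧ 1 ≤ i ∧ ∃ g ∈ M, g ∈ listClosure (pc.drop i) ∧
      g ∉ listClosure (pc.drop (i + 1)) := by
    intro i hi
    obtain ⟨j, hj, rfl⟩ := List.getElem_of_mem hi
    obtain ⟨h1, h2, h3, h4, h5⟩ := core_ok.2.2 ⟨j, core_ok.1 ▸ hj⟩
    simp only [List.getD_eq_getElem _ _ hj] at h1 h2 h3 h4 h5
    obtain ⟨e, he, hr⟩ := exists_yProd hy hM _ h5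
    obtain ⟨p1, p2⟩ := sprod_pivot h1 h3
    refine ⟨h1, h2, _, ?_, p1, p2⟩
    rw [(rep_pc_prod _).eq hr h4.symm]
    exact he
  have main : ∀ n i : ℕ, i + n = 12 → 2 ^ (coreLevels.filter fun j => decide (i ≤ j)).length ≤
      Nat.card ↥(M ⊓ listClosure (pc.drop i)) := by
    intro n
    induction n with
    | zero =>
      intro i hi
      have e : (coreLevels.filter fun j => decide (i ≤ j)) = [] := by
        rw [List.filter_eq_nil_iff]
        intro j hj
        have := (hpiv j hj).1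
        simp; omega
      rw [e]
      exact Nat.card_pos
    | succ n ih =>
      intro i hi
      have hlt : i < pc.length := by rw [pc_length]; omega
      have hle : M ⊓ listClosure (pc.drop (i + 1)) ≤ M ⊓ listClosure (pc.drop i) :=
        inf_le_inf_left _ (Subgroup.closure_mono fun z hz => by
          simp only [Set.mem_ofPred_eq] at hz ⊢
          rw [List.drop_eq_getElem_cons hlt]; exact List.mem_cons_of_mem _ hz)
      have hrec := ih (i + 1) (by omega)
      by_cases hil : i ∈ coreLevels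
      · obtain ⟨-, -, g, hg, hg1, hg2⟩ := hpiv i hil
        have hrel : 2 ≤ (M ⊓ listClosure (pc.drop (i + 1))).relIndex (M ⊓ listClosure (pc.drop i)) := by
          have h0 : (M ⊓ listClosure (pc.drop (i + 1))).relIndex (M ⊓ listClosure (pc.drop i)) ≠ 0 :=
            Subgroup.index_ne_zero_of_finite
          have h1 : (M ⊓ listClosure (pc.drop (i + 1))).relIndex (M ⊓ listClosure (pc.drop i)) ≠ 1 :=
            fun e => hg2 (Subgroup.relIndex_eq_one.1 e ⟨hg, hg1⟩).2
          omega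
        have hlen : (coreLevels.filter fun j => decide (i ≤ j)).length =
            (coreLevels.filter fun j => decide (i + 1 ≤ j)).length + 1 := by
          have hb : i < 12 := by omega
          interval_cases i <;> revert hil <;> decide
        rw [hlen, pow_succ,
          ← Subgroup.card_mul_index ((M ⊓ listClosure (pc.drop (i + 1))).subgroupOf (M ⊓ listClosure (pc.drop i))),
          Nat.card_congr (Subgroup.subgroupOfEquivOfLe hle).toEquiv]
        exact Nat.mul_le_mul hrec hrel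
      · have hlen : (coreLevels.filter fun j => decide (i ≤ j)) =
            (coreLevels.filter fun j => decide (i + 1 ≤ j)) := by
          refine List.filter_congr fun j hj => ?_
          have : j ≠ i := fun e => hil (e ▸ hj)
          simp only [decide_eq_decide]; omega
        rw [hlen]
        exact hrec.trans (Nat.le_of_dvd Nat.card_pos (Subgroup.card_dvd_of_le hle))
  have := main 11 1 rfl
  exact le_trans (by decide) this

end Cfsg.Agent.TwistedF4Two
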