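import Cfsg.Agent.TwistedF4Two.BitMat
import Cfsg.Agent.TwistedF4Two.Data

/-!
# Odd elements of the unipotent group have nontrivial squares
-/

set_option autoImplicit false
set_option maxRecDepth 100000
set_option maxHeartbeats 4000000

namespace Cfsg.Agent.TwistedF4Two

/-- One step of the test. -/
def movesVec (v w : List ℕ) : Bool :=
  (img v (img w (img v (img w 16))) ^^^ 16) % 2 ^ 26 != 0

theorem squares_ok : leftHalf.all (fun v => rightHalf.all fun w => movesVec v w) = true := by
  decide +kernel

end Cfsg.Agent.TwistedF4Two
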