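import Cfsg.Agent.TwistedF4Two.Struct
import Cfsg.Agent.TwistedF4Two.Squares

/-!
# The involutions lie in the derived group
-/

set_option autoImplicit false
set_option maxRecDepth 100000

namespace Cfsg.Agent.TwistedF4Two

open scoped Matrix

attribute [local irreducible] rho toM comp img Cfsg.Lie.chevF4 gen

theorem lt_eq {k : ℕ} (h : k < 4) : lt k = gen ⟨k, h⟩ := by
  rw [lt]; exact congrArg gen (Fin.ext (Nat.mod_eq_of_lt h))

theorem abel_gen : Abelianization.of (lt 0) = 1 ∧ Abelianization.of (lt 1) = 1 ∧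
    Abelianization.of (lt 3) = Abelianization.of (lt 2) ∧
    Abelianization.of (lt 2) * Abelianization.of (lt 2) = 1 := by
  set f := (Abelianization.of : T →* Abelianization T) with hf
  have key : ∀ l m : List ℕ, bword l = bword m →
      (l.map fun k => f (lt k)).prod = (m.map fun k => f (lt k)).prod := by
    intro l m h
    have e := congrArg f (elt_eq_of_bword h)
    simpa [elt, map_list_prod, List.map_map, Function.comp_def] using e
  have e1 := key [3, 1, 0, 2, 0, 1] [0, 1, 0, 2, 0, 1, 3] (by decide +kernel)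
  have e2 := key [1, 3, 1, 0, 2, 0] [0, 1, 2, 0, 1, 3, 1] (by decide +kernel)
  have e3 := key [2, 2, 3] [3, 3, 2] (by decide +kernel)
  have e4 := key [0, 2, 0, 2, 0, 2, 0, 1, 2, 0] [1, 2, 2, 0, 2, 0, 2, 2, 0, 2] (by decide +kernel)
  simp only [List.map_cons, List.map_nil, List.prod_cons, List.prod_nil, mul_one] at e1 e2 e3 e4
  generalize f (lt 0) = A at e1 e2 e3 e4 ⊢
  generalize f (lt 1) = B at e1 e2 e3 e4 ⊢
  generalize f (lt 2) = C at e1 e2 e3 e4 ⊢
  generalize f (lt 3) = D at e1 e2 e3 e4 ⊢
  have hA : A = 1 := by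
    simp only [mul_comm, mul_left_comm, mul_assoc] at e1
    simpa [mul_left_cancel_iff] using e1.symm
  subst hA
  simp only [one_mul, mul_one] at e2 e3 e4
  have hB : B = 1 := by
    simp only [mul_comm, mul_left_comm, mul_assoc] at e2
    simpa [mul_left_cancel_iff] using e2.symm
  subst hB
  simp only [one_mul, mul_one] at e3 e4
  have hD : D = C := by
    simp only [mul_comm, mul_left_comm] at e3
    simpa [mul_left_cancel_iff] using e3.symm
  exact ⟨rfl, rfl, hD, by simpa [mul_left_cancel_iff] using e4.symm⟩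

theorem abel_elt : ∀ {l : List ℕ}, l.all (· < 4) = true →
    Abelianization.of (elt l) = Abelianization.of (lt 2) ^ l.countP (fun i => 2 ≤ i)
  | [], _ => by rw [elt, List.map_nil, List.prod_nil, map_one]; exact (pow_zero _).symm
  | k :: l, h => by
    simp only [List.all_cons, Bool.and_eq_true, decide_eq_true_eq] at h
    have ih := abel_elt h.2
    obtain ⟨hA, hB, hD, -⟩ := abel_gen
    rw [elt, List.map_cons, List.prod_cons, map_mul, ← elt, ih, List.countP_cons]
    match k, h.1 with
    | 0, _ => simp [hA]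
    | 1, _ => simp [hB]
    | 2, _ => simp [pow_succ']
    | 3, _ => simp [hD, pow_succ']

theorem pc_tail_mem (k : ℕ) (hk : k < 11) : pc.getD (k + 1) 1 ∈ commutator T := by
  rw [← Abelianization.ker_of, MonoidHom.mem_ker]
  have e : pc.getD (k + 1) 1 = elt (pcWords.getD (k + 1) []) := by
    have h1 : k + 1 < pc.length := by rw [pc_length]; omega
    rw [List.getD_eq_getElem _ _ h1,
      List.getD_eq_getElem _ _ (lt_of_lt_of_eq h1 (List.length_map _))]
    simp [pc]
  obtain ⟨r, hr⟩ := Nat.dvd_of_mod_eq_zero (parity_ok ⟨k, hk⟩)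
  simp only at hr
  rw [e, abel_elt (pcWords_ok ⟨k + 1, by omega⟩).1, hr, pow_mul, pow_two, abel_gen.2.2.2, one_pow]

theorem sq_ne_one {u : T} {v w : List ℕ} (hv : v.length = 26) (hw : w.length = 26)
    (hr : Rep u (comp v w)) (h : movesVec v w = true) : u * u ≠ 1 := by
  intro he
  have e := congrArg rho he
  rw [map_mul, map_one, hr.1, toM_comp _ _ hv.le] at e
  have e' := congrArg (fun A : M => A *ᵥ toV 16) e
  simp only [← Matrix.mulVec_mulVec, Matrix.one_mulVec, toM_mulVec _ hv.le, toM_mulVec _ hw.le] at e'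
  simp only [movesVec, bne_iff_ne, ne_eq] at h
  refine h (Nat.eq_of_testBit_eq fun i => ?_)
  rw [Nat.testBit_mod_two_pow, Nat.zero_testBit, Nat.testBit_xor]
  by_cases hi : i < 26
  · have hb := congrFun e' ⟨i, hi⟩
    simp only [toV, bit] at hb
    revert hb
    cases (img v (img w (img v (img w 16)))).testBit i <;>
      cases Nat.testBit 16 i <;> simp [hi]
  · simp [hi]

theorem mem_commutator_of_mem_UT {u : T} (hu : u ∈ UT) (h2 : u * u = 1) : u ∈ commutator T := by
  obtain ⟨m, rfl⟩ := exists_sprod_pc hu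
  have hlen := pc_length
  have h0 : 0 < pc.length := by rw [hlen]; norm_num
  have hcons : pc = pc[0] :: pc.drop 1 := by
    rw [List.getElem_cons_drop, List.drop_zero]
  rcases Nat.mod_two_eq_zero_or_one m with hm | hm
  · rw [hcons, sprod, if_neg (by omega), one_mul]
    refine sprod_mem (fun z hz => ?_) _
    obtain ⟨i, hi, rfl⟩ := List.getElem_of_mem hz
    rw [List.length_drop, hlen] at hi
    rw [List.getElem_drop, ← List.getD_eq_getElem _ 1, add_comm]
    exact pc_tail_mem i (by omega)
  exfalso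
  have hl6 : (pc.take 6).length = 6 := by rw [List.length_take, hlen]; norm_num
  have hr6 : (pc.drop 6).length = 6 := by rw [List.length_drop, hlen]
  have es := sprod_split (pc.take 6) (pc.drop 6) m
  rw [List.take_append_drop, hl6] at es
  have eq' := sprod_split (pc.drop 6) [] (m / 2 ^ 6)
  rw [List.append_nil, hr6] at eq'
  simp only [sprod, mul_one] at eq'
  rw [eq'] at es
  set p := m % 2 ^ 6 / 2 with hp
  set q := m / 2 ^ 6 % 2 ^ 6 with hq
  have hp32 : p < 32 := by omega
  have hq64 : q < 64 := by omega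
  have hm' : m % 2 ^ 6 = 2 * p + 1 := by omega
  obtain ⟨hv, hvl⟩ := halves_ok.1 ⟨p, hp32⟩
  obtain ⟨hw, hwl⟩ := halves_ok.2 ⟨q, hq64⟩
  simp only at hv hw hvl hwl
  have hr : Rep (sprod pc m) (comp (leftHalf.getD p []) (rightHalf.getD q [])) := by
    rw [es, hm', hv, hw]
    exact (rep_pc_take 6 _).mul (rep_pc_drop 6 _)
  refine sq_ne_one hvl hwl hr ?_ h2
  have hall := squares_ok
  simp only [List.all_eq_true] at hall
  have l1 : leftHalf.length = 32 ∧ rightHalf.length = 64 := by decide +kernel
  refine hall _ ?_ _ ?_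
  · rw [List.getD_eq_getElem _ _ (lt_of_lt_of_eq hp32 l1.1.symm)]; exact List.getElem_mem _
  · rw [List.getD_eq_getElem _ _ (lt_of_lt_of_eq hq64 l1.2.symm)]; exact List.getElem_mem _

theorem involution_mem_commutator (g : T) (hg : orderOf g = 2) : g ∈ commutator T := by
  obtain ⟨x, hx⟩ := exists_conj_mem_UT hg
  have h2 : g * g = 1 := by
    have := pow_orderOf_eq_one g
    rwa [hg, pow_two] at this
  have h := mem_commutator_of_mem_UT hx (by
    rw [show x * g * x⁻¹ * (x * g * x⁻¹) = x * (g * g) * x⁻¹ by group, h2]; group)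
  have hn : (commutator T).Normal := inferInstance
  have h' := hn.conj_mem _ h x⁻¹
  rwa [show x⁻¹ * (x * g * x⁻¹) * x⁻¹⁻¹ = g by group] at h'

end Cfsg.Agent.TwistedF4Two
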