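import Cfsg.Agent.TwistedF4Two.Character

/-!
# The Tits group

Its index, order, primitive action on the points and simplicity.
-/

set_option autoImplicit false
set_option maxRecDepth 100000

namespace Cfsg.Agent.TwistedF4Two

open scoped Matrix
open scoped Pointwise
open MulAction

attribute [local irreducible] rho toM comp img Cfsg.Lie.chevF4 gen

/-- The derived group. -/
abbrev D : Subgroup T := commutator T

/-- The central involution of the unipotent group. -/
def zT : T := sprod pc zMask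

/-- Its matrix. -/
def zB : List ℕ := sprodB pcMats zMask

theorem rep_zT : Rep zT zB := rep_pc_prod _

theorem zT_mem_D : zT ∈ D := by
  have h0 : 0 < pc.length := by rw [pc_length]; norm_num
  have hcons : pc = pc[0] :: pc.drop 1 := by rw [List.getElem_cons_drop, List.drop_zero]
  rw [zT, hcons, sprod, if_neg (by decide), one_mul]
  refine sprod_mem (fun x hx => ?_) _
  obtain ⟨i, hi, rfl⟩ := List.getElem_of_mem hx
  rw [List.length_drop, pc_length] at hi
  rw [List.getElem_drop, ← List.getD_eq_getElem _ 1, add_comm]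
  exact pc_tail_mem i (by omega)

/-- The matrices of the generators used in conjugations. -/
def glB : List (List ℕ) := pcMats ++ [w1M, w2M]

/-- Their inverses. -/
def glInvB : List (List ℕ) := pcInv.map (sprodB pcMats) ++ [w1M, w2M]

/-- A conjugate of the central involution. -/
def cjB : List ℕ → List ℕ
  | [] => zB
  | j :: W => comp (comp (glB.getD j idB) (cjB W)) (glInvB.getD j idB)

/-- A product of conjugates of the central involution. -/
def cjProd : List (List ℕ) → List ℕ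
  | [] => idB
  | W :: L => comp (cjB W) (cjProd L)

theorem glInv_ok : glB.length = 14 ∧ glInvB.length = 14 ∧
    ∀ j : Fin 14, comp (glB.getD (j : ℕ) idB) (glInvB.getD (j : ℕ) idB) = idB := by decide +kernel

theorem exists_rep_gl (j : ℕ) : ∃ g : T, Rep g (glB.getD j idB) ∧ Rep g⁻¹ (glInvB.getD j idB) := by
  rcases Nat.lt_or_ge j 14 with hj | hj
  · obtain ⟨g, hg⟩ : ∃ g : T, Rep g (glB.getD j idB) := by
      by_cases h : j < 12
      · rw [glB, List.getD_append _ _ _ _ (pcMats_length.symm ▸ h)]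
        exact ⟨_, rep_pc j⟩
      · rw [glB, List.getD_append_right _ _ _ _ (by rw [pcMats_length]; omega), pcMats_length]
        obtain rfl | rfl : j = 12 ∨ j = 13 := by omega
        · exact ⟨s1, rep_s1⟩
        · exact ⟨s2, rep_s2⟩
    obtain ⟨g', hg'⟩ : ∃ g : T, Rep g (glInvB.getD j idB) := by
      have hlen : (pcInv.map (sprodB pcMats)).length = 12 := by decide
      by_cases h : j < 12
      · rw [glInvB, List.getD_append _ _ _ _ (hlen.symm ▸ h), List.getD_eq_getElem _ _ (hlen.symm ▸ h),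
          List.getElem_map]
        exact ⟨_, rep_pc_prod _⟩
      · rw [glInvB, List.getD_append_right _ _ _ _ (by rw [hlen]; omega), hlen]
        obtain rfl | rfl : j = 12 ∨ j = 13 := by omega
        · exact ⟨s1, rep_s1⟩
        · exact ⟨s2, rep_s2⟩
    have e : g * g' = 1 := (hg.mul hg').eq Rep.one (glInv_ok.2.2 ⟨j, hj⟩)
    exact ⟨g, hg, inv_eq_of_mul_eq_one_right e ▸ hg'⟩
  · refine ⟨1, ?_, ?_⟩
    · rw [List.getD_eq_default _ _ (glInv_ok.1.trans_le hj)]; exact Rep.one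
    · rw [List.getD_eq_default _ _ (glInv_ok.2.1.trans_le hj), inv_one]; exact Rep.one

/-- The normal closure of the central involution. -/
def Nz : Subgroup T := Subgroup.normalClosure {zT}

theorem exists_cjProd (L : List (List ℕ)) : ∃ e ∈ Nz, Rep e (cjProd L) := by
  have hcj : ∀ W, ∃ e ∈ Nz, Rep e (cjB W) := by
    intro W
    induction W with
    | nil => exact ⟨zT, Subgroup.subset_normalClosure rfl, rep_zT⟩
    | cons j W ih =>
      obtain ⟨e, he, hr⟩ := ih
      obtain ⟨g, hg, hg'⟩ := exists_rep_gl j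
      exact ⟨g * e * g⁻¹, Subgroup.normalClosure_normal.conj_mem e he g, (hg.mul hr).mul hg'⟩
  induction L with
  | nil => exact ⟨1, Subgroup.one_mem _, Rep.one⟩
  | cons W L ih =>
    obtain ⟨e, he, hr⟩ := ih
    obtain ⟨c, hc, hc'⟩ := hcj W
    exact ⟨c * e, Subgroup.mul_mem _ hc he, hc'.mul hr⟩

theorem mem_Nz_of_rep {g : T} {A : List ℕ} (hg : Rep g A) (L : List (List ℕ)) (h : cjProd L = A) :
    g ∈ Nz := by
  obtain ⟨e, he, hr⟩ := exists_cjProd L
  exact hr.eq hg h ▸ he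

theorem gen_wits_ok :
    cjProd (genWits.getD 0 []) = pcMats.getD 1 [] ∧ cjProd (genWits.getD 1 []) = pcMats.getD 3 [] ∧
    cjProd (genWits.getD 2 []) = pcMats.getD 4 [] ∧ cjProd (genWits.getD 3 []) = pcMats.getD 11 [] ∧
    cjProd (genWits.getD 4 []) = w1M ∧ cjProd (genWits.getD 5 []) = w2M ∧
    cjProd (genWits.getD 6 []) = comp (pcMats.getD 5 []) (comp (comp (comp (pcMats.getD 0 [])
      (pcMats.getD 1 [])) (glInvB.getD 0 idB)) (pcMats.getD 1 [])) ∧
    pcMats.getD 2 [] = comp (comp (comp (comp (pcMats.getD 0 []) (pcMats.getD 1 []))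
      (glInvB.getD 0 idB)) (pcMats.getD 1 [])) (pcMats.getD 4 []) ∧
    pcMats.getD 6 [] = comp (comp (comp (pcMats.getD 5 []) (pcMats.getD 4 []))
      (comp (comp w2M (pcMats.getD 11 [])) w2M)) (pcMats.getD 3 []) ∧
    pcMats.getD 7 [] = comp (comp (comp (pcMats.getD 4 []) (pcMats.getD 3 []))
      (comp (comp w1M (pcMats.getD 3 [])) w1M)) (pcMats.getD 5 []) ∧
    pcMats.getD 8 [] = comp (comp (comp (pcMats.getD 4 []) (pcMats.getD 5 []))
      (comp (comp w1M (pcMats.getD 3 [])) w1M)) (pcMats.getD 3 []) ∧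
    pcMats.getD 9 [] = comp (comp (comp (pcMats.getD 5 []) (pcMats.getD 4 [])) (pcMats.getD 3 []))
      (comp (comp w1M (pcMats.getD 3 [])) w1M) ∧
    pcMats.getD 10 [] = comp (comp (comp (comp (comp w1M (pcMats.getD 3 [])) w1M)
      (comp (comp w2M (pcMats.getD 1 [])) w2M)) (pcMats.getD 4 []))
      (comp (comp w1M (pcMats.getD 3 [])) w1M) ∧
    comp (pcMats.getD 8 []) (pcMats.getD 7 []) = comp zB (comp (pcMats.getD 7 []) (pcMats.getD 8 [])) ∧
    (∀ i : Fin 12, comp zB (pcMats.getD (i : ℕ) []) = comp (pcMats.getD (i : ℕ) []) zB) ∧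
    comp zB w2M = comp w2M zB := by decide +kernel

theorem gens_mem_Nz : (∀ i, 1 ≤ i → i < 12 → pc.getD i 1 ∈ Nz) ∧ s1 ∈ Nz ∧ s2 ∈ Nz := by
  obtain ⟨h1, h3, h4, h11, hs1, hs2, h5, h2, h6, h7, h8, h9, h10, -⟩ := gen_wits_ok
  have m : ∀ i, i < 12 → ∀ L, cjProd L = pcMats.getD i [] → pc.getD i 1 ∈ Nz :=
    fun i hi L h => mem_Nz_of_rep (rep_pc' hi) L h
  have m1 := m 1 (by norm_num) _ h1
  have m3 := m 3 (by norm_num) _ h3
  have m4 := m 4 (by norm_num) _ h4
  have m11 := m 11 (by norm_num) _ h11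
  have ms1 := mem_Nz_of_rep rep_s1 _ hs1
  have ms2 := mem_Nz_of_rep rep_s2 _ hs2
  have hn : Nz.Normal := Subgroup.normalClosure_normal
  obtain ⟨g0, hg0, hg0'⟩ := exists_rep_gl 0
  have r0 : Rep g0 (pcMats.getD 0 []) := by
    have e : glB.getD 0 idB = pcMats.getD 0 [] := by decide
    rwa [e] at hg0
  have mc : g0 * pc.getD 1 1 * g0⁻¹ ∈ Nz := hn.conj_mem _ m1 g0
  have rc := (r0.mul (rep_pc' (k := 1) (by norm_num))).mul hg0'
  have m5 : pc.getD 5 1 ∈ Nz := by
    have e := mem_Nz_of_rep ((rep_pc' (k := 5) (by norm_num)).mul (rc.mul (rep_pc' (k := 1) (by norm_num)))) _ h5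
    exact (Subgroup.mul_mem_cancel_right _ (Nz.mul_mem mc m1)).1 e
  have m2 : pc.getD 2 1 ∈ Nz := by
    rw [(rep_pc' (k := 2) (by norm_num)).eq
      ((rc.mul (rep_pc' (k := 1) (by norm_num))).mul (rep_pc' (k := 4) (by norm_num))) h2]
    exact Nz.mul_mem (Nz.mul_mem mc m1) m4
  have ma := hn.conj_mem _ m3 s1
  have mb := hn.conj_mem _ m1 s2
  have mb' := hn.conj_mem _ m11 s2
  have e1 : s1⁻¹ = s1 := inv_eq_of_mul_eq_one_right s1_sq
  have e2 : s2⁻¹ = s2 := inv_eq_of_mul_eq_one_right s2_sq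
  rw [e1] at ma
  rw [e2] at mb mb'
  have ra := (rep_s1.mul (rep_pc' (k := 3) (by norm_num))).mul rep_s1
  have rb := (rep_s2.mul (rep_pc' (k := 1) (by norm_num))).mul rep_s2
  have rb' := (rep_s2.mul (rep_pc' (k := 11) (by norm_num))).mul rep_s2
  refine ⟨fun i hi1 hi2 => ?_, ms1, ms2⟩
  interval_cases i
  · exact m1
  · exact m2
  · exact m3
  · exact m4
  · exact m5
  · rw [(rep_pc' (k := 6) (by norm_num)).eq ((((rep_pc' (k := 5) (by norm_num)).mul
      (rep_pc' (k := 4) (by norm_num))).mul rb').mul (rep_pc' (k := 3) (by norm_num))) h6]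
    exact Nz.mul_mem (Nz.mul_mem (Nz.mul_mem m5 m4) mb') m3
  · rw [(rep_pc' (k := 7) (by norm_num)).eq ((((rep_pc' (k := 4) (by norm_num)).mul
      (rep_pc' (k := 3) (by norm_num))).mul ra).mul (rep_pc' (k := 5) (by norm_num))) h7]
    exact Nz.mul_mem (Nz.mul_mem (Nz.mul_mem m4 m3) ma) m5
  · rw [(rep_pc' (k := 8) (by norm_num)).eq ((((rep_pc' (k := 4) (by norm_num)).mul
      (rep_pc' (k := 5) (by norm_num))).mul ra).mul (rep_pc' (k := 3) (by norm_num))) h8]
    exact Nz.mul_mem (Nz.mul_mem (Nz.mul_mem m4 m5) ma) m3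
  · rw [(rep_pc' (k := 9) (by norm_num)).eq ((((rep_pc' (k := 5) (by norm_num)).mul
      (rep_pc' (k := 4) (by norm_num))).mul (rep_pc' (k := 3) (by norm_num))).mul ra) h9]
    exact Nz.mul_mem (Nz.mul_mem (Nz.mul_mem m5 m4) m3) ma
  · rw [(rep_pc' (k := 10) (by norm_num)).eq
      (((ra.mul rb).mul (rep_pc' (k := 4) (by norm_num))).mul ra) h10]
    exact Nz.mul_mem (Nz.mul_mem (Nz.mul_mem ma mb) m4) ma
  · exact m11

theorem Nz_le_D : Nz ≤ D := Subgroup.normalClosure_le_normal (Set.singleton_subset_iff.2 zT_mem_D)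

theorem mem_Nz_or (g : T) : g ∈ Nz ∨ ∃ n ∈ Nz, g = n * pc.getD 0 1 := by
  set x := pc.getD 0 1 with hx
  have hn : Nz.Normal := Subgroup.normalClosure_normal
  have hx2 : x * x ∈ Nz := by
    have h0 : 0 < pc.length := by rw [pc_length]; norm_num
    have e := ((rep_pc' (k := 0) (by norm_num)).mul (rep_pc' (k := 0) (by norm_num))).eq
      (rep_pc_drop 1 _) (pcSquares_ok 0)
    rw [hx, e]
    refine sprod_mem (fun z hz => ?_) _
    obtain ⟨i, hi, rfl⟩ := List.getElem_of_mem hz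
    rw [List.length_drop, pc_length] at hi
    rw [List.getElem_drop, ← List.getD_eq_getElem _ 1]
    exact gens_mem_Nz.1 _ (by omega) (by omega)
  let K : Subgroup T := Nz ⊔ Subgroup.zpowers x
  have hU : UT ≤ K := (Subgroup.closure_le _).2 fun y hy => by
    obtain ⟨i, hi, rfl, -⟩ := rep_of_mem_pc hy
    rcases Nat.eq_zero_or_pos i with rfl | hi0
    · exact Subgroup.mem_sup_right (Subgroup.mem_zpowers x)
    · exact Subgroup.mem_sup_left (gens_mem_Nz.1 i hi0 hi)
  have hW : ∀ l : List ℕ, wordG [1, s1, s2] l ∈ K := wordG_mem (fun y hy => by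
    simp only [List.mem_cons, List.not_mem_nil, or_false] at hy
    rcases hy with rfl | rfl | rfl
    · exact K.one_mem
    · exact Subgroup.mem_sup_left gens_mem_Nz.2.1
    · exact Subgroup.mem_sup_left gens_mem_Nz.2.2)
  have hg : g ∈ K := by
    obtain ⟨u, hu, w, -, u', hu', rfl⟩ := inCells_all g
    exact K.mul_mem (K.mul_mem (hU hu) (hW _)) (hU hu')
  obtain ⟨n, hn', y, hy, rfl⟩ := Subgroup.mem_sup_of_normal_left.1 hg
  obtain ⟨i, rfl⟩ := Subgroup.mem_zpowers_iff.1 hy
  have h2 : ∀ k : ℤ, x ^ (2 * k) ∈ Nz := fun k => by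
    rw [zpow_mul, show x ^ (2 : ℤ) = x * x by rw [zpow_two]]
    exact Nz.zpow_mem hx2 k
  rcases Int.even_or_odd' i with ⟨k, rfl | rfl⟩
  · exact Or.inl (Nz.mul_mem hn' (h2 k))
  · refine Or.inr ⟨n * x ^ (2 * k), Nz.mul_mem hn' (h2 k), ?_⟩
    rw [zpow_add, zpow_one, mul_assoc]

theorem D_eq_Nz : D = Nz := by
  refine le_antisymm (fun g hg => ?_) Nz_le_D
  rcases mem_Nz_or g with h | ⟨n, hn, rfl⟩
  · exact h
  · exact absurd ((Subgroup.mul_mem_cancel_left _ (Nz_le_D hn)).1 hg) pc_zero_not_mem_commutator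

theorem mem_D_or (g : T) : g ∈ D ∨ ∃ n ∈ D, g = n * pc.getD 0 1 := by
  rw [D_eq_Nz]; exact mem_Nz_or g

theorem index_D : D.index = 2 := by
  rw [Subgroup.index_eq_two_iff]
  refine ⟨(pc.getD 0 1)⁻¹, fun b => ?_⟩
  rcases mem_D_or b with h | ⟨n, hn, rfl⟩
  · refine Or.inr ⟨h, fun h' => pc_zero_not_mem_commutator ?_⟩
    exact inv_mem_iff.1 ((Subgroup.mul_mem_cancel_left _ h).1 h')
  · refine Or.inl ⟨by rwa [mul_assoc, mul_inv_cancel, mul_one], fun h' =>
      pc_zero_not_mem_commutator ((Subgroup.mul_mem_cancel_left _ hn).1 h')⟩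

theorem card_D : Nat.card D = 17971200 := by
  have h := Subgroup.card_mul_index D
  rw [index_D, card_T] at h
  omega

end Cfsg.Agent.TwistedF4Two
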