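import Cfsg.Agent.StemCert.Defs

/-! Generated data: the action on the points. -/

set_option autoImplicit false
set_option maxRecDepth 100000

namespace Cfsg.Agent.TwistedF4Two.MultCert

open Cfsg.Agent.StemCert

/-- A part of an array. -/
noncomputable def part1207 : Arr ℕ :=
  (.node 54854 (.node 1314971 (.node 17320479 (.node 26827598 (.node 43155566 .nil .nil) (.node 59912523 .nil .nil)) (.node 34738176 (.node 51568959 .nil .nil) .nil)) (.node 22694495 (.node 31148814 (.node 47378558 .nil .nil) (.node 64102731 .nil .nil)) (.node 38932480 (.node 55705867 .nil .nil) .nil))) (.node 1956616 (.node 19415195 (.node 28990109 (.node 45252779 .nil .nil) (.node 62010814 .nil .nil)) (.node 36868725 (.node 53635066 .nil .nil) .nil)) (.node 24732038 (.node 33112707 (.node 49460639 .nil .nil) (.node 66216122 .nil .nil)) (.node 41080677 (.node 57852670 .nil .nil) .nil))))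

/-- A part of an array. -/
noncomputable def part1208 : Arr ℕ :=
  (.node 1052672 (.node 1677696 (.node 18891428 (.node 28529148 (.node 44217050 .nil .nil) (.node 60995413 .nil .nil)) (.node 35819706 (.node 52598069 .nil .nil) .nil)) (.node 24333050 (.node 32657577 (.node 48404474 .nil .nil) (.node 65196783 .nil .nil)) (.node 40031658 (.node 56758427 .nil .nil) .nil))) (.node 16794116 (.node 22037343 (.node 30429781 (.node 46321780 .nil .nil) (.node 63082853 .nil .nil)) (.node 37883904 (.node 54710581 .nil .nil) .nil)) (.node 26235413 (.node 33689600 (.node 50467083 .nil .nil) .nil) (.node 42119268 (.node 58896751 .nil .nil) .nil))))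

/-- A part of an array. -/
noncomputable def part1209 : Arr ℕ :=
  (.node 33796 part1207 part1208)

/-- A part of an array. -/
noncomputable def part1210 : Arr ℕ :=
  (.node 63300 (.node 1446836 (.node 17660428 (.node 27155285 (.node 43705818 .nil .nil) (.node 60478711 .nil .nil)) (.node 35287452 (.node 52035595 .nil .nil) .nil)) (.node 23030348 (.node 31218453 (.node 47879527 .nil .nil) (.node 64668894 .nil .nil)) (.node 39481789 (.node 56287386 .nil .nil) .nil))) (.node 2084866 (.node 19755422 (.node 29180635 (.node 45802783 .nil .nil) (.node 62574594 .nil .nil)) (.node 37417961 (.node 54167246 .nil .nil) .nil)) (.node 24920195 (.node 33446597 (.node 49991682 .nil .nil) (.node 66749867 .nil .nil)) (.node 41596508 (.node 58336235 .nil .nil) .nil))))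

/-- A part of an array. -/
noncomputable def part1211 : Arr ℕ :=
  (.node 1183752 (.node 1807290 (.node 19223529 (.node 28594361 (.node 44758630 .nil .nil) (.node 61502413 .nil .nil)) (.node 36360194 (.node 53106089 .nil .nil) .nil)) (.node 24529919 (.node 32850412 (.node 48943975 .nil .nil) (.node 65672950 .nil .nil)) (.node 40539575 (.node 57331714 .nil .nil) .nil))) (.node 17125975 (.node 22365004 (.node 30884701 (.node 46830669 .nil .nil) (.node 63591896 .nil .nil)) (.node 38424761 (.node 55185672 .nil .nil) .nil)) (.node 26690333 (.node 34230424 (.node 51040695 .nil .nil) .nil) (.node 42661112 (.node 59405783 .nil .nil) .nil))))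

/-- A part of an array. -/
noncomputable def part1212 : Arr ℕ :=
  (.node 46406 part1210 part1211)

/-- A part of an array. -/
noncomputable def part1213 : Arr ℕ :=
  (.node 56598 (.node 1325495 (.node 17353279 (.node 26860437 (.node 43430119 .nil .nil) (.node 60179278 .nil .nil)) (.node 35004424 (.node 51811247 .nil .nil) .nil)) (.node 22735690 (.node 31185656 (.node 47628475 .nil .nil) (.node 64377614 .nil .nil)) (.node 39198792 (.node 55997271 .nil .nil) .nil))) (.node 1961984 (.node 19447995 (.node 29020330 (.node 45527042 .nil .nil) (.node 62277531 .nil .nil)) (.node 37135065 (.node 53876174 .nil .nil) .nil)) (.node 24756867 (.node 33151989 (.node 49710462 .nil .nil) (.node 66458331 .nil .nil)) (.node 41346957 (.node 58109954 .nil .nil) .nil))))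

/-- A part of an array. -/
noncomputable def part1214 : Arr ℕ :=
  (.node 1061132 (.node 1686024 (.node 18924068 (.node 28563759 (.node 44470911 .nil .nil) (.node 61265380 .nil .nil)) (.node 36089858 (.node 52885401 .nil .nil) .nil)) (.node 24373615 (.node 32688907 (.node 48674583 .nil .nil) (.node 65449986 .nil .nil)) (.node 40301910 (.node 57045735 .nil .nil) .nil))) (.node 16827012 (.node 22078174 (.node 30458239 (.node 46592169 .nil .nil) (.node 63370168 .nil .nil)) (.node 38154312 (.node 54965245 .nil .nil) .nil)) (.node 26267650 (.node 33959944 (.node 50754327 .nil .nil) .nil) (.node 42373365 (.node 59167722 .nil .nil) .nil))))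

/-- A part of an array. -/
noncomputable def part1215 : Arr ℕ :=
  (.node 36380 part1213 part1214)

/-- A part of an array. -/
noncomputable def part1216 : Arr ℕ :=
  (.node 64596 (.node 1454267 (.node 17690624 (.node 27185638 (.node 43964173 .nil .nil) (.node 60727464 .nil .nil)) (.node 35537390 (.node 52328165 .nil .nil) .nil)) (.node 23052669 (.node 31244419 (.node 48146152 .nil .nil) (.node 64926165 .nil .nil)) (.node 39731355 (.node 56530860 .nil .nil) .nil))) (.node 2094505 (.node 19788505 (.node 29213312 (.node 46061420 .nil .nil) (.node 62825721 .nil .nil)) (.node 37667771 (.node 54456320 .nil .nil) .nil)) (.node 24963462 (.node 33475039 (.node 50258733 .nil .nil) (.node 67039232 .nil .nil)) (.node 41846622 (.node 58610937 .nil .nil) .nil))))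

/-- A part of an array. -/
noncomputable def part1217 : Arr ℕ :=
  (.node 1192212 (.node 1814530 (.node 19255298 (.node 28627502 (.node 45012061 .nil .nil) (.node 61741030 .nil .nil)) (.node 36630528 (.node 53359547 .nil .nil) .nil)) (.node 24568430 (.node 32886786 (.node 49213440 .nil .nil) (.node 65958805 .nil .nil)) (.node 40809701 (.node 57587668 .nil .nil) .nil))) (.node 17160447 (.node 22407405 (.node 30923319 (.node 47101850 .nil .nil) (.node 63844363 .nil .nil)) (.node 38695391 (.node 55473898 .nil .nil) .nil)) (.node 26725194 (.node 34500778 (.node 51296149 .nil .nil) .nil) (.node 42915447 (.node 59642184 .nil .nil) .nil))))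

/-- A part of an array. -/
noncomputable def part1218 : Arr ℕ :=
  (.node 48926 part1216 part1217)

/-- A part of an array. -/
noncomputable def part1219 : Arr ℕ :=
  (.node 56138 (.node 1321383 (.node 17334443 (.node 26836992 (.node 43286659 .nil .nil) (.node 60060189 .nil .nil)) (.node 34877448 (.node 51675776 .nil .nil) .nil)) (.node 22716601 (.node 31162669 (.node 47505615 .nil .nil) (.node 64254557 .nil .nil)) (.node 39067720 (.node 55865932 .nil .nil) .nil))) (.node 1960324 (.node 19432252 (.node 29002251 (.node 45384320 .nil .nil) (.node 62156970 .nil .nil)) (.node 37007935 (.node 53739651 .nil .nil) .nil)) (.node 24739840 (.node 33128448 (.node 49587944 .nil .nil) (.node 66335982 .nil .nil)) (.node 41215599 (.node 57980031 .nil .nil) .nil))))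

/-- A part of an array. -/
noncomputable def part1220 : Arr ℕ :=
  (.node 1057028 (.node 1680260 (.node 18907264 (.node 28543630 (.node 44343481 .nil .nil) (.node 61137597 .nil .nil)) (.node 35954856 (.node 52748972 .nil .nil) .nil)) (.node 24355816 (.node 32676334 (.node 48534725 .nil .nil) (.node 65312343 .nil .nil)) (.node 40170744 (.node 56915690 .nil .nil) .nil))) (.node 16809984 (.node 22061349 (.node 30446526 (.node 46452949 .nil .nil) (.node 63230663 .nil .nil)) (.node 38023240 (.node 54833882 .nil .nil) .nil)) (.node 26247811 (.node 33824776 (.node 50618892 .nil .nil) .nil) (.node 42246297 (.node 59040413 .nil .nil) .nil))))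

/-- A part of an array. -/
noncomputable def part1221 : Arr ℕ :=
  (.node 35336 part1219 part1220)

/-- A part of an array. -/
noncomputable def part1222 : Arr ℕ :=
  (.node 64264 (.node 1450155 (.node 17677031 (.node 27167599 (.node 43837309 .nil .nil) (.node 60592591 .nil .nil)) (.node 35410430 (.node 52193274 .nil .nil) .nil)) (.node 23038938 (.node 31234634 (.node 48006784 .nil .nil) (.node 64786618 .nil .nil)) (.node 39600259 (.node 56399503 .nil .nil) .nil))) (.node 2089646 (.node 19771394 (.node 29202749 (.node 45934042 .nil .nil) (.node 62690268 .nil .nil)) (.node 37540717 (.node 54322525 .nil .nil) .nil)) (.node 24947273 (.node 33461046 (.node 50118787 .nil .nil) (.node 66901549 .nil .nil)) (.node 41715328 (.node 58478744 .nil .nil) .nil))))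

/-- A part of an array. -/
noncomputable def part1223 : Arr ℕ :=
  (.node 1188124 (.node 1812377 (.node 19239866 (.node 28606595 (.node 44885679 .nil .nil) (.node 61612203 .nil .nil)) (.node 36495514 (.node 53225118 .nil .nil) .nil)) (.node 24553901 (.node 32867307 (.node 49075178 .nil .nil) (.node 65820120 .nil .nil)) (.node 40678775 (.node 57455557 .nil .nil) .nil))) (.node 17144328 (.node 22391370 (.node 30902778 (.node 46962682 .nil .nil) (.node 63705416 .nil .nil)) (.node 38564295 (.node 55343093 .nil .nil) .nil)) (.node 26712263 (.node 34365626 (.node 51160766 .nil .nil) .nil) (.node 42788367 (.node 59514891 .nil .nil) .nil))))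

/-- A part of an array. -/
noncomputable def part1224 : Arr ℕ :=
  (.node 47690 part1222 part1223)

/-- A part of an array. -/
noncomputable def part1225 : Arr ℕ :=
  (.node 61440 (.node 1442744 (.node 17641547 (.node 27132232 (.node 43570602 .nil .nil) (.node 60351876 .nil .nil)) (.node 35152260 (.node 51908872 .nil .nil) .nil)) (.node 23011403 (.node 31195464 (.node 47756559 .nil .nil) (.node 64546213 .nil .nil)) (.node 39350701 (.node 56156581 .nil .nil) .nil))) (.node 2082621 (.node 19739637 (.node 29170166 (.node 45668285 .nil .nil) (.node 62449447 .nil .nil)) (.node 37282599 (.node 54039455 .nil .nil) .nil)) (.node 24904680 (.node 33423544 (.node 49869752 .nil .nil) (.node 66626438 .nil .nil)) (.node 41465754 (.node 58206086 .nil .nil) .nil))))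

/-- A part of an array. -/
noncomputable def part1226 : Arr ℕ :=
  (.node 1179656 (.node 1803277 (.node 19206341 (.node 28574336 (.node 44614784 .nil .nil) (.node 61359232 .nil .nil)) (.node 36225152 (.node 52969600 .nil .nil) .nil)) (.node 24510616 (.node 32838293 (.node 48820377 .nil .nil) (.node 65548475 .nil .nil)) (.node 40408125 (.node 57201695 .nil .nil) .nil))) (.node 17108992 (.node 22348107 (.node 30871552 (.node 46707757 .nil .nil) (.node 63468687 .nil .nil)) (.node 38293673 (.node 55054347 .nil .nil) .nil)) (.node 26677248 (.node 34095232 (.node 50905216 .nil .nil) .nil) (.node 42517632 (.node 59262080 .nil .nil) .nil))))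

/-- A part of an array. -/
noncomputable def part1227 : Arr ℕ :=
  (.node 45058 part1225 part1226)

/-- A part of an array. -/
noncomputable def part1228 : Arr ℕ :=
  (.node 1048576 (.node 1671168 (.node 18874496 (.node 28508877 (.node 44072960 .nil .nil) (.node 60850176 .nil .nil)) (.node 35684352 (.node 52461568 .nil .nil) .nil)) (.node 24314077 (.node 32637656 (.node 48280628 .nil .nil) (.node 65074358 .nil .nil)) (.node 39900180 (.node 56628374 .nil .nil) .nil))) (.node 16777216 (.node 22020096 (.node 30408704 (.node 46198784 .nil .nil) (.node 62959618 .nil .nil)) (.node 37752832 (.node 54579202 .nil .nil) .nil)) (.node 26214400 (.node 33554432 (.node 50331648 .nil .nil) .nil) (.node 41975808 (.node 58753024 .nil .nil) .nil))))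

/-- A part of an array. -/
noncomputable def part1229 : Arr ℕ :=
  (.node 1310851 (.node 1950336 (.node 19399608 (.node 28967080 (.node 45134389 .nil .nil) (.node 61866627 .nil .nil)) (.node 36733571 (.node 53506743 .nil .nil) .nil)) (.node 24716197 (.node 33102310 (.node 49321493 .nil .nil) (.node 66078339 .nil .nil)) (.node 40949399 (.node 57722499 .nil .nil) .nil))) (.node 17301515 (.node 22675720 (.node 31133771 (.node 47239170 .nil .nil) (.node 63963136 .nil .nil)) (.node 38801408 (.node 55574528 .nil .nil) .nil)) (.node 26804299 (.node 34603008 (.node 51441664 .nil .nil) .nil) (.node 43036674 (.node 59768832 .nil .nil) .nil))))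

/-- A part of an array. -/
noncomputable def part1230 : Arr ℕ :=
  (.node 53250 part1228 part1229)

/-- A part of an array. -/
noncomputable def part1231 : Arr ℕ :=
  (.node 54998 (.node 1315468 (.node 17321659 (.node 26835541 (.node 43243316 .nil .nil) (.node 60024703 .nil .nil)) (.node 34799630 (.node 51606111 .nil .nil) .nil)) (.node 22698828 (.node 31160853 (.node 47416622 .nil .nil) (.node 64214645 .nil .nil)) (.node 39002446 (.node 55817263 .nil .nil) .nil))) (.node 1957151 (.node 19417496 (.node 28996566 (.node 45339493 .nil .nil) (.node 62121882 .nil .nil)) (.node 36931307 (.node 53735566 .nil .nil) .nil)) (.node 24737997 (.node 33127296 (.node 49530107 .nil .nil) (.node 66294580 .nil .nil)) (.node 41149087 (.node 57897962 .nil .nil) .nil))))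

/-- A part of an array. -/
noncomputable def part1232 : Arr ℕ :=
  (.node 1053335 (.node 1679127 (.node 18893743 (.node 28539127 (.node 44298240 .nil .nil) (.node 61043119 .nil .nil)) (.node 35886196 (.node 52631003 .nil .nil) .nil)) (.node 24335289 (.node 32664042 (.node 48494542 .nil .nil) (.node 65221883 .nil .nil)) (.node 40103936 (.node 56866581 .nil .nil) .nil))) (.node 16795268 (.node 22041156 (.node 30434054 (.node 46380132 .nil .nil) (.node 63140693 .nil .nil)) (.node 37957902 (.node 54751775 .nil .nil) .nil)) (.node 26243910 (.node 33755214 (.node 50566501 .nil .nil) .nil) (.node 42202686 (.node 58946325 .nil .nil) .nil))))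

/-- A part of an array. -/
noncomputable def part1233 : Arr ℕ :=
  (.node 33924 part1231 part1232)

/-- A part of an array. -/
noncomputable def part1234 : Arr ℕ :=
  (.node 63436 (.node 1448323 (.node 17661624 (.node 27163150 (.node 43757612 .nil .nil) (.node 60489803 .nil .nil)) (.node 35349434 (.node 52138343 .nil .nil) .nil)) (.node 23034655 (.node 31222350 (.node 47964863 .nil .nil) (.node 64696648 .nil .nil)) (.node 39535323 (.node 56317878 .nil .nil) .nil))) (.node 2088629 (.node 19757269 (.node 29191128 (.node 45855869 .nil .nil) (.node 62587054 .nil .nil)) (.node 37479775 (.node 54203318 .nil .nil) .nil)) (.node 24926592 (.node 33448846 (.node 50045934 .nil .nil) (.node 66811021 .nil .nil)) (.node 41648526 (.node 58429687 .nil .nil) .nil))))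

/-- A part of an array. -/
noncomputable def part1235 : Arr ℕ :=
  (.node 1186495 (.node 1809805 (.node 19225258 (.node 28604922 (.node 44807708 .nil .nil) (.node 61585303 .nil .nil)) (.node 36427500 (.node 53204839 .nil .nil) .nil)) (.node 24531700 (.node 32864487 (.node 49000919 .nil .nil) (.node 65794662 .nil .nil)) (.node 40612413 (.node 57374124 .nil .nil) .nil))) (.node 17127111 (.node 22368791 (.node 30896718 (.node 46920409 .nil .nil) (.node 63681900 .nil .nil)) (.node 38499223 (.node 55291906 .nil .nil) .nil)) (.node 26698254 (.node 34296566 (.node 51075065 .nil .nil) .nil) (.node 42708994 (.node 59487501 .nil .nil) .nil))))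

/-- A part of an array. -/
noncomputable def part1236 : Arr ℕ :=
  (.node 46558 part1234 part1235)

/-- A part of an array. -/
noncomputable def part1237 : Arr ℕ :=
  (.node 56706 (.node 1325952 (.node 17354395 (.node 26868394 (.node 43509421 .nil .nil) (.node 60265722 .nil .nil)) (.node 35074326 (.node 51839307 .nil .nil) .nil)) (.node 22739573 (.node 31189967 (.node 47690983 .nil .nil) (.node 64464296 .nil .nil)) (.node 39260190 (.node 56084475 .nil .nil) .nil))) (.node 1963575 (.node 19450268 (.node 29030853 (.node 45605596 .nil .nil) (.node 62362687 .nil .nil)) (.node 37205847 (.node 53969726 .nil .nil) .nil)) (.node 24763364 (.node 33153754 (.node 49804566 .nil .nil) (.node 66576589 .nil .nil)) (.node 41407343 (.node 58130590 .nil .nil) .nil))))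

/-- A part of an array. -/
noncomputable def part1238 : Arr ℕ :=
  (.node 1061819 (.node 1686719 (.node 18926347 (.node 28569600 (.node 44552629 .nil .nil) (.node 61280910 .nil .nil)) (.node 36156892 (.node 52917991 .nil .nil) .nil)) (.node 24375296 (.node 32698980 (.node 48748079 .nil .nil) (.node 65492894 .nil .nil)) (.node 40358372 (.node 57136373 .nil .nil) .nil))) (.node 16827908 (.node 22082537 (.node 30470144 (.node 46634421 .nil .nil) (.node 63377408 .nil .nil)) (.node 38211678 (.node 54989131 .nil .nil) .nil)) (.node 26276213 (.node 34025814 (.node 50853609 .nil .nil) .nil) (.node 42457023 (.node 59183104 .nil .nil) .nil))))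

/-- A part of an array. -/
noncomputable def part1239 : Arr ℕ :=
  (.node 36504 part1237 part1238)

/-- A part of an array. -/
noncomputable def part1240 : Arr ℕ :=
  (.node 64728 (.node 1456812 (.node 17691828 (.node 27193497 (.node 44008427 .nil .nil) (.node 60781972 .nil .nil)) (.node 35607256 (.node 52422157 .nil .nil) .nil)) (.node 23056386 (.node 31257076 (.node 48222268 .nil .nil) (.node 64964059 .nil .nil)) (.node 39809765 (.node 56566024 .nil .nil) .nil))) (.node 2095934 (.node 19790774 (.node 29223847 (.node 46106398 .nil .nil) (.node 62879189 .nil .nil)) (.node 37737501 (.node 54486268 .nil .nil) .nil)) (.node 24965289 (.node 33484984 (.node 50303437 .nil .nil) (.node 67043518 .nil .nil)) (.node 41922964 (.node 58713709 .nil .nil) .nil))))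

/-- A part of an array. -/
noncomputable def part1241 : Arr ℕ :=
  (.node 1194883 (.node 1818133 (.node 19257701 (.node 28638025 (.node 45061431 .nil .nil) (.node 61854252 .nil .nil)) (.node 36698110 (.node 53457125 .nil .nil) .nil)) (.node 24574793 (.node 32893221 (.node 49255356 .nil .nil) (.node 66033293 .nil .nil)) (.node 40866423 (.node 57611238 .nil .nil) .nil))) (.node 17161327 (.node 22411674 (.node 30927624 (.node 47173634 .nil .nil) (.node 63951159 .nil .nil)) (.node 38753257 (.node 55563900 .nil .nil) .nil)) (.node 26733181 (.node 34567124 (.node 51327051 .nil .nil) .nil) (.node 42963869 (.node 59756546 .nil .nil) .nil))))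

/-- A part of an array. -/
noncomputable def part1242 : Arr ℕ :=
  (.node 49026 part1240 part1241)

/-- A part of an array. -/
noncomputable def part1243 : Arr ℕ :=
  (.node 56282 (.node 1321860 (.node 17335311 (.node 26845479 (.node 43374229 .nil .nil) (.node 60138969 .nil .nil)) (.node 34939230 (.node 51712000 .nil .nil) .nil)) (.node 22720918 (.node 31174658 (.node 47551687 .nil .nil) (.node 64324739 .nil .nil)) (.node 39129174 (.node 55953024 .nil .nil) .nil))) (.node 1961895 (.node 19433995 (.node 29008764 (.node 45469698 .nil .nil) (.node 62235518 .nil .nil)) (.node 37070841 (.node 53843479 .nil .nil) .nil)) (.node 24746359 (.node 33143095 (.node 49665748 .nil .nil) (.node 66438784 .nil .nil)) (.node 41276101 (.node 58000515 .nil .nil) .nil))))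

/-- A part of an array. -/
noncomputable def part1244 : Arr ℕ :=
  (.node 1057703 (.node 1680679 (.node 18909631 (.node 28550073 (.node 44426031 .nil .nil) (.node 61154731 .nil .nil)) (.node 36021566 (.node 52782010 .nil .nil) .nil)) (.node 24361623 (.node 32678041 (.node 48625065 .nil .nil) (.node 65368511 .nil .nil)) (.node 40226818 (.node 57004180 .nil .nil) .nil))) (.node 16811136 (.node 22065154 (.node 30450393 (.node 46511517 .nil .nil) (.node 63254795 .nil .nil)) (.node 38080534 (.node 54857728 .nil .nil) .nil)) (.node 26256364 (.node 33890590 (.node 50718618 .nil .nil) .nil) (.node 42329999 (.node 59056395 .nil .nil) .nil))))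

/-- A part of an array. -/
noncomputable def part1245 : Arr ℕ :=
  (.node 35468 part1243 part1244)

/-- A part of an array. -/
noncomputable def part1246 : Arr ℕ :=
  (.node 64384 (.node 1452712 (.node 17677911 (.node 27175432 (.node 43889607 .nil .nil) (.node 60638339 .nil .nil)) (.node 35472000 (.node 52295542 .nil .nil) .nil)) (.node 23042741 (.node 31238949 (.node 48099328 .nil .nil) (.node 64840908 .nil .nil)) (.node 39678645 (.node 56434763 .nil .nil) .nil))) (.node 2092077 (.node 19773821 (.node 29208578 (.node 45987316 .nil .nil) (.node 62734976 .nil .nil)) (.node 37602435 (.node 54358469 .nil .nil) .nil)) (.node 24949622 (.node 33466953 (.node 50180663 .nil .nil) (.node 66922219 .nil .nil)) (.node 41791490 (.node 58581612 .nil .nil) .nil))))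

/-- A part of an array. -/
noncomputable def part1247 : Arr ℕ :=
  (.node 1190815 (.node 1812890 (.node 19241677 (.node 28617212 (.node 44935065 .nil .nil) (.node 61728029 .nil .nil)) (.node 36562732 (.node 53323176 .nil .nil) .nil)) (.node 24555674 (.node 32881364 (.node 49131522 .nil .nil) (.node 65908916 .nil .nil)) (.node 40735661 (.node 57481115 .nil .nil) .nil))) (.node 17145500 (.node 22395693 (.node 30914781 (.node 47050806 .nil .nil) (.node 63827968 .nil .nil)) (.node 38622137 (.node 55432975 .nil .nil) .nil)) (.node 26720744 (.node 34431884 (.node 51192072 .nil .nil) .nil) (.node 42836921 (.node 59629885 .nil .nil) .nil))))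

/-- A part of an array. -/
noncomputable def part1248 : Arr ℕ :=
  (.node 47830 part1246 part1247)

/-- A part of an array. -/
noncomputable def part1249 : Arr ℕ :=
  (.node 61580 (.node 1444251 (.node 17642747 (.node 27140107 (.node 43614208 .nil .nil) (.node 60371272 .nil .nil)) (.node 35222506 (.node 52002816 .nil .nil) .nil)) (.node 23015688 (.node 31207435 (.node 47825539 .nil .nil) (.node 64557131 .nil .nil)) (.node 39404163 (.node 56186601 .nil .nil) .nil))) (.node 2083230 (.node 19741358 (.node 29176045 (.node 45713027 .nil .nil) (.node 62470139 .nil .nil)) (.node 37352921 (.node 54068867 .nil .nil) .nil)) (.node 24910587 (.node 33438187 (.node 49905664 .nil .nil) (.node 66671320 .nil .nil)) (.node 41517056 (.node 58299642 .nil .nil) .nil))))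

/-- A part of an array. -/
noncomputable def part1250 : Arr ℕ :=
  (.node 1182379 (.node 1804846 (.node 19208598 (.node 28584923 (.node 44663974 .nil .nil) (.node 61440166 .nil .nil)) (.node 36292134 (.node 53068326 .nil .nil) .nil)) (.node 24516995 (.node 32844678 (.node 48861821 .nil .nil) (.node 65655903 .nil .nil)) (.node 40481791 (.node 57242077 .nil .nil) .nil))) (.node 17110164 (.node 22351872 (.node 30875915 (.node 46781165 .nil .nil) (.node 63542351 .nil .nil)) (.node 38368207 (.node 55161197 .nil .nil) .nil)) (.node 26685707 (.node 34161318 (.node 50939558 .nil .nil) .nil) (.node 42565670 (.node 59343910 .nil .nil) .nil))))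

/-- A part of an array. -/
noncomputable def part1251 : Arr ℕ :=
  (.node 45210 part1249 part1250)

/-- A part of an array. -/
noncomputable def part1252 : Arr ℕ :=
  (.node 1049219 (.node 1672835 (.node 18876827 (.node 28519390 (.node 44155526 .nil .nil) (.node 60900998 .nil .nil)) (.node 35751046 (.node 52494470 .nil .nil) .nil)) (.node 24320398 (.node 32652163 (.node 48354388 .nil .nil) (.node 65082070 .nil .nil)) (.node 39973366 (.node 56734580 .nil .nil) .nil))) (.node 16778368 (.node 22024459 (.node 30421323 (.node 46240836 .nil .nil) (.node 63001158 .nil .nil)) (.node 37826886 (.node 54620996 .nil .nil) .nil)) (.node 26222923 (.node 33619974 (.node 50430982 .nil .nil) .nil) (.node 42059270 (.node 58802694 .nil .nil) .nil))))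

/-- A part of an array. -/
noncomputable def part1253 : Arr ℕ :=
  (.node 1311360 (.node 1950851 (.node 19401387 (.node 28977659 (.node 45212071 .nil .nil) (.node 61984983 .nil .nil)) (.node 36804181 (.node 53601703 .nil .nil) .nil)) (.node 24722174 (.node 33104125 (.node 49407781 .nil .nil) (.node 66172277 .nil .nil)) (.node 41018149 (.node 57767927 .nil .nil) .nil))) (.node 17302703 (.node 22679563 (.node 31138120 (.node 47293702 .nil .nil) (.node 64091974 .nil .nil)) (.node 38871302 (.node 55686468 .nil .nil) .nil)) (.node 26812744 (.node 34672710 (.node 51471108 .nil .nil) .nil) (.node 43116292 (.node 59889220 .nil .nil) .nil))))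

/-- A part of an array. -/
noncomputable def part1254 : Arr ℕ :=
  (.node 53398 part1252 part1253)

/-- A part of an array. -/
noncomputable def part1255 : Arr ℕ :=
  (.node 54910 (.node 1315015 (.node 17320716 (.node 26828162 (.node 43158024 .nil .nil) (.node 59916201 .nil .nil)) (.node 34740294 (.node 51572221 .nil .nil) .nil)) (.node 22695851 (.node 31149274 (.node 47381256 .nil .nil) (.node 64106169 .nil .nil)) (.node 38934870 (.node 55708889 .nil .nil) .nil))) (.node 1956724 (.node 19416255 (.node 28990681 (.node 45255241 .nil .nil) (.node 62012376 .nil .nil)) (.node 36870839 (.node 53636028 .nil .nil) .nil)) (.node 24732922 (.node 33113563 (.node 49462893 .nil .nil) (.node 66219980 .nil .nil)) (.node 41082551 (.node 57855912 .nil .nil) .nil))))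

/-- A part of an array. -/
noncomputable def part1256 : Arr ℕ :=
  (.node 1052744 (.node 1677804 (.node 18892452 (.node 28530584 (.node 44218484 .nil .nil) (.node 60995967 .nil .nil)) (.node 35821620 (.node 52599103 .nil .nil) .nil)) (.node 24334254 (.node 32659421 (.node 48405572 .nil .nil) (.node 65199573 .nil .nil)) (.node 40033332 (.node 56761729 .nil .nil) .nil))) (.node 16794399 (.node 22038147 (.node 30430633 (.node 46324554 .nil .nil) (.node 63086303 .nil .nil)) (.node 37886238 (.node 54713519 .nil .nil) .nil)) (.node 26236153 (.node 33691662 (.node 50470273 .nil .nil) .nil) (.node 42121802 (.node 58900421 .nil .nil) .nil))))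

/-- A part of an array. -/
noncomputable def part1257 : Arr ℕ :=
  (.node 33828 part1255 part1256)

/-- A part of an array. -/
noncomputable def part1258 : Arr ℕ :=
  (.node 63348 (.node 1446884 (.node 17660767 (.node 27155841 (.node 43708316 .nil .nil) (.node 60480053 .nil .nil)) (.node 35289594 (.node 52038889 .nil .nil) .nil)) (.node 23031720 (.node 31218905 (.node 47881781 .nil .nil) (.node 64670472 .nil .nil)) (.node 39483599 (.node 56290668 .nil .nil) .nil))) (.node 2084982 (.node 19756458 (.node 29181059 (.node 45805533 .nil .nil) (.node 62578244 .nil .nil)) (.node 37419787 (.node 54168232 .nil .nil) .nil)) (.node 24921583 (.node 33447297 (.node 49994708 .nil .nil) (.node 66751225 .nil .nil)) (.node 41598890 (.node 58338969 .nil .nil) .nil))))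

/-- A part of an array. -/
noncomputable def part1259 : Arr ℕ :=
  (.node 1183816 (.node 1807326 (.node 19224569 (.node 28595909 (.node 44760296 .nil .nil) (.node 61504967 .nil .nil)) (.node 36362412 (.node 53107075 .nil .nil) .nil)) (.node 24530619 (.node 32851584 (.node 48945405 .nil .nil) (.node 65673704 .nil .nil)) (.node 40541197 (.node 57335100 .nil .nil) .nil))) (.node 17126156 (.node 22365824 (.node 30885053 (.node 46833495 .nil .nil) (.node 63593030 .nil .nil)) (.node 38427011 (.node 55188662 .nil .nil) .nil)) (.node 26691053 (.node 34232502 (.node 51043613 .nil .nil) .nil) (.node 42663670 (.node 59407197 .nil .nil) .nil))))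

/-- A part of an array. -/
noncomputable def part1260 : Arr ℕ :=
  (.node 46446 part1258 part1259)

/-- A part of an array. -/
noncomputable def part1261 : Arr ℕ :=
  (.node 56622 (.node 1325547 (.node 17353480 (.node 26860893 (.node 43432597 .nil .nil) (.node 60181944 .nil .nil)) (.node 35006558 (.node 51814269 .nil .nil) .nil)) (.node 22736570 (.node 31186220 (.node 47631321 .nil .nil) (.node 64380136 .nil .nil)) (.node 39201038 (.node 56000149 .nil .nil) .nil))) (.node 1962108 (.node 19448991 (.node 29021930 (.node 45529844 .nil .nil) (.node 62278121 .nil .nil)) (.node 37136907 (.node 53877144 .nil .nil) .nil)) (.node 24758267 (.node 33152173 (.node 49712792 .nil .nil) (.node 66461113 .nil .nil)) (.node 41348687 (.node 58113348 .nil .nil) .nil))))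

/-- A part of an array. -/
noncomputable def part1262 : Arr ℕ :=
  (.node 1061188 (.node 1686116 (.node 18925092 (.node 28565327 (.node 44472517 .nil .nil) (.node 61266906 .nil .nil)) (.node 36092060 (.node 52886403 .nil .nil) .nil)) (.node 24374335 (.node 32689279 (.node 48676029 .nil .nil) (.node 65453868 .nil .nil)) (.node 40303832 (.node 57049069 .nil .nil) .nil))) (.node 16827323 (.node 22079238 (.node 30459523 (.node 46594947 .nil .nil) (.node 63372310 .nil .nil)) (.node 38156614 (.node 54967927 .nil .nil) .nil)) (.node 26269418 (.node 33962006 (.node 50757517 .nil .nil) .nil) (.node 42375887 (.node 59170132 .nil .nil) .nil))))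

/-- A part of an array. -/
noncomputable def part1263 : Arr ℕ :=
  (.node 36412 part1261 part1262)

/-- A part of an array. -/
noncomputable def part1264 : Arr ℕ :=
  (.node 64612 (.node 1454319 (.node 17690999 (.node 27186998 (.node 43965791 .nil .nil) (.node 60731006 .nil .nil)) (.node 35539352 (.node 52328983 .nil .nil) .nil)) (.node 23053469 (.node 31246159 (.node 48147886 .nil .nil) (.node 64929303 .nil .nil)) (.node 39733753 (.node 56531530 .nil .nil) .nil))) (.node 2094553 (.node 19789545 (.node 29213916 (.node 46063034 .nil .nil) (.node 62827179 .nil .nil)) (.node 37669705 (.node 54459510 .nil .nil) .nil)) (.node 24964334 (.node 33476251 (.node 50260207 .nil .nil) (.node 67043142 .nil .nil)) (.node 41848504 (.node 58612123 .nil .nil) .nil))))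

/-- A part of an array. -/
noncomputable def part1265 : Arr ℕ :=
  (.node 1192276 (.node 1814630 (.node 19256342 (.node 28628054 (.node 45014727 .nil .nil) (.node 61741560 .nil .nil)) (.node 36632766 (.node 53362561 .nil .nil) .nil)) (.node 24569646 (.node 32888686 (.node 49216398 .nil .nil) (.node 65961119 .nil .nil)) (.node 40811855 (.node 57588474 .nil .nil) .nil))) (.node 17160576 (.node 22408485 (.node 30924247 (.node 47103124 .nil .nil) (.node 63848321 .nil .nil)) (.node 38697205 (.node 55475012 .nil .nil) .nil)) (.node 26725822 (.node 34502804 (.node 51297071 .nil .nil) .nil) (.node 42916973 (.node 59645910 .nil .nil) .nil))))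

/-- A part of an array. -/
noncomputable def part1266 : Arr ℕ :=
  (.node 48950 part1264 part1265)

/-- A part of an array. -/
noncomputable def part1267 : Arr ℕ :=
  (.node 56182 (.node 1321467 (.node 17334668 (.node 26838732 (.node 43289337 .nil .nil) (.node 60062951 .nil .nil)) (.node 34879574 (.node 51678814 .nil .nil) .nil)) (.node 22717773 (.node 31164157 (.node 47508389 .nil .nil) (.node 64257463 .nil .nil)) (.node 39069958 (.node 55869314 .nil .nil) .nil))) (.node 1960440 (.node 19433244 (.node 29002831 (.node 45385854 .nil .nil) (.node 62160596 .nil .nil)) (.node 37010149 (.node 53742809 .nil .nil) .nil)) (.node 24741244 (.node 33130332 (.node 49589510 .nil .nil) (.node 66337664 .nil .nil)) (.node 41217957 (.node 57981237 .nil .nil) .nil))))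

/-- A part of an array. -/
noncomputable def part1268 : Arr ℕ :=
  (.node 1057100 (.node 1680360 (.node 18908288 (.node 28544234 (.node 44345867 .nil .nil) (.node 61140111 .nil .nil)) (.node 35956798 (.node 52752058 .nil .nil) .nil)) (.node 24356540 (.node 32677534 (.node 48537447 .nil .nil) (.node 65313141 .nil .nil)) (.node 40172926 (.node 56916972 .nil .nil) .nil))) (.node 16810287 (.node 22062329 (.node 30446662 (.node 46455799 .nil .nil) (.node 63233381 .nil .nil)) (.node 38025550 (.node 54837084 .nil .nil) .nil)) (.node 26248303 (.node 33826846 (.node 50622106 .nil .nil) .nil) (.node 42248875 (.node 59042863 .nil .nil) .nil))))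

/-- A part of an array. -/
noncomputable def part1269 : Arr ℕ :=
  (.node 35372 part1267 part1268)

/-- A part of an array. -/
noncomputable def part1270 : Arr ℕ :=
  (.node 64316 (.node 1450239 (.node 17677184 (.node 27168187 (.node 43838759 .nil .nil) (.node 60595989 .nil .nil)) (.node 35412352 (.node 52194052 .nil .nil) .nil)) (.node 23039550 (.node 31235458 (.node 48008654 .nil .nil) (.node 64790388 .nil .nil)) (.node 39602665 (.node 56400741 .nil .nil) .nil))) (.node 2089690 (.node 19772470 (.node 29204325 (.node 45936388 .nil .nil) (.node 62692738 .nil .nil)) (.node 37542807 (.node 54323495 .nil .nil) .nil)) (.node 24948517 (.node 33461366 (.node 50121545 .nil .nil) (.node 66902375 .nil .nil)) (.node 41717614 (.node 58482166 .nil .nil) .nil))))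

/-- A part of an array. -/
noncomputable def part1271 : Arr ℕ :=
  (.node 1188188 (.node 1812473 (.node 19240878 (.node 28608255 (.node 44887101 .nil .nil) (.node 61615801 .nil .nil)) (.node 36497452 (.node 53226152 .nil .nil) .nil)) (.node 24554729 (.node 32867459 (.node 49076332 .nil .nil) (.node 65821406 .nil .nil)) (.node 40680661 (.node 57458407 .nil .nil) .nil))) (.node 17144679 (.node 22392710 (.node 30903838 (.node 46963964 .nil .nil) (.node 63708878 .nil .nil)) (.node 38566117 (.node 55343703 .nil .nil) .nil)) (.node 26713655 (.node 34367628 (.node 51161608 .nil .nil) .nil) (.node 42789917 (.node 59518617 .nil .nil) .nil))))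

/-- A part of an array. -/
noncomputable def part1272 : Arr ℕ :=
  (.node 47718 part1270 part1271)

/-- A part of an array. -/
noncomputable def part1273 : Arr ℕ :=
  (.node 61492 (.node 1442792 (.node 17641736 (.node 27133848 (.node 43573220 .nil .nil) (.node 60353354 .nil .nil)) (.node 35154410 (.node 51912166 .nil .nil) .nil)) (.node 23012779 (.node 31196800 (.node 47758933 .nil .nil) (.node 64547455 .nil .nil)) (.node 39352535 (.node 56159327 .nil .nil) .nil))) (.node 2082637 (.node 19740613 (.node 29171626 (.node 45669751 .nil .nil) (.node 62450029 .nil .nil)) (.node 37284813 (.node 54042613 .nil .nil) .nil)) (.node 24905344 (.node 33425400 (.node 49870950 .nil .nil) (.node 66628824 .nil .nil)) (.node 41467492 (.node 58206968 .nil .nil) .nil))))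

/-- A part of an array. -/
noncomputable def part1274 : Arr ℕ :=
  (.node 1179720 (.node 1803373 (.node 19207381 (.node 28574968 (.node 44617222 .nil .nil) (.node 61360774 .nil .nil)) (.node 36227110 (.node 52972710 .nil .nil) .nil)) (.node 24511960 (.node 32839165 (.node 48823051 .nil .nil) (.node 65552297 .nil .nil)) (.node 40410511 (.node 57202989 .nil .nil) .nil))) (.node 17109323 (.node 22348931 (.node 30873572 (.node 46710591 .nil .nil) (.node 63470365 .nil .nil)) (.node 38295963 (.node 55057849 .nil .nil) .nil)) (.node 26679028 (.node 34097318 (.node 50908198 .nil .nil) .nil) (.node 42520198 (.node 59263494 .nil .nil) .nil))))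

/-- A part of an array. -/
noncomputable def part1275 : Arr ℕ :=
  (.node 45102 part1273 part1274)

/-- A part of an array. -/
noncomputable def part1276 : Arr ℕ :=
  (.node 1048648 (.node 1671276 (.node 18875520 (.node 28509357 (.node 44075686 .nil .nil) (.node 60853798 .nil .nil)) (.node 35686534 (.node 52464646 .nil .nil) .nil)) (.node 24315277 (.node 32638376 (.node 48283522 .nil .nil) (.node 65076096 .nil .nil)) (.node 39902594 (.node 56629632 .nil .nil) .nil))) (.node 16777483 (.node 22021592 (.node 30410744 (.node 46201654 .nil .nil) (.node 62963636 .nil .nil)) (.node 37755158 (.node 54582676 .nil .nil) .nil)) (.node 26216168 (.node 33556486 (.node 50334854 .nil .nil) .nil) (.node 41978406 (.node 58756774 .nil .nil) .nil))))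

/-- A part of an array. -/
noncomputable def part1277 : Arr ℕ :=
  (.node 1310943 (.node 1950460 (.node 19400600 (.node 28968680 (.node 45136095 .nil .nil) (.node 61869289 .nil .nil)) (.node 36735561 (.node 53509885 .nil .nil) .nil)) (.node 24717021 (.node 33103546 (.node 49323503 .nil .nil) (.node 66079225 .nil .nil)) (.node 40951629 (.node 57723865 .nil .nil) .nil))) (.node 17301768 (.node 22676728 (.node 31135643 (.node 47242108 .nil .nil) (.node 63967230 .nil .nil)) (.node 38803806 (.node 55578078 .nil .nil) .nil)) (.node 26805891 (.node 34605134 (.node 51444942 .nil .nil) .nil) (.node 43039340 (.node 59772654 .nil .nil) .nil))))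

/-- A part of an array. -/
noncomputable def part1278 : Arr ℕ :=
  (.node 53310 part1276 part1277)

/-- A part of an array. -/
noncomputable def part1279 : Arr ℕ :=
  (.node 55022 (.node 1315540 (.node 17321900 (.node 26836125 (.node 43244886 .nil .nil) (.node 60025241 .nil .nil)) (.node 34801740 (.node 51609241 .nil .nil) .nil)) (.node 22699708 (.node 31161797 (.node 47418972 .nil .nil) (.node 64215427 .nil .nil)) (.node 39004188 (.node 55818745 .nil .nil) .nil))) (.node 1957223 (.node 19418552 (.node 28997014 (.node 45341059 .nil .nil) (.node 62122488 .nil .nil)) (.node 36933165 (.node 53738700 .nil .nil) .nil)) (.node 24739253 (.node 33127644 (.node 49532685 .nil .nil) (.node 66296902 .nil .nil)) (.node 41151305 (.node 57900728 .nil .nil) .nil))))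

/-- A part of an array. -/
noncomputable def part1280 : Arr ℕ :=
  (.node 1053403 (.node 1679231 (.node 18894763 (.node 28540567 (.node 44300970 .nil .nil) (.node 61046657 .nil .nil)) (.node 35888382 (.node 52632021 .nil .nil) .nil)) (.node 24336105 (.node 32665242 (.node 48495732 .nil .nil) (.node 65223621 .nil .nil)) (.node 40106394 (.node 56867339 .nil .nil) .nil))) (.node 16795547 (.node 22042524 (.node 30434558 (.node 46382942 .nil .nil) (.node 63143147 .nil .nil)) (.node 37959700 (.node 54755201 .nil .nil) .nil)) (.node 26244526 (.node 33757252 (.node 50567659 .nil .nil) .nil) (.node 42204180 (.node 58949051 .nil .nil) .nil))))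

/-- A part of an array. -/
noncomputable def part1281 : Arr ℕ :=
  (.node 33956 part1279 part1280)

/-- A part of an array. -/
noncomputable def part1282 : Arr ℕ :=
  (.node 63484 (.node 1448407 (.node 17661935 (.node 27163870 (.node 43760238 .nil .nil) (.node 60493453 .nil .nil)) (.node 35351512 (.node 52141441 .nil .nil) .nil)) (.node 23035647 (.node 31223174 (.node 47966697 .nil .nil) (.node 64700058 .nil .nil)) (.node 39537581 (.node 56318532 .nil .nil) .nil))) (.node 2088645 (.node 19758309 (.node 29191556 (.node 45858491 .nil .nil) (.node 62590700 .nil .nil)) (.node 37481913 (.node 54206420 .nil .nil) .nil)) (.node 24927464 (.node 33449166 (.node 50047036 .nil .nil) (.node 66812891 .nil .nil)) (.node 41650300 (.node 58432897 .nil .nil) .nil))))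

/-- A part of an array. -/
noncomputable def part1283 : Arr ℕ :=
  (.node 1186555 (.node 1809901 (.node 19226302 (.node 28606338 (.node 44809366 .nil .nil) (.node 61585817 .nil .nil)) (.node 36429382 (.node 53205833 .nil .nil) .nil)) (.node 24532916 (.node 32866191 (.node 49003081 .nil .nil) (.node 65797500 .nil .nil)) (.node 40614787 (.node 57374870 .nil .nil) .nil))) (.node 17127320 (.node 22370271 (.node 30897578 (.node 46922183 .nil .nil) (.node 63683318 .nil .nil)) (.node 38501033 (.node 55295416 .nil .nil) .nil)) (.node 26699002 (.node 34298588 (.node 51075927 .nil .nil) .nil) (.node 42711560 (.node 59489155 .nil .nil) .nil))))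

/-- A part of an array. -/
noncomputable def part1284 : Arr ℕ :=
  (.node 46582 part1282 part1283)

/-- A part of an array. -/
noncomputable def part1285 : Arr ℕ :=
  (.node 56762 (.node 1326040 (.node 17354664 (.node 26868838 (.node 43511003 .nil .nil) (.node 60267016 .nil .nil)) (.node 35076420 (.node 51842461 .nil .nil) .nil)) (.node 22740865 (.node 31190047 (.node 47693697 .nil .nil) (.node 64465482 .nil .nil)) (.node 39262556 (.node 56085053 .nil .nil) .nil))) (.node 1963599 (.node 19451324 (.node 29032321 (.node 45606958 .nil .nil) (.node 62364233 .nil .nil)) (.node 37207937 (.node 53972844 .nil .nil) .nil)) (.node 24764056 (.node 33154438 (.node 49807092 .nil .nil) (.node 66580395 .nil .nil)) (.node 41409193 (.node 58133980 .nil .nil) .nil))))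

/-- A part of an array. -/
noncomputable def part1286 : Arr ℕ :=
  (.node 1061879 (.node 1686743 (.node 18927375 (.node 28571236 (.node 44555019 .nil .nil) (.node 61283508 .nil .nil)) (.node 36158790 (.node 52919033 .nil .nil) .nil)) (.node 24376660 (.node 32699668 (.node 48749953 .nil .nil) (.node 65493172 .nil .nil)) (.node 40360046 (.node 57137659 .nil .nil) .nil))) (.node 16828223 (.node 22083125 (.node 30472184 (.node 46636699 .nil .nil) (.node 63381418 .nil .nil)) (.node 38213972 (.node 54992069 .nil .nil) .nil)) (.node 26277785 (.node 34027852 (.node 50854519 .nil .nil) .nil) (.node 42458497 (.node 59186874 .nil .nil) .nil))))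

/-- A part of an array. -/
noncomputable def part1287 : Arr ℕ :=
  (.node 36536 part1285 part1286)

/-- A part of an array. -/
noncomputable def part1288 : Arr ℕ :=
  (.node 64744 (.node 1456892 (.node 17692103 (.node 27194957 (.node 44009917 .nil .nil) (.node 60783430 .nil .nil)) (.node 35609258 (.node 52423419 .nil .nil) .nil)) (.node 23057894 (.node 31258172 (.node 48225150 .nil .nil) (.node 64965149 .nil .nil)) (.node 39811971 (.node 56569066 .nil .nil) .nil))) (.node 2095946 (.node 19791746 (.node 29224447 (.node 46108108 .nil .nil) (.node 62880643 .nil .nil)) (.node 37739755 (.node 54487182 .nil .nil) .nil)) (.node 24966597 (.node 33486840 (.node 50305547 .nil .nil) (.node 67047420 .nil .nil)) (.node 41924726 (.node 58714891 .nil .nil) .nil))))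

/-- A part of an array. -/
noncomputable def part1289 : Arr ℕ :=
  (.node 1194951 (.node 1818229 (.node 19258741 (.node 28638517 (.node 45064105 .nil .nil) (.node 61856822 .nil .nil)) (.node 36699972 (.node 53460187 .nil .nil) .nil)) (.node 24575501 (.node 32894541 (.node 49256502 .nil .nil) (.node 66034051 .nil .nil)) (.node 40868825 (.node 57614028 .nil .nil) .nil))) (.node 17161492 (.node 22412374 (.node 30928108 (.node 47176456 .nil .nil) (.node 63954617 .nil .nil)) (.node 38755015 (.node 55565270 .nil .nil) .nil)) (.node 26733709 (.node 34569198 (.node 51330293 .nil .nil) .nil) (.node 42965379 (.node 59760280 .nil .nil) .nil))))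

/-- A part of an array. -/
noncomputable def part1290 : Arr ℕ :=
  (.node 49066 part1288 part1289)

/-- A part of an array. -/
noncomputable def part1291 : Arr ℕ :=
  (.node 56294 (.node 1321948 (.node 17335596 (.node 26847215 (.node 43375851 .nil .nil) (.node 60140327 .nil .nil)) (.node 34941188 (.node 51715290 .nil .nil) .nil)) (.node 22721638 (.node 31176662 (.node 47554473 .nil .nil) (.node 64326509 .nil .nil)) (.node 39131420 (.node 55954250 .nil .nil) .nil))) (.node 1961951 (.node 19435055 (.node 29009212 (.node 45472504 .nil .nil) (.node 62237956 .nil .nil)) (.node 37072679 (.node 53844553 .nil .nil) .nil)) (.node 24747023 (.node 33144431 (.node 49667390 .nil .nil) (.node 66439658 .nil .nil)) (.node 41278219 (.node 58001869 .nil .nil) .nil))))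

/-- A part of an array. -/
noncomputable def part1292 : Arr ℕ :=
  (.node 1057771 (.node 1680719 (.node 18910651 (.node 28550617 (.node 44427673 .nil .nil) (.node 61156253 .nil .nil)) (.node 36023724 (.node 52785064 .nil .nil) .nil)) (.node 24362951 (.node 32679917 (.node 48627215 .nil .nil) (.node 65371801 .nil .nil)) (.node 40229248 (.node 57007510 .nil .nil) .nil))) (.node 16811435 (.node 22066650 (.node 30450981 (.node 46513851 .nil .nil) (.node 63258285 .nil .nil)) (.node 38082836 (.node 54861186 .nil .nil) .nil)) (.node 26256644 (.node 33892620 (.node 50719496 .nil .nil) .nil) (.node 42331577 (.node 59060157 .nil .nil) .nil))))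

/-- A part of an array. -/
noncomputable def part1293 : Arr ℕ :=
  (.node 35496 part1291 part1292)

/-- A part of an array. -/
noncomputable def part1294 : Arr ℕ :=
  (.node 64436 (.node 1452792 (.node 17678132 (.node 27176152 (.node 43891097 .nil .nil) (.node 60639837 .nil .nil)) (.node 35474170 (.node 52296588 .nil .nil) .nil)) (.node 23043925 (.node 31239401 (.node 48102218 .nil .nil) (.node 64842502 .nil .nil)) (.node 39680987 (.node 56438181 .nil .nil) .nil))) (.node 2092125 (.node 19774797 (.node 29210206 (.node 45989678 .nil .nil) (.node 62737626 .nil .nil)) (.node 37604477 (.node 54361531 .nil .nil) .nil)) (.node 24950302 (.node 33467661 (.node 50182649 .nil .nil) (.node 66922917 .nil .nil)) (.node 41794024 (.node 58584838 .nil .nil) .nil))))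

/-- A part of an array. -/
noncomputable def part1295 : Arr ℕ :=
  (.node 1190875 (.node 1812990 (.node 19242717 (.node 28618628 (.node 44936463 .nil .nil) (.node 61729547 .nil .nil)) (.node 36564894 (.node 53324186 .nil .nil) .nil)) (.node 24557018 (.node 32882104 (.node 49134464 .nil .nil) (.node 65912758 .nil .nil)) (.node 40737291 (.node 57481917 .nil .nil) .nil))) (.node 17145847 (.node 22396645 (.node 30916413 (.node 47053620 .nil .nil) (.node 63831938 .nil .nil)) (.node 38623903 (.node 55433897 .nil .nil) .nil)) (.node 26722076 (.node 34433982 (.node 51195322 .nil .nil) .nil) (.node 42838447 (.node 59633579 .nil .nil) .nil))))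

/-- A part of an array. -/
noncomputable def part1296 : Arr ℕ :=
  (.node 47866 part1294 part1295)

/-- A part of an array. -/
noncomputable def part1297 : Arr ℕ :=
  (.node 61624 (.node 1444303 (.node 17642940 (.node 27141855 (.node 43616842 .nil .nil) (.node 60374914 .nil .nil)) (.node 35224448 (.node 52006122 .nil .nil) .nil)) (.node 23016684 (.node 31209415 (.node 47827421 .nil .nil) (.node 64561045 .nil .nil)) (.node 39406589 (.node 56187671 .nil .nil) .nil))) (.node 2083306 (.node 19742362 (.node 29177525 (.node 45714509 .nil .nil) (.node 62470581 .nil .nil)) (.node 37354807 (.node 54069997 .nil .nil) .nil)) (.node 24911767 (.node 33439407 (.node 49908698 .nil .nil) (.node 66674050 .nil .nil)) (.node 41519610 (.node 58300800 .nil .nil) .nil))))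

/-- A part of an array. -/
noncomputable def part1298 : Arr ℕ :=
  (.node 1182447 (.node 1804874 (.node 19209602 (.node 28585383 (.node 44666404 .nil .nil) (.node 61443748 .nil .nil)) (.node 36294276 (.node 53071364 .nil .nil) .nil)) (.node 24517831 (.node 32845034 (.node 48863723 .nil .nil) (.node 65657673 .nil .nil)) (.node 40483401 (.node 57244907 .nil .nil) .nil))) (.node 17110491 (.node 22353356 (.node 30877419 (.node 46782971 .nil .nil) (.node 63544281 .nil .nil)) (.node 38370041 (.node 55164123 .nil .nil) .nil)) (.node 26687483 (.node 34163332 (.node 50940420 .nil .nil) .nil) (.node 42568228 (.node 59345572 .nil .nil) .nil))))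

/-- A part of an array. -/
noncomputable def part1299 : Arr ℕ :=
  (.node 45238 part1297 part1298)

/-- A part of an array. -/
noncomputable def part1300 : Arr ℕ :=
  (.node 1049295 (.node 1672939 (.node 18877855 (.node 28519866 (.node 44156964 .nil .nil) (.node 60901540 .nil .nil)) (.node 35752964 (.node 52497540 .nil .nil) .nil)) (.node 24321242 (.node 32652535 (.node 48357350 .nil .nil) (.node 65084900 .nil .nil)) (.node 39975012 (.node 56737382 .nil .nil) .nil))) (.node 16778639 (.node 22025431 (.node 30422711 (.node 46243702 .nil .nil) (.node 63004148 .nil .nil)) (.node 37828692 (.node 54623958 .nil .nil) .nil)) (.node 26224551 (.node 33622020 (.node 50432132 .nil .nil) .nil) (.node 42060836 (.node 58805412 .nil .nil) .nil))))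

/-- A part of an array. -/
noncomputable def part1301 : Arr ℕ :=
  (.node 1311448 (.node 1950971 (.node 19402383 (.node 28979135 (.node 45214537 .nil .nil) (.node 61988537 .nil .nil)) (.node 36806299 (.node 53602793 .nil .nil) .nil)) (.node 24723330 (.node 33105829 (.node 49409243 .nil .nil) (.node 66173451 .nil .nil)) (.node 41020155 (.node 57768617 .nil .nil) .nil))) (.node 17302952 (.node 22681087 (.node 31139484 (.node 47296124 .nil .nil) (.node 64092348 .nil .nil)) (.node 38873180 (.node 55687326 .nil .nil) .nil)) (.node 26814340 (.node 34674700 (.node 51474382 .nil .nil) .nil) (.node 43117934 (.node 59889838 .nil .nil) .nil))))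

/-- A part of an array. -/
noncomputable def part1302 : Arr ℕ :=
  (.node 53418 part1300 part1301)

/-- A part of an array. -/
noncomputable def part1303 : Arr ℕ :=
  (.node 327 (.node 281 (.node 1184 (.node 1658 (.node 1390 .nil .nil) (.node 248 .nil .nil)) (.node 19 (.node 1286 .nil .nil) .nil)) (.node 1257 (.node 1556 (.node 1059 .nil .nil) (.node 279 .nil .nil)) (.node 31 (.node 464 .nil .nil) .nil))) (.node 1317 (.node 673 (.node 1737 (.node 212 .nil .nil) (.node 1509 .nil .nil)) (.node 656 (.node 564 .nil .nil) .nil)) (.node 1588 (.node 109 (.node 1752 .nil .nil) (.node 716 .nil .nil)) (.node 1016 (.node 994 .nil .nil) .nil))))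

/-- A part of an array. -/
noncomputable def part1304 : Arr ℕ :=
  (.node 35 (.node 1439 (.node 620 (.node 1663 (.node 456 .nil .nil) (.node 873 .nil .nil)) (.node 848 (.node 408 .nil .nil) .nil)) (.node 231 (.node 289 (.node 1376 .nil .nil) (.node 1585 .nil .nil)) (.node 235 (.node 403 .nil .nil) .nil))) (.node 664 (.node 1344 (.node 559 (.node 1114 .nil .nil) (.node 731 .nil .nil)) (.node 24 (.node 287 .nil .nil) .nil)) (.node 1231 (.node 25 (.node 550 .nil .nil) .nil) (.node 389 (.node 1468 .nil .nil) .nil))))

/-- A part of an array. -/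
noncomputable def part1305 : Arr ℕ :=
  (.node 127 part1303 part1304)

/-- A part of an array. -/
noncomputable def part1306 : Arr ℕ :=
  (.node 657 (.node 472 (.node 1656 (.node 970 (.node 1096 .nil .nil) (.node 313 .nil .nil)) (.node 1580 (.node 115 .nil .nil) .nil)) (.node 1632 (.node 486 (.node 714 .nil .nil) (.node 1422 .nil .nil)) (.node 1630 (.node 888 .nil .nil) .nil))) (.node 41 (.node 1272 (.node 802 (.node 1283 .nil .nil) (.node 32 .nil .nil)) (.node 489 (.node 1136 .nil .nil) .nil)) (.node 199 (.node 505 (.node 63 .nil .nil) (.node 935 .nil .nil)) (.node 1545 (.node 571 .nil .nil) .nil))))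

/-- A part of an array. -/
noncomputable def part1307 : Arr ℕ :=
  (.node 133 (.node 1018 (.node 221 (.node 345 (.node 812 .nil .nil) (.node 1719 .nil .nil)) (.node 48 (.node 1065 .nil .nil) .nil)) (.node 1211 (.node 1642 (.node 444 .nil .nil) (.node 826 .nil .nil)) (.node 590 (.node 45 .nil .nil) .nil))) (.node 453 (.node 1395 (.node 1061 (.node 1138 .nil .nil) (.node 1115 .nil .nil)) (.node 455 (.node 128 .nil .nil) .nil)) (.node 1412 (.node 1220 (.node 845 .nil .nil) .nil) (.node 889 (.node 1416 .nil .nil) .nil))))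

/-- A part of an array. -/
noncomputable def part1308 : Arr ℕ :=
  (.node 682 part1306 part1307)

/-- A part of an array. -/
noncomputable def part1309 : Arr ℕ :=
  (.node 1355 (.node 508 (.node 1009 (.node 992 (.node 260 .nil .nil) (.node 914 .nil .nil)) (.node 432 (.node 1535 .nil .nil) .nil)) (.node 1081 (.node 524 (.node 611 .nil .nil) (.node 710 .nil .nil)) (.node 257 (.node 909 .nil .nil) .nil))) (.node 69 (.node 864 (.node 240 (.node 97 .nil .nil) (.node 1108 .nil .nil)) (.node 579 (.node 1583 .nil .nil) .nil)) (.node 117 (.node 929 (.node 1382 .nil .nil) (.node 1120 .nil .nil)) (.node 1751 (.node 66 .nil .nil) .nil))))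

/-- A part of an array. -/
noncomputable def part1310 : Arr ℕ :=
  (.node 892 (.node 923 (.node 576 (.node 1595 (.node 1133 .nil .nil) (.node 1102 .nil .nil)) (.node 103 (.node 977 .nil .nil) .nil)) (.node 1648 (.node 967 (.node 866 .nil .nil) (.node 77 .nil .nil)) (.node 1368 (.node 1168 .nil .nil) .nil))) (.node 435 (.node 1694 (.node 1456 (.node 293 .nil .nil) (.node 388 .nil .nil)) (.node 386 (.node 1421 .nil .nil) .nil)) (.node 73 (.node 176 (.node 615 .nil .nil) .nil) (.node 680 (.node 296 .nil .nil) .nil))))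

/-- A part of an array. -/
noncomputable def part1311 : Arr ℕ :=
  (.node 910 part1309 part1310)

/-- A part of an array. -/
noncomputable def part1312 : Arr ℕ :=
  (.node 510 (.node 1145 (.node 99 (.node 1106 (.node 1041 .nil .nil) (.node 885 .nil .nil)) (.node 1450 (.node 521 .nil .nil) .nil)) (.node 1263 (.node 149 (.node 511 .nil .nil) (.node 1295 .nil .nil)) (.node 856 (.node 1266 .nil .nil) .nil))) (.node 413 (.node 853 (.node 168 (.node 1692 .nil .nil) (.node 282 .nil .nil)) (.node 961 (.node 151 .nil .nil) .nil)) (.node 1332 (.node 1624 (.node 1567 .nil .nil) (.node 130 .nil .nil)) (.node 1511 (.node 578 .nil .nil) .nil))))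

/-- A part of an array. -/
noncomputable def part1313 : Arr ℕ :=
  (.node 684 (.node 28 (.node 54 (.node 899 (.node 1060 .nil .nil) (.node 1334 .nil .nil)) (.node 52 (.node 794 .nil .nil) .nil)) (.node 683 (.node 39 (.node 37 .nil .nil) (.node 1112 .nil .nil)) (.node 962 (.node 1388 .nil .nil) .nil))) (.node 1282 (.node 1593 (.node 1103 (.node 810 .nil .nil) (.node 164 .nil .nil)) (.node 1702 (.node 806 .nil .nil) .nil)) (.node 949 (.node 318 (.node 1126 .nil .nil) .nil) (.node 326 (.node 165 .nil .nil) .nil))))

/-- A part of an array. -/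
noncomputable def part1314 : Arr ℕ :=
  (.node 1446 part1312 part1313)

/-- A part of an array. -/
noncomputable def part1315 : Arr ℕ :=
  (.node 447 (.node 908 (.node 158 (.node 162 (.node 116 .nil .nil) (.node 1693 .nil .nil)) (.node 226 (.node 44 .nil .nil) .nil)) (.node 720 (.node 1591 (.node 1269 .nil .nil) (.node 1216 .nil .nil)) (.node 280 (.node 1582 .nil .nil) .nil))) (.node 1328 (.node 951 (.node 637 (.node 59 .nil .nil) (.node 433 .nil .nil)) (.node 1394 (.node 53 .nil .nil) .nil)) (.node 166 (.node 220 (.node 574 .nil .nil) (.node 1706 .nil .nil)) (.node 1239 (.node 655 .nil .nil) .nil))))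

/-- A part of an array. -/
noncomputable def part1316 : Arr ℕ :=
  (.node 913 (.node 591 (.node 62 (.node 1374 (.node 785 .nil .nil) (.node 1631 .nil .nil)) (.node 662 (.node 1135 .nil .nil) .nil)) (.node 267 (.node 1679 (.node 595 .nil .nil) (.node 343 .nil .nil)) (.node 666 (.node 618 .nil .nil) .nil))) (.node 20 (.node 1181 (.node 1487 (.node 184 .nil .nil) (.node 890 .nil .nil)) (.node 299 (.node 346 .nil .nil) .nil)) (.node 112 (.node 317 (.node 1581 .nil .nil) .nil) (.node 678 (.node 1754 .nil .nil) .nil))))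

/-- A part of an array. -/
noncomputable def part1317 : Arr ℕ :=
  (.node 1253 part1315 part1316)

/-- A part of an array. -/
noncomputable def part1318 : Arr ℕ :=
  (.node 1007 (.node 322 (.node 640 (.node 1490 (.node 1441 .nil .nil) (.node 1301 .nil .nil)) (.node 1606 (.node 1358 .nil .nil) .nil)) (.node 936 (.node 1326 (.node 120 .nil .nil) (.node 593 .nil .nil)) (.node 119 (.node 1670 .nil .nil) .nil))) (.node 712 (.node 46 (.node 1616 (.node 1361 .nil .nil) (.node 1615 .nil .nil)) (.node 1475 (.node 1035 .nil .nil) .nil)) (.node 924 (.node 1090 (.node 83 .nil .nil) (.node 1668 .nil .nil)) (.node 84 (.node 1137 .nil .nil) .nil))))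

/-- A part of an array. -/
noncomputable def part1319 : Arr ℕ :=
  (.node 1172 (.node 422 (.node 1107 (.node 80 (.node 1734 .nil .nil) (.node 416 .nil .nil)) (.node 665 (.node 1715 .nil .nil) .nil)) (.node 1516 (.node 429 (.node 419 .nil .nil) (.node 1017 .nil .nil)) (.node 446 (.node 525 .nil .nil) .nil))) (.node 989 (.node 442 (.node 1308 (.node 828 .nil .nil) (.node 219 .nil .nil)) (.node 990 (.node 905 .nil .nil) .nil)) (.node 348 (.node 919 (.node 1548 .nil .nil) .nil) (.node 1505 (.node 218 .nil .nil) .nil))))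

/-- A part of an array. -/
noncomputable def part1320 : Arr ℕ :=
  (.node 945 part1318 part1319)

/-- A part of an array. -/
noncomputable def part1321 : Arr ℕ :=
  (.node 67 (.node 482 (.node 169 (.node 465 (.node 185 .nil .nil) (.node 1551 .nil .nil)) (.node 1404 (.node 94 .nil .nil) .nil)) (.node 304 (.node 292 (.node 1428 .nil .nil) (.node 1051 .nil .nil)) (.node 1707 (.node 1491 .nil .nil) .nil))) (.node 1195 (.node 697 (.node 1340 (.node 973 .nil .nil) (.node 688 .nil .nil)) (.node 533 (.node 1493 .nil .nil) .nil)) (.node 600 (.node 306 (.node 367 .nil .nil) (.node 341 .nil .nil)) (.node 610 (.node 451 .nil .nil) .nil))))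

/-- A part of an array. -/
noncomputable def part1322 : Arr ℕ :=
  (.node 58 (.node 736 (.node 849 (.node 153 (.node 204 .nil .nil) (.node 144 .nil .nil)) (.node 90 (.node 225 .nil .nil) .nil)) (.node 227 (.node 1149 (.node 603 .nil .nil) (.node 1148 .nil .nil)) (.node 1032 (.node 520 .nil .nil) .nil))) (.node 118 (.node 224 (.node 121 (.node 342 .nil .nil) (.node 711 .nil .nil)) (.node 410 (.node 215 .nil .nil) .nil)) (.node 85 (.node 175 (.node 124 .nil .nil) .nil) (.node 167 (.node 157 .nil .nil) .nil))))

/-- A part of an array. -/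
noncomputable def part1323 : Arr ℕ :=
  (.node 36 part1321 part1322)

/-- A part of an array. -/
noncomputable def part1324 : Arr ℕ :=
  (.node 2 (.node 217 (.node 29 (.node 713 (.node 13 .nil .nil) (.node 18 .nil .nil)) (.node 14 (.node 11 .nil .nil) .nil)) (.node 1529 (.node 1093 (.node 1414 .nil .nil) (.node 1285 .nil .nil)) (.node 436 (.node 838 .nil .nil) .nil))) (.node 1 (.node 6 (.node 7 (.node 135 .nil .nil) (.node 129 .nil .nil)) (.node 16 (.node 27 .nil .nil) .nil)) (.node 3 (.node 0 (.node 26 .nil .nil) .nil) (.node 8 (.node 17 .nil .nil) .nil))))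

/-- A part of an array. -/
noncomputable def part1325 : Arr ℕ :=
  (.node 38 (.node 142 (.node 259 (.node 125 (.node 589 .nil .nil) (.node 238 .nil .nil)) (.node 271 (.node 719 .nil .nil) .nil)) (.node 1356 (.node 344 (.node 1042 .nil .nil) (.node 155 .nil .nil)) (.node 941 (.node 139 .nil .nil) .nil))) (.node 79 (.node 275 (.node 244 (.node 60 .nil .nil) (.node 10 .nil .nil)) (.node 30 (.node 4 .nil .nil) .nil)) (.node 201 (.node 15 (.node 96 .nil .nil) .nil) (.node 51 (.node 9 .nil .nil) .nil))))

/-- A part of an array. -/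
noncomputable def part1326 : Arr ℕ :=
  (.node 21 part1324 part1325)

/-- A part of an array. -/
noncomputable def part1327 : Arr ℕ :=
  (.node 780 (.node 1303 (.node 1250 (.node 353 (.node 1141 .nil .nil) (.node 1210 .nil .nil)) (.node 852 (.node 1602 .nil .nil) .nil)) (.node 1724 (.node 636 (.node 1460 .nil .nil) (.node 581 .nil .nil)) (.node 609 (.node 592 .nil .nil) .nil))) (.node 1196 (.node 302 (.node 1436 (.node 874 .nil .nil) (.node 784 .nil .nil)) (.node 359 (.node 1689 .nil .nil) .nil)) (.node 1743 (.node 1506 (.node 674 .nil .nil) (.node 1399 .nil .nil)) (.node 1750 (.node 375 .nil .nil) .nil))))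

/-- A part of an array. -/
noncomputable def part1328 : Arr ℕ :=
  (.node 1079 (.node 497 (.node 1403 (.node 499 (.node 82 .nil .nil) (.node 1713 .nil .nil)) (.node 1351 (.node 749 .nil .nil) .nil)) (.node 1026 (.node 669 (.node 1677 .nil .nil) (.node 1004 .nil .nil)) (.node 132 (.node 426 .nil .nil) .nil))) (.node 320 (.node 841 (.node 1091 (.node 368 .nil .nil) (.node 645 .nil .nil)) (.node 1076 (.node 1448 .nil .nil) .nil)) (.node 648 (.node 599 (.node 586 .nil .nil) .nil) (.node 1711 (.node 311 .nil .nil) .nil))))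

/-- A part of an array. -/
noncomputable def part1329 : Arr ℕ :=
  (.node 242 part1327 part1328)

/-- A part of an array. -/
noncomputable def part1330 : Arr ℕ :=
  (.node 1681 (.node 1228 (.node 542 (.node 1675 (.node 1590 .nil .nil) (.node 192 .nil .nil)) (.node 1167 (.node 934 .nil .nil) .nil)) (.node 1232 (.node 1553 (.node 1738 .nil .nil) (.node 198 .nil .nil)) (.node 758 (.node 851 .nil .nil) .nil))) (.node 1176 (.node 959 (.node 384 (.node 1166 .nil .nil) (.node 1401 .nil .nil)) (.node 1504 (.node 598 .nil .nil) .nil)) (.node 1608 (.node 1745 (.node 1155 .nil .nil) (.node 1134 .nil .nil)) (.node 1293 (.node 428 .nil .nil) .nil))))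

/-- A part of an array. -/
noncomputable def part1331 : Arr ℕ :=
  (.node 1716 (.node 1659 (.node 495 (.node 703 (.node 1612 .nil .nil) (.node 650 .nil .nil)) (.node 1143 (.node 331 .nil .nil) .nil)) (.node 983 (.node 865 (.node 1201 .nil .nil) (.node 770 .nil .nil)) (.node 912 (.node 1465 .nil .nil) .nil))) (.node 667 (.node 1223 (.node 1722 (.node 503 .nil .nil) (.node 1406 .nil .nil)) (.node 544 (.node 61 .nil .nil) .nil)) (.node 1273 (.node 788 (.node 457 .nil .nil) .nil) (.node 74 (.node 1442 .nil .nil) .nil))))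

/-- A part of an array. -/
noncomputable def part1332 : Arr ℕ :=
  (.node 1474 part1330 part1331)

/-- A part of an array. -/
noncomputable def part1333 : Arr ℕ :=
  (.node 1472 (.node 1501 (.node 695 (.node 1147 (.node 1571 .nil .nil) (.node 467 .nil .nil)) (.node 1128 (.node 174 .nil .nil) .nil)) (.node 393 (.node 1654 (.node 483 .nil .nil) (.node 799 .nil .nil)) (.node 498 (.node 1359 .nil .nil) .nil))) (.node 675 (.node 1057 (.node 1348 (.node 1685 .nil .nil) (.node 879 .nil .nil)) (.node 691 (.node 1140 .nil .nil) .nil)) (.node 718 (.node 437 (.node 981 .nil .nil) (.node 1578 .nil .nil)) (.node 1206 (.node 1034 .nil .nil) .nil))))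

/-- A part of an array. -/
noncomputable def part1334 : Arr ℕ :=
  (.node 750 (.node 1628 (.node 518 (.node 55 (.node 450 .nil .nil) (.node 1271 .nil .nil)) (.node 1589 (.node 987 .nil .nil) .nil)) (.node 40 (.node 1116 (.node 1619 .nil .nil) (.node 1592 .nil .nil)) (.node 1481 (.node 617 .nil .nil) .nil))) (.node 887 (.node 694 (.node 104 (.node 340 .nil .nil) (.node 113 .nil .nil)) (.node 964 (.node 88 .nil .nil) .nil)) (.node 587 (.node 1186 (.node 354 .nil .nil) .nil) (.node 1483 (.node 78 .nil .nil) .nil))))

/-- A part of an array. -/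
noncomputable def part1335 : Arr ℕ :=
  (.node 395 part1333 part1334)

/-- A part of an array. -/
noncomputable def part1336 : Arr ℕ :=
  (.node 241 (.node 1544 (.node 1447 (.node 1074 (.node 314 .nil .nil) (.node 583 .nil .nil)) (.node 942 (.node 1555 .nil .nil) .nil)) (.node 56 (.node 1233 (.node 993 .nil .nil) (.node 1313 .nil .nil)) (.node 626 (.node 382 .nil .nil) .nil))) (.node 930 (.node 461 (.node 679 (.node 1587 .nil .nil) (.node 1198 .nil .nil)) (.node 986 (.node 1726 .nil .nil) .nil)) (.node 547 (.node 882 (.node 1621 .nil .nil) (.node 1488 .nil .nil)) (.node 842 (.node 1618 .nil .nil) .nil))))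

/-- A part of an array. -/
noncomputable def part1337 : Arr ℕ :=
  (.node 1029 (.node 868 (.node 643 (.node 580 (.node 233 .nil .nil) (.node 1274 .nil .nil)) (.node 1623 (.node 494 .nil .nil) .nil)) (.node 840 (.node 1189 (.node 1546 .nil .nil) (.node 1579 .nil .nil)) (.node 439 (.node 1330 .nil .nil) .nil))) (.node 1305 (.node 633 (.node 991 (.node 106 .nil .nil) (.node 183 .nil .nil)) (.node 171 (.node 1482 .nil .nil) .nil)) (.node 1193 (.node 1067 (.node 188 .nil .nil) .nil) (.node 1727 (.node 137 .nil .nil) .nil))))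

/-- A part of an array. -/
noncomputable def part1338 : Arr ℕ :=
  (.node 907 part1336 part1337)

/-- A part of an array. -/
noncomputable def part1339 : Arr ℕ :=
  (.node 255 (.node 1104 (.node 1082 (.node 1452 (.node 1236 .nil .nil) (.node 492 .nil .nil)) (.node 744 (.node 191 .nil .nil) .nil)) (.node 441 (.node 22 (.node 468 .nil .nil) (.node 68 .nil .nil)) (.node 671 (.node 111 .nil .nil) .nil))) (.node 896 (.node 672 (.node 1089 (.node 131 .nil .nil) (.node 1310 .nil .nil)) (.node 822 (.node 1235 .nil .nil) .nil)) (.node 1100 (.node 569 (.node 863 .nil .nil) (.node 102 .nil .nil)) (.node 906 (.node 98 .nil .nil) .nil))))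

/-- A part of an array. -/
noncomputable def part1340 : Arr ℕ :=
  (.node 818 (.node 917 (.node 1500 (.node 625 (.node 1070 .nil .nil) (.node 363 .nil .nil)) (.node 1182 (.node 1362 .nil .nil) .nil)) (.node 1158 (.node 594 (.node 254 .nil .nil) (.node 1732 .nil .nil)) (.node 108 (.node 1217 .nil .nil) .nil))) (.node 34 (.node 150 (.node 827 (.node 1701 .nil .nil) (.node 143 .nil .nil)) (.node 797 (.node 140 .nil .nil) .nil)) (.node 1225 (.node 631 (.node 823 .nil .nil) .nil) (.node 1552 (.node 194 .nil .nil) .nil))))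

/-- A part of an array. -/
noncomputable def part1341 : Arr ℕ :=
  (.node 1270 part1339 part1340)

/-- A part of an array. -/
noncomputable def part1342 : Arr ℕ :=
  (.node 1443 (.node 627 (.node 1453 (.node 1179 (.node 681 .nil .nil) (.node 189 .nil .nil)) (.node 193 (.node 1207 .nil .nil) .nil)) (.node 1307 (.node 875 (.node 86 .nil .nil) (.node 1574 .nil .nil)) (.node 707 (.node 357 .nil .nil) .nil))) (.node 1480 (.node 1604 (.node 33 (.node 1040 .nil .nil) (.node 202 .nil .nil)) (.node 95 (.node 1073 .nil .nil) .nil)) (.node 1247 (.node 724 (.node 339 .nil .nil) (.node 746 .nil .nil)) (.node 64 (.node 1127 .nil .nil) .nil))))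

/-- A part of an array. -/
noncomputable def part1343 : Arr ℕ :=
  (.node 1212 (.node 251 (.node 1671 (.node 1617 (.node 305 .nil .nil) (.node 1178 .nil .nil)) (.node 1550 (.node 755 .nil .nil) .nil)) (.node 466 (.node 769 (.node 49 .nil .nil) (.node 1262 .nil .nil)) (.node 1639 (.node 658 .nil .nil) .nil))) (.node 1704 (.node 1507 (.node 1495 (.node 1280 .nil .nil) (.node 107 .nil .nil)) (.node 1188 (.node 1234 .nil .nil) .nil)) (.node 895 (.node 1748 (.node 362 .nil .nil) .nil) (.node 635 (.node 1264 .nil .nil) .nil))))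

/-- A part of an array. -/
noncomputable def part1344 : Arr ℕ :=
  (.node 1015 part1342 part1343)

/-- A part of an array. -/
noncomputable def part1345 : Arr ℕ :=
  (.node 1570 (.node 807 (.node 604 (.node 377 (.node 249 .nil .nil) (.node 208 .nil .nil)) (.node 394 (.node 358 .nil .nil) .nil)) (.node 300 (.node 270 (.node 70 .nil .nil) (.node 141 .nil .nil)) (.node 100 (.node 250 .nil .nil) .nil))) (.node 1510 (.node 1565 (.node 1657 (.node 42 .nil .nil) (.node 1174 .nil .nil)) (.node 740 (.node 89 .nil .nil) .nil)) (.node 1075 (.node 860 (.node 210 .nil .nil) (.node 1080 .nil .nil)) (.node 156 (.node 552 .nil .nil) .nil))))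

/-- A part of an array. -/
noncomputable def part1346 : Arr ℕ :=
  (.node 1169 (.node 817 (.node 392 (.node 800 (.node 480 .nil .nil) (.node 252 .nil .nil)) (.node 634 (.node 748 .nil .nil) .nil)) (.node 1190 (.node 1371 (.node 708 .nil .nil) (.node 968 .nil .nil)) (.node 1420 (.node 1651 .nil .nil) .nil))) (.node 1423 (.node 81 (.node 203 (.node 1470 .nil .nil) (.node 944 .nil .nil)) (.node 1749 (.node 1641 .nil .nil) .nil)) (.node 216 (.node 303 (.node 356 .nil .nil) .nil) (.node 381 (.node 361 .nil .nil) .nil))))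

/-- A part of an array. -/
noncomputable def part1347 : Arr ℕ :=
  (.node 551 part1345 part1346)

/-- A part of an array. -/
noncomputable def part1348 : Arr ℕ :=
  (.node 76 (.node 57 (.node 619 (.node 1728 (.node 549 .nil .nil) (.node 295 .nil .nil)) (.node 291 (.node 412 .nil .nil) .nil)) (.node 1665 (.node 1256 (.node 638 .nil .nil) (.node 1191 .nil .nil)) (.node 1438 (.node 1203 .nil .nil) .nil))) (.node 50 (.node 209 (.node 333 (.node 229 .nil .nil) (.node 440 .nil .nil)) (.node 1352 (.node 880 .nil .nil) .nil)) (.node 378 (.node 160 (.node 214 .nil .nil) .nil) (.node 790 (.node 418 .nil .nil) .nil))))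

/-- A part of an array. -/
noncomputable def part1349 : Arr ℕ :=
  (.node 134 (.node 87 (.node 980 (.node 529 (.node 1569 .nil .nil) (.node 288 .nil .nil)) (.node 474 (.node 1508 .nil .nil) .nil)) (.node 877 (.node 1265 (.node 1200 .nil .nil) (.node 843 .nil .nil)) (.node 649 (.node 1086 .nil .nil) .nil))) (.node 1144 (.node 161 (.node 148 (.node 898 .nil .nil) (.node 773 .nil .nil)) (.node 862 (.node 1125 .nil .nil) .nil)) (.node 211 (.node 283 (.node 1400 .nil .nil) .nil) (.node 1142 (.node 582 .nil .nil) .nil))))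

/-- A part of an array. -/
noncomputable def part1350 : Arr ℕ :=
  (.node 577 part1348 part1349)

/-- A part of an array. -/
noncomputable def part1351 : Arr ℕ :=
  (.node 972 (.node 553 (.node 1430 (.node 901 (.node 1159 .nil .nil) (.node 371 .nil .nil)) (.node 565 (.node 1649 .nil .nil) .nil)) (.node 1170 (.node 126 (.node 1319 .nil .nil) (.node 425 .nil .nil)) (.node 1113 (.node 213 .nil .nil) .nil))) (.node 1052 (.node 1484 (.node 294 (.node 584 .nil .nil) (.node 398 .nil .nil)) (.node 516 (.node 1194 .nil .nil) .nil)) (.node 228 (.node 1025 (.node 1337 .nil .nil) (.node 1674 .nil .nil)) (.node 965 (.node 629 .nil .nil) .nil))))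

/-- A part of an array. -/
noncomputable def part1352 : Arr ℕ :=
  (.node 71 (.node 1676 (.node 808 (.node 540 (.node 1187 .nil .nil) (.node 1485 .nil .nil)) (.node 809 (.node 1027 .nil .nil) .nil)) (.node 1723 (.node 1601 (.node 1094 .nil .nil) (.node 774 .nil .nil)) (.node 767 (.node 1129 .nil .nil) .nil))) (.node 878 (.node 200 (.node 397 (.node 336 .nil .nil) (.node 1678 .nil .nil)) (.node 1251 (.node 1594 .nil .nil) .nil)) (.node 839 (.node 833 (.node 1297 .nil .nil) .nil) (.node 1083 (.node 777 .nil .nil) .nil))))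

/-- A part of an array. -/
noncomputable def part1353 : Arr ℕ :=
  (.node 197 part1351 part1352)

/-- A part of an array. -/
noncomputable def part1354 : Arr ℕ :=
  (.node 1336 (.node 947 (.node 1434 (.node 1458 (.node 1614 .nil .nil) (.node 692 .nil .nil)) (.node 830 (.node 284 .nil .nil) .nil)) (.node 496 (.node 548 (.node 903 .nil .nil) (.node 1180 .nil .nil)) (.node 1653 (.node 1329 .nil .nil) .nil))) (.node 546 (.node 500 (.node 170 (.node 1494 .nil .nil) (.node 1097 .nil .nil)) (.node 775 (.node 752 .nil .nil) .nil)) (.node 1575 (.node 1291 (.node 1532 .nil .nil) (.node 406 .nil .nil)) (.node 753 (.node 222 .nil .nil) .nil))))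

/-- A part of an array. -/
noncomputable def part1355 : Arr ℕ :=
  (.node 138 (.node 1740 (.node 347 (.node 605 (.node 554 .nil .nil) (.node 1099 .nil .nil)) (.node 1386 (.node 1335 .nil .nil) .nil)) (.node 979 (.node 72 (.node 1445 .nil .nil) (.node 182 .nil .nil)) (.node 1383 (.node 1311 .nil .nil) .nil))) (.node 1012 (.node 114 (.node 1547 (.node 904 .nil .nil) (.node 760 .nil .nil)) (.node 1202 (.node 1316 .nil .nil) .nil)) (.node 1238 (.node 1290 (.node 1525 .nil .nil) .nil) (.node 1173 (.node 1241 .nil .nil) .nil))))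

/-- A part of an array. -/
noncomputable def part1356 : Arr ℕ :=
  (.node 1346 part1354 part1355)

/-- A part of an array. -/
noncomputable def part1357 : Arr ℕ :=
  (.node 1522 (.node 1124 (.node 985 (.node 1215 (.node 1360 .nil .nil) (.node 741 .nil .nil)) (.node 312 (.node 1296 .nil .nil) .nil)) (.node 337 (.node 1333 (.node 561 .nil .nil) (.node 568 .nil .nil)) (.node 509 (.node 1498 .nil .nil) .nil))) (.node 1058 (.node 995 (.node 245 (.node 745 .nil .nil) (.node 424 .nil .nil)) (.node 771 (.node 360 .nil .nil) .nil)) (.node 1322 (.node 1292 (.node 335 .nil .nil) (.node 370 .nil .nil)) (.node 1226 (.node 1047 .nil .nil) .nil))))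

/-- A part of an array. -/
noncomputable def part1358 : Arr ℕ :=
  (.node 1204 (.node 835 (.node 513 (.node 1377 (.node 829 .nil .nil) (.node 414 .nil .nil)) (.node 1684 (.node 1338 .nil .nil) .nil)) (.node 996 (.node 1375 (.node 1683 .nil .nil) (.node 1519 .nil .nil)) (.node 273 (.node 1721 .nil .nil) .nil))) (.node 493 (.node 952 (.node 190 (.node 1370 .nil .nil) (.node 1426 .nil .nil)) (.node 805 (.node 538 .nil .nil) .nil)) (.node 145 (.node 884 (.node 1539 .nil .nil) .nil) (.node 1708 (.node 1066 .nil .nil) .nil))))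

/-- A part of an array. -/
noncomputable def part1359 : Arr ℕ :=
  (.node 1444 part1357 part1358)

/-- A part of an array. -/
noncomputable def part1360 : Arr ℕ :=
  (.node 1014 (.node 1476 (.node 334 (.node 861 (.node 1349 .nil .nil) (.node 652 .nil .nil)) (.node 355 (.node 1379 .nil .nil) .nil)) (.node 1503 (.node 1435 (.node 1011 .nil .nil) (.node 1279 .nil .nil)) (.node 644 (.node 1101 .nil .nil) .nil))) (.node 624 (.node 301 (.node 1056 (.node 730 .nil .nil) (.node 369 .nil .nil)) (.node 870 (.node 1118 .nil .nil) .nil)) (.node 1622 (.node 490 (.node 1635 .nil .nil) (.node 530 .nil .nil)) (.node 698 (.node 196 .nil .nil) .nil))))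

/-- A part of an array. -/
noncomputable def part1361 : Arr ℕ :=
  (.node 1022 (.node 795 (.node 1354 (.node 893 (.node 1175 .nil .nil) (.node 854 .nil .nil)) (.node 1350 (.node 1413 .nil .nil) .nil)) (.node 1636 (.node 1697 (.node 1739 .nil .nil) (.node 1610 .nil .nil)) (.node 1471 (.node 555 .nil .nil) .nil))) (.node 1457 (.node 738 (.node 1044 (.node 1064 .nil .nil) (.node 1197 .nil .nil)) (.node 266 (.node 539 .nil .nil) .nil)) (.node 1418 (.node 1245 (.node 1050 .nil .nil) .nil) (.node 1563 (.node 690 .nil .nil) .nil))))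

/-- A part of an array. -/
noncomputable def part1362 : Arr ℕ :=
  (.node 1325 part1360 part1361)

/-- A part of an array. -/
noncomputable def part1363 : Arr ℕ :=
  (.node 1205 (.node 927 (.node 737 (.node 1753 (.node 285 .nil .nil) (.node 612 .nil .nil)) (.node 661 (.node 920 .nil .nil) .nil)) (.node 1150 (.node 1502 (.node 900 .nil .nil) (.node 522 .nil .nil)) (.node 764 (.node 1469 .nil .nil) .nil))) (.node 804 (.node 1209 (.node 925 (.node 1454 .nil .nil) (.node 765 .nil .nil)) (.node 1161 (.node 159 .nil .nil) .nil)) (.node 1554 (.node 1526 (.node 1327 .nil .nil) (.node 1609 .nil .nil)) (.node 685 (.node 958 .nil .nil) .nil))))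

/-- A part of an array. -/
noncomputable def part1364 : Arr ℕ :=
  (.node 670 (.node 400 (.node 65 (.node 668 (.node 646 .nil .nil) (.node 1268 .nil .nil)) (.node 876 (.node 448 .nil .nil) .nil)) (.node 1680 (.node 1705 (.node 1192 .nil .nil) (.node 1415 .nil .nil)) (.node 1603 (.node 1402 .nil .nil) .nil))) (.node 1560 (.node 404 (.node 405 (.node 1258 .nil .nil) (.node 871 .nil .nil)) (.node 855 (.node 1455 .nil .nil) .nil)) (.node 847 (.node 427 (.node 297 .nil .nil) .nil) (.node 310 (.node 1105 .nil .nil) .nil))))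

/-- A part of an array. -/
noncomputable def part1365 : Arr ℕ :=
  (.node 1227 part1363 part1364)

/-- A part of an array. -/
noncomputable def part1366 : Arr ℕ :=
  (.node 1714 (.node 1492 (.node 1431 (.node 946 (.node 1254 .nil .nil) (.node 264 .nil .nil)) (.node 1598 (.node 1385 .nil .nil) .nil)) (.node 1281 (.node 1620 (.node 1647 .nil .nil) (.node 1246 .nil .nil)) (.node 308 (.node 531 .nil .nil) .nil))) (.node 324 (.node 1071 (.node 1043 (.node 1063 .nil .nil) (.node 1534 .nil .nil)) (.node 532 (.node 1240 .nil .nil) .nil)) (.node 651 (.node 837 (.node 641 .nil .nil) (.node 715 .nil .nil)) (.node 1248 (.node 1208 .nil .nil) .nil))))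

/-- A part of an array. -/
noncomputable def part1367 : Arr ℕ :=
  (.node 1363 (.node 722 (.node 1520 (.node 1033 (.node 537 .nil .nil) (.node 309 .nil .nil)) (.node 1646 (.node 614 .nil .nil) .nil)) (.node 606 (.node 136 (.node 1549 .nil .nil) (.node 1496 .nil .nil)) (.node 1095 (.node 786 .nil .nil) .nil))) (.node 781 (.node 1339 (.node 717 (.node 1731 .nil .nil) (.node 1747 .nil .nil)) (.node 423 (.node 834 .nil .nil) .nil)) (.node 1417 (.node 1521 (.node 1162 .nil .nil) .nil) (.node 869 (.node 172 .nil .nil) .nil))))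

/-- A part of an array. -/
noncomputable def part1368 : Arr ℕ :=
  (.node 1353 part1366 part1367)

/-- A part of an array. -/
noncomputable def part1369 : Arr ℕ :=
  (.node 1199 (.node 938 (.node 253 (.node 966 (.node 921 .nil .nil) (.node 943 .nil .nil)) (.node 613 (.node 454 .nil .nil) .nil)) (.node 383 (.node 163 (.node 463 .nil .nil) (.node 1036 .nil .nil)) (.node 570 (.node 1160 .nil .nil) .nil))) (.node 1489 (.node 969 (.node 1314 (.node 1062 .nil .nil) (.node 1718 .nil .nil)) (.node 1736 (.node 728 .nil .nil) .nil)) (.node 239 (.node 766 (.node 883 .nil .nil) (.node 886 .nil .nil)) (.node 541 (.node 647 .nil .nil) .nil))))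

/-- A part of an array. -/
noncomputable def part1370 : Arr ℕ :=
  (.node 101 (.node 452 (.node 234 (.node 1221 (.node 385 .nil .nil) (.node 256 .nil .nil)) (.node 431 (.node 173 .nil .nil) .nil)) (.node 366 (.node 1183 (.node 814 .nil .nil) (.node 391 .nil .nil)) (.node 1691 (.node 1686 .nil .nil) .nil))) (.node 122 (.node 105 (.node 1085 (.node 1650 .nil .nil) (.node 1437 .nil .nil)) (.node 206 (.node 390 .nil .nil) .nil)) (.node 1072 (.node 223 (.node 316 .nil .nil) .nil) (.node 415 (.node 365 .nil .nil) .nil))))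

/-- A part of an array. -/
noncomputable def part1371 : Arr ℕ :=
  (.node 1119 part1369 part1370)

/-- A part of an array. -/
noncomputable def part1372 : Arr ℕ :=
  (.node 110 (.node 1634 (.node 47 (.node 1302 (.node 696 .nil .nil) (.node 573 .nil .nil)) (.node 399 (.node 937 .nil .nil) .nil)) (.node 1276 (.node 560 (.node 701 .nil .nil) (.node 1255 .nil .nil)) (.node 1562 (.node 1596 .nil .nil) .nil))) (.node 154 (.node 387 (.node 759 (.node 1318 .nil .nil) (.node 832 .nil .nil)) (.node 1171 (.node 754 .nil .nil) .nil)) (.node 205 (.node 278 (.node 1078 .nil .nil) .nil) (.node 793 (.node 491 .nil .nil) .nil))))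

/-- A part of an array. -/
noncomputable def part1373 : Arr ℕ :=
  (.node 1054 (.node 535 (.node 517 (.node 195 (.node 1700 .nil .nil) (.node 350 .nil .nil)) (.node 729 (.node 1411 .nil .nil) .nil)) (.node 1449 (.node 950 (.node 1343 .nil .nil) (.node 872 .nil .nil)) (.node 1341 (.node 476 .nil .nil) .nil))) (.node 243 (.node 1427 (.node 881 (.node 1384 .nil .nil) (.node 1664 .nil .nil)) (.node 982 (.node 1527 .nil .nil) .nil)) (.node 123 (.node 1559 (.node 1672 .nil .nil) .nil) (.node 1320 (.node 1720 .nil .nil) .nil))))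

/-- A part of an array. -/
noncomputable def part1374 : Arr ℕ :=
  (.node 534 part1372 part1373)

/-- A part of an array. -/
noncomputable def part1375 : Arr ℕ :=
  (.node 953 (.node 1219 (.node 1479 (.node 1742 (.node 1473 .nil .nil) (.node 146 .nil .nil)) (.node 462 (.node 792 .nil .nil) .nil)) (.node 1709 (.node 1378 (.node 704 .nil .nil) (.node 1038 .nil .nil)) (.node 867 (.node 349 .nil .nil) .nil))) (.node 918 (.node 628 (.node 328 (.node 1451 .nil .nil) (.node 762 .nil .nil)) (.node 1369 (.node 1342 .nil .nil) .nil)) (.node 988 (.node 1419 (.node 1372 .nil .nil) (.node 1467 .nil .nil)) (.node 1153 (.node 836 .nil .nil) .nil))))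

/-- A part of an array. -/
noncomputable def part1376 : Arr ℕ :=
  (.node 563 (.node 1627 (.node 1030 (.node 1365 (.node 1288 .nil .nil) (.node 1573 .nil .nil)) (.node 1611 (.node 813 .nil .nil) .nil)) (.node 478 (.node 420 (.node 1315 .nil .nil) (.node 816 .nil .nil)) (.node 747 (.node 915 .nil .nil) .nil))) (.node 984 (.node 1633 (.node 1577 (.node 1214 .nil .nil) (.node 1324 .nil .nil)) (.node 1028 (.node 1572 .nil .nil) .nil)) (.node 1429 (.node 957 (.node 286 .nil .nil) .nil) (.node 1486 (.node 330 .nil .nil) .nil))))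

/-- A part of an array. -/
noncomputable def part1377 : Arr ℕ :=
  (.node 247 part1375 part1376)

/-- A part of an array. -/
noncomputable def part1378 : Arr ℕ :=
  (.node 1699 (.node 1130 (.node 1666 (.node 1698 (.node 778 .nil .nil) (.node 1687 .nil .nil)) (.node 364 (.node 1586 .nil .nil) .nil)) (.node 1669 (.node 1367 (.node 608 .nil .nil) (.node 401 .nil .nil)) (.node 1667 (.node 1323 .nil .nil) .nil))) (.node 726 (.node 307 (.node 1299 (.node 1154 .nil .nil) (.node 932 .nil .nil)) (.node 262 (.node 1518 .nil .nil) .nil)) (.node 1222 (.node 1237 (.node 1409 .nil .nil) (.node 186 .nil .nil)) (.node 1259 (.node 1533 .nil .nil) .nil))))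

/-- A part of an array. -/
noncomputable def part1379 : Arr ℕ :=
  (.node 607 (.node 1673 (.node 1643 (.node 1561 (.node 1424 .nil .nil) (.node 575 .nil .nil)) (.node 803 (.node 588 .nil .nil) .nil)) (.node 557 (.node 1735 (.node 1380 .nil .nil) (.node 1185 .nil .nil)) (.node 1366 (.node 1048 .nil .nil) .nil))) (.node 687 (.node 1213 (.node 621 (.node 1373 .nil .nil) (.node 1364 .nil .nil)) (.node 484 (.node 1151 .nil .nil) .nil)) (.node 178 (.node 1542 (.node 693 .nil .nil) .nil) (.node 721 (.node 1331 .nil .nil) .nil))))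

/-- A part of an array. -/
noncomputable def part1380 : Arr ℕ :=
  (.node 1152 part1378 part1379)

/-- A part of an array. -/
noncomputable def part1381 : Arr ℕ :=
  (.node 585 (.node 1077 (.node 742 (.node 660 (.node 417 .nil .nil) (.node 1068 .nil .nil)) (.node 1309 (.node 1733 .nil .nil) .nil)) (.node 1123 (.node 1407 (.node 1392 .nil .nil) (.node 329 .nil .nil)) (.node 787 (.node 1513 .nil .nil) .nil))) (.node 1275 (.node 1260 (.node 1391 (.node 1538 .nil .nil) (.node 1398 .nil .nil)) (.node 1131 (.node 1661 .nil .nil) .nil)) (.node 601 (.node 1695 (.node 632 .nil .nil) (.node 263 .nil .nil)) (.node 1111 (.node 1463 .nil .nil) .nil))))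

/-- A part of an array. -/
noncomputable def part1382 : Arr ℕ :=
  (.node 948 (.node 739 (.node 1013 (.node 1019 (.node 811 .nil .nil) (.node 1568 .nil .nil)) (.node 1312 (.node 526 .nil .nil) .nil)) (.node 1252 (.node 700 (.node 1645 .nil .nil) (.node 1523 .nil .nil)) (.node 1696 (.node 815 .nil .nil) .nil))) (.node 654 (.node 1122 (.node 514 (.node 315 .nil .nil) (.node 566 .nil .nil)) (.node 545 (.node 1512 .nil .nil) .nil)) (.node 1249 (.node 954 (.node 798 .nil .nil) .nil) (.node 1644 (.node 1088 .nil .nil) .nil))))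

/-- A part of an array. -/
noncomputable def part1383 : Arr ℕ :=
  (.node 824 part1381 part1382)

/-- A part of an array. -/
noncomputable def part1384 : Arr ℕ :=
  (.node 469 (.node 1410 (.node 1069 (.node 1478 (.node 1629 .nil .nil) (.node 928 .nil .nil)) (.node 543 (.node 859 .nil .nil) .nil)) (.node 1306 (.node 1638 (.node 732 .nil .nil) (.node 1607 .nil .nil)) (.node 1433 (.node 180 .nil .nil) .nil))) (.node 438 (.node 894 (.node 1298 (.node 1277 .nil .nil) (.node 1045 .nil .nil)) (.node 850 (.node 1640 .nil .nil) .nil)) (.node 1389 (.node 504 (.node 1425 .nil .nil) (.node 1613 .nil .nil)) (.node 1023 (.node 528 .nil .nil) .nil))))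

/-- A part of an array. -/
noncomputable def part1385 : Arr ℕ :=
  (.node 783 (.node 374 (.node 782 (.node 819 (.node 1021 .nil .nil) (.node 1278 .nil .nil)) (.node 976 (.node 411 .nil .nil) .nil)) (.node 1682 (.node 1156 (.node 1466 .nil .nil) (.node 1244 .nil .nil)) (.node 622 (.node 1660 .nil .nil) .nil))) (.node 743 (.node 1003 (.node 1703 (.node 1098 .nil .nil) (.node 642 .nil .nil)) (.node 998 (.node 902 .nil .nil) .nil)) (.node 1536 (.node 1477 (.node 488 .nil .nil) .nil) (.node 1243 (.node 939 .nil .nil) .nil))))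

/-- A part of an array. -/
noncomputable def part1386 : Arr ℕ :=
  (.node 506 part1384 part1385)

/-- A part of an array. -/
noncomputable def part1387 : Arr ℕ :=
  (.node 911 (.node 1725 (.node 933 (.node 916 (.node 596 .nil .nil) (.node 1408 .nil .nil)) (.node 1010 (.node 434 .nil .nil) .nil)) (.node 751 (.node 1405 (.node 999 .nil .nil) (.node 1464 .nil .nil)) (.node 825 (.node 1087 .nil .nil) .nil))) (.node 1462 (.node 1157 (.node 1261 (.node 891 .nil .nil) (.node 1037 .nil .nil)) (.node 1163 (.node 1139 .nil .nil) .nil)) (.node 725 (.node 1537 (.node 1381 .nil .nil) (.node 556 .nil .nil)) (.node 768 (.node 1717 .nil .nil) .nil))))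

/-- A part of an array. -/
noncomputable def part1388 : Arr ℕ :=
  (.node 791 (.node 1224 (.node 1084 (.node 960 (.node 246 .nil .nil) (.node 1600 .nil .nil)) (.node 1514 (.node 761 .nil .nil) .nil)) (.node 821 (.node 1397 (.node 1688 .nil .nil) (.node 572 .nil .nil)) (.node 1287 (.node 372 .nil .nil) .nil))) (.node 276 (.node 258 (.node 1092 (.node 1110 .nil .nil) (.node 1746 .nil .nil)) (.node 630 (.node 1524 .nil .nil) .nil)) (.node 709 (.node 1002 (.node 1177 .nil .nil) .nil) (.node 485 (.node 1165 .nil .nil) .nil))))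

/-- A part of an array. -/
noncomputable def part1389 : Arr ℕ :=
  (.node 699 part1387 part1388)

/-- A part of an array. -/
noncomputable def part1390 : Arr ℕ :=
  (.node 1558 (.node 772 (.node 763 (.node 663 (.node 512 .nil .nil) (.node 1497 .nil .nil)) (.node 181 (.node 1712 .nil .nil) .nil)) (.node 527 (.node 1000 (.node 325 .nil .nil) (.node 734 .nil .nil)) (.node 236 (.node 1132 .nil .nil) .nil))) (.node 639 (.node 1294 (.node 1517 (.node 1440 .nil .nil) (.node 92 .nil .nil)) (.node 975 (.node 443 .nil .nil) .nil)) (.node 1566 (.node 1006 (.node 460 .nil .nil) (.node 1393 .nil .nil)) (.node 677 (.node 931 .nil .nil) .nil))))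

/-- A part of an array. -/
noncomputable def part1391 : Arr ℕ :=
  (.node 756 (.node 1741 (.node 1662 (.node 1564 (.node 1267 .nil .nil) (.node 926 .nil .nil)) (.node 1637 (.node 479 .nil .nil) .nil)) (.node 481 (.node 1039 (.node 1229 .nil .nil) (.node 351 .nil .nil)) (.node 1218 (.node 1626 .nil .nil) .nil))) (.node 1347 (.node 978 (.node 1461 (.node 733 .nil .nil) (.node 676 .nil .nil)) (.node 1655 (.node 1020 .nil .nil) .nil)) (.node 1284 (.node 1597 (.node 332 .nil .nil) .nil) (.node 1652 (.node 459 .nil .nil) .nil))))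

/-- A part of an array. -/
noncomputable def part1392 : Arr ℕ :=
  (.node 470 part1390 part1391)

/-- A part of an array. -/
noncomputable def part1393 : Arr ℕ :=
  (.node 659 (.node 1584 (.node 1055 (.node 1730 (.node 1024 .nil .nil) (.node 1230 .nil .nil)) (.node 1605 (.node 831 .nil .nil) .nil)) (.node 1543 (.node 897 (.node 1541 .nil .nil) (.node 1117 .nil .nil)) (.node 1599 (.node 963 .nil .nil) .nil))) (.node 471 (.node 268 (.node 706 (.node 1710 .nil .nil) (.node 1001 .nil .nil)) (.node 1357 (.node 1729 .nil .nil) .nil)) (.node 971 (.node 1744 (.node 277 .nil .nil) (.node 686 .nil .nil)) (.node 567 (.node 1242 .nil .nil) .nil))))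

/-- A part of an array. -/
noncomputable def part1394 : Arr ℕ :=
  (.node 1459 (.node 1005 (.node 1515 (.node 702 (.node 269 .nil .nil) (.node 376 .nil .nil)) (.node 623 (.node 801 .nil .nil) .nil)) (.node 458 (.node 230 (.node 407 .nil .nil) (.node 844 .nil .nil)) (.node 1289 (.node 858 .nil .nil) .nil))) (.node 723 (.node 1690 (.node 515 (.node 776 .nil .nil) (.node 501 .nil .nil)) (.node 597 (.node 290 .nil .nil) .nil)) (.node 997 (.node 502 (.node 757 .nil .nil) .nil) (.node 402 (.node 396 .nil .nil) .nil))))

/-- A part of an array. -/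
noncomputable def part1395 : Arr ℕ :=
  (.node 1053 part1393 part1394)

/-- A part of an array. -/
noncomputable def part1396 : Arr ℕ :=
  (.node 1396 (.node 379 (.node 1531 (.node 445 (.node 602 .nil .nil) (.node 421 .nil .nil)) (.node 562 (.node 237 .nil .nil) .nil)) (.node 319 (.node 820 (.node 705 .nil .nil) (.node 338 .nil .nil)) (.node 1146 (.node 1109 .nil .nil) .nil))) (.node 1387 (.node 409 (.node 922 (.node 1046 .nil .nil) (.node 1345 .nil .nil)) (.node 519 (.node 1031 .nil .nil) .nil)) (.node 779 (.node 477 (.node 187 .nil .nil) .nil) (.node 940 (.node 298 .nil .nil) .nil))))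

/-- A part of an array. -/
noncomputable def part1397 : Arr ℕ :=
  (.node 956 (.node 857 (.node 1557 (.node 653 (.node 1121 .nil .nil) (.node 727 .nil .nil)) (.node 430 (.node 1049 .nil .nil) .nil)) (.node 1432 (.node 1321 (.node 789 .nil .nil) (.node 523 .nil .nil)) (.node 689 (.node 261 .nil .nil) .nil))) (.node 475 (.node 1530 (.node 1625 (.node 1164 .nil .nil) (.node 1499 .nil .nil)) (.node 616 (.node 1300 .nil .nil) .nil)) (.node 846 (.node 352 (.node 1540 .nil .nil) .nil) (.node 1528 (.node 735 .nil .nil) .nil))))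

/-- A part of an array. -/
noncomputable def part1398 : Arr ℕ :=
  (.node 272 part1396 part1397)

/-- A part of an array. -/
noncomputable def part1399 : Arr ℕ :=
  (.node 174 (.node 1024 (.node 926 (.node 775 (.node 266 .nil .nil) (.node 1024 .nil .nil)) (.node 1024 (.node 26 .nil .nil) .nil)) (.node 499 (.node 302 (.node 58 .nil .nil) (.node 1024 .nil .nil)) (.node 1024 (.node 1024 .nil .nil) .nil))) (.node 1024 (.node 1024 (.node 296 (.node 1024 .nil .nil) (.node 687 .nil .nil)) (.node 724 (.node 1024 .nil .nil) .nil)) (.node 35 (.node 1024 (.node 825 .nil .nil) (.node 1024 .nil .nil)) (.node 17 (.node 477 .nil .nil) .nil))))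

/-- A part of an array. -/
noncomputable def part1400 : Arr ℕ :=
  (.node 1024 (.node 1024 (.node 789 (.node 136 (.node 1024 .nil .nil) (.node 40 .nil .nil)) (.node 1024 (.node 679 .nil .nil) .nil)) (.node 1024 (.node 1024 (.node 1024 .nil .nil) (.node 771 .nil .nil)) (.node 1024 (.node 1024 .nil .nil) .nil))) (.node 703 (.node 738 (.node 282 (.node 131 .nil .nil) (.node 901 .nil .nil)) (.node 1024 (.node 63 .nil .nil) .nil)) (.node 769 (.node 1024 (.node 1024 .nil .nil) .nil) (.node 377 (.node 844 .nil .nil) .nil))))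

/-- A part of an array. -/
noncomputable def part1401 : Arr ℕ :=
  (.node 651 part1399 part1400)

/-- A part of an array. -/
noncomputable def part1402 : Arr ℕ :=
  (.node 649 (.node 709 (.node 36 (.node 632 (.node 1024 .nil .nil) (.node 929 .nil .nil)) (.node 390 (.node 1024 .nil .nil) .nil)) (.node 317 (.node 908 (.node 7 .nil .nil) (.node 766 .nil .nil)) (.node 531 (.node 1024 .nil .nil) .nil))) (.node 1024 (.node 14 (.node 1024 (.node 61 .nil .nil) (.node 1024 .nil .nil)) (.node 1024 (.node 519 .nil .nil) .nil)) (.node 1024 (.node 454 (.node 1024 .nil .nil) (.node 1024 .nil .nil)) (.node 129 (.node 1024 .nil .nil) .nil))))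

/-- A part of an array. -/
noncomputable def part1403 : Arr ℕ :=
  (.node 1024 (.node 1024 (.node 1024 (.node 1024 (.node 182 .nil .nil) (.node 950 .nil .nil)) (.node 1024 (.node 1024 .nil .nil) .nil)) (.node 513 (.node 66 (.node 726 .nil .nil) (.node 268 .nil .nil)) (.node 140 (.node 1024 .nil .nil) .nil))) (.node 408 (.node 146 (.node 471 (.node 920 .nil .nil) (.node 1024 .nil .nil)) (.node 1024 (.node 1024 .nil .nil) .nil)) (.node 335 (.node 1024 (.node 579 .nil .nil) .nil) (.node 1024 (.node 65 .nil .nil) .nil))))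

/-- A part of an array. -/
noncomputable def part1404 : Arr ℕ :=
  (.node 363 part1402 part1403)

/-- A part of an array. -/
noncomputable def part1405 : Arr ℕ :=
  (.node 159 (.node 672 (.node 934 (.node 311 (.node 808 .nil .nil) (.node 585 .nil .nil)) (.node 1024 (.node 889 .nil .nil) .nil)) (.node 1024 (.node 1024 (.node 1024 .nil .nil) (.node 601 .nil .nil)) (.node 1024 (.node 300 .nil .nil) .nil))) (.node 1024 (.node 1024 (.node 1024 (.node 1024 .nil .nil) (.node 1024 .nil .nil)) (.node 1024 (.node 674 .nil .nil) .nil)) (.node 1024 (.node 462 (.node 124 .nil .nil) (.node 1024 .nil .nil)) (.node 823 (.node 1024 .nil .nil) .nil))))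

/-- A part of an array. -/
noncomputable def part1406 : Arr ℕ :=
  (.node 606 (.node 1024 (.node 677 (.node 752 (.node 297 .nil .nil) (.node 277 .nil .nil)) (.node 1024 (.node 1024 .nil .nil) .nil)) (.node 68 (.node 1024 (.node 729 .nil .nil) (.node 1024 .nil .nil)) (.node 82 (.node 135 .nil .nil) .nil))) (.node 888 (.node 605 (.node 847 (.node 1024 .nil .nil) (.node 1024 .nil .nil)) (.node 1024 (.node 797 .nil .nil) .nil)) (.node 1024 (.node 1024 (.node 233 .nil .nil) .nil) (.node 998 (.node 1024 .nil .nil) .nil))))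

/-- A part of an array. -/
noncomputable def part1407 : Arr ℕ :=
  (.node 970 part1405 part1406)

/-- A part of an array. -/
noncomputable def part1408 : Arr ℕ :=
  (.node 210 (.node 1024 (.node 1024 (.node 564 (.node 833 .nil .nil) (.node 1024 .nil .nil)) (.node 310 (.node 514 .nil .nil) .nil)) (.node 237 (.node 1024 (.node 1024 .nil .nil) (.node 572 .nil .nil)) (.node 1024 (.node 824 .nil .nil) .nil))) (.node 1024 (.node 1024 (.node 1024 (.node 379 .nil .nil) (.node 1024 .nil .nil)) (.node 1024 (.node 1024 .nil .nil) .nil)) (.node 392 (.node 807 (.node 530 .nil .nil) (.node 1024 .nil .nil)) (.node 269 (.node 1024 .nil .nil) .nil))))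

/-- A part of an array. -/
noncomputable def part1409 : Arr ℕ :=
  (.node 925 (.node 1024 (.node 1024 (.node 391 (.node 549 .nil .nil) (.node 523 .nil .nil)) (.node 1024 (.node 1024 .nil .nil) .nil)) (.node 630 (.node 1024 (.node 1024 .nil .nil) (.node 758 .nil .nil)) (.node 286 (.node 183 .nil .nil) .nil))) (.node 23 (.node 256 (.node 41 (.node 1024 .nil .nil) (.node 1024 .nil .nil)) (.node 667 (.node 1024 .nil .nil) .nil)) (.node 1024 (.node 1024 (.node 463 .nil .nil) .nil) (.node 961 (.node 1024 .nil .nil) .nil))))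

/-- A part of an array. -/
noncomputable def part1410 : Arr ℕ :=
  (.node 744 part1408 part1409)

/-- A part of an array. -/
noncomputable def part1411 : Arr ℕ :=
  (.node 1024 (.node 654 (.node 1024 (.node 1024 (.node 1024 .nil .nil) (.node 753 .nil .nil)) (.node 1024 (.node 1024 .nil .nil) .nil)) (.node 1024 (.node 879 (.node 12 .nil .nil) (.node 460 .nil .nil)) (.node 1024 (.node 684 .nil .nil) .nil))) (.node 83 (.node 887 (.node 1024 (.node 1024 .nil .nil) (.node 1024 .nil .nil)) (.node 868 (.node 1024 .nil .nil) .nil)) (.node 1024 (.node 1024 (.node 1024 .nil .nil) (.node 941 .nil .nil)) (.node 28 (.node 659 .nil .nil) .nil))))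

/-- A part of an array. -/
noncomputable def part1412 : Arr ℕ :=
  (.node 711 (.node 141 (.node 1024 (.node 330 (.node 1024 .nil .nil) (.node 275 .nil .nil)) (.node 1024 (.node 190 .nil .nil) .nil)) (.node 1024 (.node 954 (.node 647 .nil .nil) (.node 3 .nil .nil)) (.node 1024 (.node 1024 .nil .nil) .nil))) (.node 1024 (.node 836 (.node 976 (.node 1 .nil .nil) (.node 362 .nil .nil)) (.node 1024 (.node 1024 .nil .nil) .nil)) (.node 1024 (.node 1024 (.node 85 .nil .nil) .nil) (.node 1024 (.node 128 .nil .nil) .nil))))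

/-- A part of an array. -/
noncomputable def part1413 : Arr ℕ :=
  (.node 1024 part1411 part1412)

/-- A part of an array. -/
noncomputable def part1414 : Arr ℕ :=
  (.node 1024 (.node 1024 (.node 583 (.node 349 (.node 515 .nil .nil) (.node 978 .nil .nil)) (.node 897 (.node 1024 .nil .nil) .nil)) (.node 1024 (.node 1024 (.node 1024 .nil .nil) (.node 1024 .nil .nil)) (.node 1024 (.node 1007 .nil .nil) .nil))) (.node 6 (.node 1024 (.node 207 (.node 1024 .nil .nil) (.node 992 .nil .nil)) (.node 754 (.node 264 .nil .nil) .nil)) (.node 1024 (.node 821 (.node 1024 .nil .nil) (.node 862 .nil .nil)) (.node 1024 (.node 1024 .nil .nil) .nil))))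

/-- A part of an array. -/
noncomputable def part1415 : Arr ℕ :=
  (.node 500 (.node 1024 (.node 1024 (.node 1024 (.node 722 .nil .nil) (.node 1024 .nil .nil)) (.node 1024 (.node 358 .nil .nil) .nil)) (.node 568 (.node 1024 (.node 1024 .nil .nil) (.node 1024 .nil .nil)) (.node 997 (.node 540 .nil .nil) .nil))) (.node 1024 (.node 1024 (.node 1024 (.node 1024 .nil .nil) (.node 1024 .nil .nil)) (.node 280 (.node 810 .nil .nil) .nil)) (.node 248 (.node 1024 (.node 642 .nil .nil) .nil) (.node 426 (.node 1024 .nil .nil) .nil))))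

/-- A part of an array. -/
noncomputable def part1416 : Arr ℕ :=
  (.node 1024 part1414 part1415)

/-- A part of an array. -/
noncomputable def part1417 : Arr ℕ :=
  (.node 1024 (.node 1024 (.node 1024 (.node 1024 (.node 1024 .nil .nil) (.node 388 .nil .nil)) (.node 189 (.node 1024 .nil .nil) .nil)) (.node 1024 (.node 1024 (.node 529 .nil .nil) (.node 232 .nil .nil)) (.node 274 (.node 461 .nil .nil) .nil))) (.node 466 (.node 235 (.node 51 (.node 827 .nil .nil) (.node 234 .nil .nil)) (.node 106 (.node 883 .nil .nil) .nil)) (.node 1024 (.node 1024 (.node 1024 .nil .nil) (.node 712 .nil .nil)) (.node 1024 (.node 414 .nil .nil) .nil))))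

/-- A part of an array. -/
noncomputable def part1418 : Arr ℕ :=
  (.node 1024 (.node 220 (.node 435 (.node 1024 (.node 1024 .nil .nil) (.node 1024 .nil .nil)) (.node 1024 (.node 1024 .nil .nil) .nil)) (.node 1024 (.node 814 (.node 1024 .nil .nil) (.node 1024 .nil .nil)) (.node 1023 (.node 996 .nil .nil) .nil))) (.node 1024 (.node 1024 (.node 1024 (.node 2 .nil .nil) (.node 5 .nil .nil)) (.node 1024 (.node 1024 .nil .nil) .nil)) (.node 1024 (.node 1024 (.node 1024 .nil .nil) .nil) (.node 1024 (.node 1024 .nil .nil) .nil))))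

/-- A part of an array. -/
noncomputable def part1419 : Arr ℕ :=
  (.node 1024 part1417 part1418)

/-- A part of an array. -/
noncomputable def part1420 : Arr ℕ :=
  (.node 1024 (.node 1024 (.node 1024 (.node 439 (.node 1024 .nil .nil) (.node 1024 .nil .nil)) (.node 1024 (.node 1024 .nil .nil) .nil)) (.node 730 (.node 1024 (.node 59 .nil .nil) (.node 25 .nil .nil)) (.node 670 (.node 518 .nil .nil) .nil))) (.node 1024 (.node 1024 (.node 1024 (.node 1024 .nil .nil) (.node 1024 .nil .nil)) (.node 1024 (.node 1024 .nil .nil) .nil)) (.node 1024 (.node 1024 (.node 1024 .nil .nil) .nil) (.node 1024 (.node 1024 .nil .nil) .nil))))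

/-- A part of an array. -/
noncomputable def part1421 : Arr ℕ :=
  (.node 1024 (.node 1024 (.node 1024 (.node 1024 (.node 27 .nil .nil) (.node 1024 .nil .nil)) (.node 1024 (.node 11 .nil .nil) .nil)) (.node 160 (.node 4 (.node 834 .nil .nil) (.node 1024 .nil .nil)) (.node 987 (.node 1024 .nil .nil) .nil))) (.node 1024 (.node 1024 (.node 1024 (.node 1024 .nil .nil) (.node 1024 .nil .nil)) (.node 1024 (.node 1024 .nil .nil) .nil)) (.node 1024 (.node 1024 (.node 1024 .nil .nil) .nil) (.node 1024 (.node 1024 .nil .nil) .nil))))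

/-- A part of an array. -/
noncomputable def part1422 : Arr ℕ :=
  (.node 1024 part1420 part1421)

/-- A part of an array. -/
noncomputable def part1423 : Arr ℕ :=
  (.node 226 (.node 610 (.node 1024 (.node 100 (.node 383 .nil .nil) (.node 34 .nil .nil)) (.node 90 (.node 52 .nil .nil) .nil)) (.node 714 (.node 692 (.node 157 .nil .nil) (.node 361 .nil .nil)) (.node 265 (.node 835 .nil .nil) .nil))) (.node 407 (.node 1024 (.node 545 (.node 980 .nil .nil) (.node 1024 .nil .nil)) (.node 1024 (.node 608 .nil .nil) .nil)) (.node 622 (.node 1024 (.node 1024 .nil .nil) (.node 669 .nil .nil)) (.node 495 (.node 1024 .nil .nil) .nil))))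

/-- A part of an array. -/
noncomputable def part1424 : Arr ℕ :=
  (.node 480 (.node 450 (.node 751 (.node 229 (.node 1024 .nil .nil) (.node 592 .nil .nil)) (.node 1018 (.node 1024 .nil .nil) .nil)) (.node 1024 (.node 1024 (.node 547 .nil .nil) (.node 1024 .nil .nil)) (.node 1024 (.node 759 .nil .nil) .nil))) (.node 109 (.node 467 (.node 822 (.node 303 .nil .nil) (.node 907 .nil .nil)) (.node 142 (.node 490 .nil .nil) .nil)) (.node 479 (.node 112 (.node 899 .nil .nil) .nil) (.node 719 (.node 653 .nil .nil) .nil))))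

/-- A part of an array. -/
noncomputable def part1425 : Arr ℕ :=
  (.node 849 part1423 part1424)

/-- A part of an array. -/
noncomputable def part1426 : Arr ℕ :=
  (.node 742 (.node 1024 (.node 1024 (.node 191 (.node 890 .nil .nil) (.node 1024 .nil .nil)) (.node 1024 (.node 1003 .nil .nil) .nil)) (.node 194 (.node 441 (.node 254 .nil .nil) (.node 1024 .nil .nil)) (.node 1024 (.node 736 .nil .nil) .nil))) (.node 534 (.node 341 (.node 1024 (.node 116 .nil .nil) (.node 39 .nil .nil)) (.node 79 (.node 306 .nil .nil) .nil)) (.node 1024 (.node 588 (.node 122 .nil .nil) (.node 584 .nil .nil)) (.node 71 (.node 370 .nil .nil) .nil))))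

/-- A part of an array. -/
noncomputable def part1427 : Arr ℕ :=
  (.node 139 (.node 880 (.node 1024 (.node 1024 (.node 422 .nil .nil) (.node 365 .nil .nil)) (.node 245 (.node 861 .nil .nil) .nil)) (.node 990 (.node 840 (.node 627 .nil .nil) (.node 192 .nil .nil)) (.node 625 (.node 301 .nil .nil) .nil))) (.node 693 (.node 892 (.node 180 (.node 1024 .nil .nil) (.node 285 .nil .nil)) (.node 839 (.node 1024 .nil .nil) .nil)) (.node 15 (.node 1012 (.node 1024 .nil .nil) .nil) (.node 1024 (.node 575 .nil .nil) .nil))))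

/-- A part of an array. -/
noncomputable def part1428 : Arr ℕ :=
  (.node 567 part1426 part1427)

/-- A part of an array. -/
noncomputable def part1429 : Arr ℕ :=
  (.node 1024 (.node 1024 (.node 1024 (.node 1024 (.node 165 .nil .nil) (.node 1024 .nil .nil)) (.node 648 (.node 1024 .nil .nil) .nil)) (.node 671 (.node 29 (.node 975 .nil .nil) (.node 1024 .nil .nil)) (.node 241 (.node 1024 .nil .nil) .nil))) (.node 48 (.node 169 (.node 458 (.node 573 .nil .nil) (.node 555 .nil .nil)) (.node 571 (.node 580 .nil .nil) .nil)) (.node 10 (.node 1024 (.node 86 .nil .nil) (.node 309 .nil .nil)) (.node 483 (.node 89 .nil .nil) .nil))))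

/-- A part of an array. -/
noncomputable def part1430 : Arr ℕ :=
  (.node 1024 (.node 53 (.node 1024 (.node 1024 (.node 413 .nil .nil) (.node 38 .nil .nil)) (.node 482 (.node 175 .nil .nil) .nil)) (.node 1024 (.node 715 (.node 348 .nil .nil) (.node 55 .nil .nil)) (.node 621 (.node 252 .nil .nil) .nil))) (.node 111 (.node 1024 (.node 1024 (.node 917 .nil .nil) (.node 1024 .nil .nil)) (.node 372 (.node 1024 .nil .nil) .nil)) (.node 395 (.node 181 (.node 1024 .nil .nil) .nil) (.node 666 (.node 1024 .nil .nil) .nil))))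

/-- A part of an array. -/
noncomputable def part1431 : Arr ℕ :=
  (.node 1024 part1429 part1430)

/-- A part of an array. -/
noncomputable def part1432 : Arr ℕ :=
  (.node 1024 (.node 343 (.node 405 (.node 1024 (.node 1024 .nil .nil) (.node 762 .nil .nil)) (.node 1024 (.node 347 .nil .nil) .nil)) (.node 1024 (.node 196 (.node 110 .nil .nil) (.node 1024 .nil .nil)) (.node 817 (.node 1024 .nil .nil) .nil))) (.node 56 (.node 125 (.node 87 (.node 727 .nil .nil) (.node 308 .nil .nil)) (.node 655 (.node 864 .nil .nil) .nil)) (.node 1024 (.node 1024 (.node 403 .nil .nil) (.node 199 .nil .nil)) (.node 37 (.node 147 .nil .nil) .nil))))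

/-- A part of an array. -/
noncomputable def part1433 : Arr ℕ :=
  (.node 1024 (.node 315 (.node 451 (.node 1024 (.node 204 .nil .nil) (.node 16 .nil .nil)) (.node 770 (.node 366 .nil .nil) .nil)) (.node 1024 (.node 394 (.node 123 .nil .nil) (.node 198 .nil .nil)) (.node 412 (.node 433 .nil .nil) .nil))) (.node 437 (.node 1024 (.node 1024 (.node 1024 .nil .nil) (.node 1011 .nil .nil)) (.node 1024 (.node 665 .nil .nil) .nil)) (.node 415 (.node 375 (.node 1024 .nil .nil) .nil) (.node 873 (.node 1024 .nil .nil) .nil))))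

/-- A part of an array. -/
noncomputable def part1434 : Arr ℕ :=
  (.node 1024 part1432 part1433)

/-- A part of an array. -/
noncomputable def part1435 : Arr ℕ :=
  (.node 1024 (.node 206 (.node 340 (.node 612 (.node 650 .nil .nil) (.node 1024 .nil .nil)) (.node 224 (.node 1024 .nil .nil) .nil)) (.node 688 (.node 1024 (.node 799 .nil .nil) (.node 1024 .nil .nil)) (.node 240 (.node 1024 .nil .nil) .nil))) (.node 195 (.node 1024 (.node 272 (.node 1024 .nil .nil) (.node 443 .nil .nil)) (.node 1024 (.node 923 .nil .nil) .nil)) (.node 613 (.node 92 (.node 134 .nil .nil) (.node 1024 .nil .nil)) (.node 865 (.node 1024 .nil .nil) .nil))))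

/-- A part of an array. -/
noncomputable def part1436 : Arr ℕ :=
  (.node 683 (.node 334 (.node 295 (.node 1024 (.node 877 .nil .nil) (.node 1024 .nil .nil)) (.node 962 (.node 1024 .nil .nil) .nil)) (.node 852 (.node 1024 (.node 1024 .nil .nil) (.node 117 .nil .nil)) (.node 1024 (.node 921 .nil .nil) .nil))) (.node 1024 (.node 1024 (.node 1024 (.node 255 .nil .nil) (.node 1024 .nil .nil)) (.node 906 (.node 1024 .nil .nil) .nil)) (.node 473 (.node 960 (.node 1024 .nil .nil) .nil) (.node 886 (.node 1024 .nil .nil) .nil))))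

/-- A part of an array. -/
noncomputable def part1437 : Arr ℕ :=
  (.node 13 part1435 part1436)

/-- A part of an array. -/
noncomputable def part1438 : Arr ℕ :=
  (.node 1024 (.node 1024 (.node 620 (.node 1024 (.node 905 .nil .nil) (.node 1024 .nil .nil)) (.node 1024 (.node 696 .nil .nil) .nil)) (.node 93 (.node 981 (.node 1024 .nil .nil) (.node 794 .nil .nil)) (.node 971 (.node 1024 .nil .nil) .nil))) (.node 163 (.node 694 (.node 1024 (.node 398 .nil .nil) (.node 1024 .nil .nil)) (.node 1024 (.node 626 .nil .nil) .nil)) (.node 400 (.node 1024 (.node 1019 .nil .nil) (.node 1024 .nil .nil)) (.node 1024 (.node 502 .nil .nil) .nil))))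

/-- A part of an array. -/
noncomputable def part1439 : Arr ℕ :=
  (.node 977 (.node 1024 (.node 731 (.node 520 (.node 1024 .nil .nil) (.node 617 .nil .nil)) (.node 313 (.node 1024 .nil .nil) .nil)) (.node 1024 (.node 609 (.node 1024 .nil .nil) (.node 49 .nil .nil)) (.node 587 (.node 1024 .nil .nil) .nil))) (.node 832 (.node 148 (.node 916 (.node 21 .nil .nil) (.node 1024 .nil .nil)) (.node 1024 (.node 860 .nil .nil) .nil)) (.node 1024 (.node 149 (.node 1024 .nil .nil) .nil) (.node 1024 (.node 896 .nil .nil) .nil))))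

/-- A part of an array. -/
noncomputable def part1440 : Arr ℕ :=
  (.node 155 part1438 part1439)

/-- A part of an array. -/
noncomputable def part1441 : Arr ℕ :=
  (.node 32 (.node 1024 (.node 1024 (.node 1024 (.node 1024 .nil .nil) (.node 1024 .nil .nil)) (.node 1024 (.node 1024 .nil .nil) .nil)) (.node 1024 (.node 1024 (.node 1024 .nil .nil) (.node 1024 .nil .nil)) (.node 1024 (.node 1024 .nil .nil) .nil))) (.node 187 (.node 84 (.node 548 (.node 1024 .nil .nil) (.node 1024 .nil .nil)) (.node 1024 (.node 1024 .nil .nil) .nil)) (.node 1024 (.node 1024 (.node 1024 .nil .nil) (.node 1024 .nil .nil)) (.node 1024 (.node 1024 .nil .nil) .nil))))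

/-- A part of an array. -/
noncomputable def part1442 : Arr ℕ :=
  (.node 1024 (.node 188 (.node 387 (.node 1024 (.node 664 .nil .nil) (.node 476 .nil .nil)) (.node 374 (.node 708 .nil .nil) .nil)) (.node 1024 (.node 574 (.node 643 .nil .nil) (.node 750 .nil .nil)) (.node 614 (.node 346 .nil .nil) .nil))) (.node 931 (.node 1024 (.node 1024 (.node 496 .nil .nil) (.node 508 .nil .nil)) (.node 903 (.node 922 .nil .nil) .nil)) (.node 1024 (.node 721 (.node 102 .nil .nil) .nil) (.node 943 (.node 475 .nil .nil) .nil))))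

/-- A part of an array. -/
noncomputable def part1443 : Arr ℕ :=
  (.node 1024 part1441 part1442)

/-- A part of an array. -/
noncomputable def part1444 : Arr ℕ :=
  (.node 1024 (.node 1024 (.node 1024 (.node 538 (.node 64 .nil .nil) (.node 517 .nil .nil)) (.node 50 (.node 201 .nil .nil) .nil)) (.node 158 (.node 1024 (.node 143 .nil .nil) (.node 244 .nil .nil)) (.node 805 (.node 680 .nil .nil) .nil))) (.node 1024 (.node 1024 (.node 1024 (.node 838 .nil .nil) (.node 544 .nil .nil)) (.node 522 (.node 661 .nil .nil) .nil)) (.node 1024 (.node 1021 (.node 238 .nil .nil) .nil) (.node 561 (.node 60 .nil .nil) .nil))))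

/-- A part of an array. -/
noncomputable def part1445 : Arr ℕ :=
  (.node 1024 (.node 1024 (.node 1024 (.node 1024 (.node 250 .nil .nil) (.node 1002 .nil .nil)) (.node 1005 (.node 115 .nil .nil) .nil)) (.node 179 (.node 259 (.node 972 .nil .nil) (.node 173 .nil .nil)) (.node 746 (.node 78 .nil .nil) .nil))) (.node 619 (.node 1024 (.node 1024 (.node 283 .nil .nil) (.node 492 .nil .nil)) (.node 133 (.node 781 .nil .nil) .nil)) (.node 1024 (.node 472 (.node 870 .nil .nil) .nil) (.node 581 (.node 761 .nil .nil) .nil))))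

/-- A part of an array. -/
noncomputable def part1446 : Arr ℕ :=
  (.node 164 part1444 part1445)

/-- A part of an array. -/
noncomputable def part1447 : Arr ℕ :=
  (.node 276 (.node 469 (.node 417 (.node 1024 (.node 1024 .nil .nil) (.node 1024 .nil .nil)) (.node 894 (.node 494 .nil .nil) .nil)) (.node 1024 (.node 1024 (.node 1024 .nil .nil) (.node 1024 .nil .nil)) (.node 904 (.node 1024 .nil .nil) .nil))) (.node 113 (.node 516 (.node 1024 (.node 1024 .nil .nil) (.node 1024 .nil .nil)) (.node 535 (.node 796 .nil .nil) .nil)) (.node 1024 (.node 1024 (.node 816 .nil .nil) (.node 590 .nil .nil)) (.node 733 (.node 1024 .nil .nil) .nil))))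

/-- A part of an array. -/
noncomputable def part1448 : Arr ℕ :=
  (.node 1024 (.node 985 (.node 271 (.node 1024 (.node 562 .nil .nil) (.node 963 .nil .nil)) (.node 662 (.node 278 .nil .nil) .nil)) (.node 312 (.node 595 (.node 953 .nil .nil) (.node 525 .nil .nil)) (.node 851 (.node 1024 .nil .nil) .nil))) (.node 505 (.node 1024 (.node 1024 (.node 1024 .nil .nil) (.node 369 .nil .nil)) (.node 253 (.node 352 .nil .nil) .nil)) (.node 1024 (.node 162 (.node 1024 .nil .nil) .nil) (.node 1024 (.node 966 .nil .nil) .nil))))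

/-- A part of an array. -/
noncomputable def part1449 : Arr ℕ :=
  (.node 46 part1447 part1448)

/-- A part of an array. -/
noncomputable def part1450 : Arr ℕ :=
  (.node 756 (.node 853 (.node 397 (.node 1024 (.node 503 .nil .nil) (.node 690 .nil .nil)) (.node 1024 (.node 1024 .nil .nil) .nil)) (.node 1024 (.node 1024 (.node 780 .nil .nil) (.node 1024 .nil .nil)) (.node 701 (.node 318 .nil .nil) .nil))) (.node 938 (.node 1024 (.node 1024 (.node 784 .nil .nil) (.node 747 .nil .nil)) (.node 1024 (.node 1024 .nil .nil) .nil)) (.node 795 (.node 1024 (.node 778 .nil .nil) (.node 1024 .nil .nil)) (.node 1024 (.node 1024 .nil .nil) .nil))))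

/-- A part of an array. -/
noncomputable def part1451 : Arr ℕ :=
  (.node 1024 (.node 289 (.node 1024 (.node 236 (.node 1024 .nil .nil) (.node 739 .nil .nil)) (.node 73 (.node 1024 .nil .nil) .nil)) (.node 1024 (.node 1024 (.node 660 .nil .nil) (.node 1024 .nil .nil)) (.node 202 (.node 445 .nil .nil) .nil))) (.node 298 (.node 1024 (.node 176 (.node 577 .nil .nil) (.node 713 .nil .nil)) (.node 1024 (.node 616 .nil .nil) .nil)) (.node 258 (.node 371 (.node 130 .nil .nil) .nil) (.node 293 (.node 994 .nil .nil) .nil))))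

/-- A part of an array. -/
noncomputable def part1452 : Arr ℕ :=
  (.node 448 part1450 part1451)

/-- A part of an array. -/
noncomputable def part1453 : Arr ℕ :=
  (.node 70 (.node 1024 (.node 1024 (.node 506 (.node 425 .nil .nil) (.node 1024 .nil .nil)) (.node 848 (.node 355 .nil .nil) .nil)) (.node 1024 (.node 331 (.node 1024 .nil .nil) (.node 1024 .nil .nil)) (.node 209 (.node 45 .nil .nil) .nil))) (.node 200 (.node 785 (.node 1024 (.node 225 .nil .nil) (.node 1024 .nil .nil)) (.node 1024 (.node 1024 .nil .nil) .nil)) (.node 1024 (.node 640 (.node 1024 .nil .nil) (.node 1024 .nil .nil)) (.node 474 (.node 820 .nil .nil) .nil))))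

/-- A part of an array. -/
noncomputable def part1454 : Arr ℕ :=
  (.node 243 (.node 939 (.node 430 (.node 261 (.node 409 .nil .nil) (.node 1024 .nil .nil)) (.node 161 (.node 1024 .nil .nil) .nil)) (.node 455 (.node 257 (.node 913 .nil .nil) (.node 717 .nil .nil)) (.node 1024 (.node 988 .nil .nil) .nil))) (.node 1024 (.node 768 (.node 1024 (.node 1024 .nil .nil) (.node 410 .nil .nil)) (.node 212 (.node 765 .nil .nil) .nil)) (.node 1024 (.node 698 (.node 314 .nil .nil) .nil) (.node 593 (.node 186 .nil .nil) .nil))))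

/-- A part of an array. -/
noncomputable def part1455 : Arr ℕ :=
  (.node 1001 part1453 part1454)

/-- A part of an array. -/
noncomputable def part1456 : Arr ℕ :=
  (.node 376 (.node 743 (.node 107 (.node 411 (.node 636 .nil .nil) (.node 569 .nil .nil)) (.node 1024 (.node 720 .nil .nil) .nil)) (.node 368 (.node 589 (.node 420 .nil .nil) (.node 19 .nil .nil)) (.node 1024 (.node 1024 .nil .nil) .nil))) (.node 1024 (.node 1024 (.node 168 (.node 1024 .nil .nil) (.node 1024 .nil .nil)) (.node 1024 (.node 446 .nil .nil) .nil)) (.node 223 (.node 1024 (.node 591 .nil .nil) (.node 787 .nil .nil)) (.node 1024 (.node 1024 .nil .nil) .nil))))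

/-- A part of an array. -/
noncomputable def part1457 : Arr ℕ :=
  (.node 685 (.node 937 (.node 1016 (.node 1006 (.node 706 .nil .nil) (.node 1024 .nil .nil)) (.node 337 (.node 1024 .nil .nil) .nil)) (.node 607 (.node 546 (.node 957 .nil .nil) (.node 876 .nil .nil)) (.node 800 (.node 1024 .nil .nil) .nil))) (.node 1024 (.node 193 (.node 846 (.node 707 .nil .nil) (.node 1024 .nil .nil)) (.node 813 (.node 424 .nil .nil) .nil)) (.node 373 (.node 402 (.node 231 .nil .nil) .nil) (.node 878 (.node 385 .nil .nil) .nil))))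

/-- A part of an array. -/
noncomputable def part1458 : Arr ℕ :=
  (.node 551 part1456 part1457)

/-- A part of an array. -/
noncomputable def part1459 : Arr ℕ :=
  (.node 845 (.node 1024 (.node 332 (.node 875 (.node 1024 .nil .nil) (.node 305 .nil .nil)) (.node 432 (.node 557 .nil .nil) .nil)) (.node 468 (.node 927 (.node 512 .nil .nil) (.node 691 .nil .nil)) (.node 217 (.node 1024 .nil .nil) .nil))) (.node 1024 (.node 859 (.node 793 (.node 338 .nil .nil) (.node 218 .nil .nil)) (.node 144 (.node 1024 .nil .nil) .nil)) (.node 831 (.node 536 (.node 416 .nil .nil) (.node 1024 .nil .nil)) (.node 804 (.node 393 .nil .nil) .nil))))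

/-- A part of an array. -/
noncomputable def part1460 : Arr ℕ :=
  (.node 239 (.node 1024 (.node 1024 (.node 1024 (.node 1024 .nil .nil) (.node 404 .nil .nil)) (.node 178 (.node 1024 .nil .nil) .nil)) (.node 288 (.node 945 (.node 304 .nil .nil) (.node 491 .nil .nil)) (.node 138 (.node 485 .nil .nil) .nil))) (.node 319 (.node 1024 (.node 401 (.node 251 .nil .nil) (.node 543 .nil .nil)) (.node 246 (.node 62 .nil .nil) .nil)) (.node 153 (.node 80 (.node 1024 .nil .nil) .nil) (.node 1024 (.node 434 .nil .nil) .nil))))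

/-- A part of an array. -/
noncomputable def part1461 : Arr ℕ :=
  (.node 31 part1459 part1460)

/-- A part of an array. -/
noncomputable def part1462 : Arr ℕ :=
  (.node 550 (.node 565 (.node 1024 (.node 1024 (.node 760 .nil .nil) (.node 47 .nil .nil)) (.node 1024 (.node 658 .nil .nil) .nil)) (.node 22 (.node 1024 (.node 154 .nil .nil) (.node 465 .nil .nil)) (.node 1024 (.node 20 .nil .nil) .nil))) (.node 1024 (.node 702 (.node 951 (.node 552 .nil .nil) (.node 1024 .nil .nil)) (.node 105 (.node 959 .nil .nil) .nil)) (.node 911 (.node 1022 (.node 1024 .nil .nil) (.node 8 .nil .nil)) (.node 324 (.node 615 .nil .nil) .nil))))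

/-- A part of an array. -/
noncomputable def part1463 : Arr ℕ :=
  (.node 126 (.node 1024 (.node 554 (.node 991 (.node 521 .nil .nil) (.node 1024 .nil .nil)) (.node 197 (.node 1024 .nil .nil) .nil)) (.node 1024 (.node 1024 (.node 597 .nil .nil) (.node 716 .nil .nil)) (.node 898 (.node 863 .nil .nil) .nil))) (.node 227 (.node 673 (.node 9 (.node 646 .nil .nil) (.node 323 .nil .nil)) (.node 668 (.node 618 .nil .nil) .nil)) (.node 828 (.node 88 (.node 1024 .nil .nil) .nil) (.node 528 (.node 1024 .nil .nil) .nil))))

/-- A part of an array. -/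
noncomputable def part1464 : Arr ℕ :=
  (.node 333 part1462 part1463)

/-- A part of an array. -/
noncomputable def part1465 : Arr ℕ :=
  (.node 560 (.node 1024 (.node 1024 (.node 1024 (.node 137 .nil .nil) (.node 1024 .nil .nil)) (.node 1024 (.node 291 .nil .nil) .nil)) (.node 1024 (.node 1024 (.node 837 .nil .nil) (.node 866 .nil .nil)) (.node 728 (.node 578 .nil .nil) .nil))) (.node 501 (.node 792 (.node 1024 (.node 893 .nil .nil) (.node 101 .nil .nil)) (.node 222 (.node 635 .nil .nil) .nil)) (.node 1024 (.node 1024 (.node 203 .nil .nil) (.node 1024 .nil .nil)) (.node 91 (.node 1024 .nil .nil) .nil))))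

/-- A part of an array. -/
noncomputable def part1466 : Arr ℕ :=
  (.node 1024 (.node 596 (.node 704 (.node 1024 (.node 423 .nil .nil) (.node 94 .nil .nil)) (.node 948 (.node 1004 .nil .nil) .nil)) (.node 1024 (.node 1013 (.node 1024 .nil .nil) (.node 1024 .nil .nil)) (.node 320 (.node 586 .nil .nil) .nil))) (.node 1024 (.node 1024 (.node 325 (.node 121 .nil .nil) (.node 263 .nil .nil)) (.node 1024 (.node 1024 .nil .nil) .nil)) (.node 782 (.node 177 (.node 725 .nil .nil) .nil) (.node 484 (.node 98 .nil .nil) .nil))))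

/-- A part of an array. -/
noncomputable def part1467 : Arr ℕ :=
  (.node 74 part1465 part1466)

/-- A part of an array. -/
noncomputable def part1468 : Arr ℕ :=
  (.node 1024 (.node 764 (.node 1024 (.node 436 (.node 493 .nil .nil) (.node 624 .nil .nil)) (.node 339 (.node 964 .nil .nil) .nil)) (.node 594 (.node 1024 (.node 1024 .nil .nil) (.node 1024 .nil .nil)) (.node 1024 (.node 1024 .nil .nil) .nil))) (.node 1024 (.node 1024 (.node 1024 (.node 657 .nil .nil) (.node 367 .nil .nil)) (.node 1017 (.node 993 .nil .nil) .nil)) (.node 1024 (.node 830 (.node 582 .nil .nil) .nil) (.node 933 (.node 1014 .nil .nil) .nil))))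

/-- A part of an array. -/
noncomputable def part1469 : Arr ℕ :=
  (.node 900 (.node 76 (.node 1024 (.node 1024 (.node 553 .nil .nil) (.node 1024 .nil .nil)) (.node 1024 (.node 783 .nil .nil) .nil)) (.node 119 (.node 1024 (.node 511 .nil .nil) (.node 1024 .nil .nil)) (.node 802 (.node 1024 .nil .nil) .nil))) (.node 1024 (.node 1024 (.node 1024 (.node 656 .nil .nil) (.node 57 .nil .nil)) (.node 928 (.node 127 .nil .nil) .nil)) (.node 1024 (.node 307 (.node 700 .nil .nil) .nil) (.node 803 (.node 273 .nil .nil) .nil))))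

/-- A part of an array. -/
noncomputable def part1470 : Arr ℕ :=
  (.node 559 part1468 part1469)

/-- A part of an array. -/
noncomputable def part1471 : Arr ℕ :=
  (.node 842 (.node 850 (.node 459 (.node 118 (.node 678 .nil .nil) (.node 1024 .nil .nil)) (.node 871 (.node 1024 .nil .nil) .nil)) (.node 695 (.node 786 (.node 216 .nil .nil) (.node 1024 .nil .nil)) (.node 811 (.node 1024 .nil .nil) .nil))) (.node 705 (.node 1024 (.node 652 (.node 1024 .nil .nil) (.node 1024 .nil .nil)) (.node 356 (.node 510 .nil .nil) .nil)) (.node 205 (.node 316 (.node 427 .nil .nil) (.node 114 .nil .nil)) (.node 1024 (.node 1024 .nil .nil) .nil))))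

/-- A part of an array. -/
noncomputable def part1472 : Arr ℕ :=
  (.node 1024 (.node 386 (.node 1024 (.node 150 (.node 1024 .nil .nil) (.node 1024 .nil .nil)) (.node 599 (.node 638 .nil .nil) .nil)) (.node 1024 (.node 1024 (.node 819 .nil .nil) (.node 214 .nil .nil)) (.node 1024 (.node 1024 .nil .nil) .nil))) (.node 1024 (.node 763 (.node 779 (.node 421 .nil .nil) (.node 1024 .nil .nil)) (.node 215 (.node 1024 .nil .nil) .nil)) (.node 329 (.node 967 (.node 1024 .nil .nil) .nil) (.node 381 (.node 1024 .nil .nil) .nil))))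

/-- A part of an array. -/
noncomputable def part1473 : Arr ℕ :=
  (.node 699 part1471 part1472)

/-- A part of an array. -/
noncomputable def part1474 : Arr ℕ :=
  (.node 858 (.node 351 (.node 732 (.node 440 (.node 262 .nil .nil) (.node 639 .nil .nil)) (.node 1024 (.node 1024 .nil .nil) .nil)) (.node 965 (.node 689 (.node 1024 .nil .nil) (.node 1024 .nil .nil)) (.node 604 (.node 249 .nil .nil) .nil))) (.node 488 (.node 380 (.node 185 (.node 1024 .nil .nil) (.node 598 .nil .nil)) (.node 1024 (.node 936 .nil .nil) .nil)) (.node 1024 (.node 350 (.node 989 .nil .nil) (.node 1024 .nil .nil)) (.node 97 (.node 1024 .nil .nil) .nil))))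

/-- A part of an array. -/
noncomputable def part1475 : Arr ℕ :=
  (.node 1024 (.node 120 (.node 537 (.node 1024 (.node 676 .nil .nil) (.node 1024 .nil .nil)) (.node 740 (.node 1024 .nil .nil) .nil)) (.node 527 (.node 67 (.node 1024 .nil .nil) (.node 211 .nil .nil)) (.node 1024 (.node 429 .nil .nil) .nil))) (.node 1024 (.node 995 (.node 1024 (.node 96 .nil .nil) (.node 526 .nil .nil)) (.node 1024 (.node 1024 .nil .nil) .nil)) (.node 1024 (.node 326 (.node 419 .nil .nil) .nil) (.node 1024 (.node 1024 .nil .nil) .nil))))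

/-- A part of an array. -/
noncomputable def part1476 : Arr ℕ :=
  (.node 532 part1474 part1475)

/-- A part of an array. -/
noncomputable def part1477 : Arr ℕ :=
  (.node 1024 (.node 1024 (.node 1024 (.node 942 (.node 1024 .nil .nil) (.node 1024 .nil .nil)) (.node 563 (.node 909 .nil .nil) .nil)) (.node 1024 (.node 737 (.node 1024 .nil .nil) (.node 1024 .nil .nil)) (.node 869 (.node 172 .nil .nil) .nil))) (.node 486 (.node 354 (.node 1024 (.node 633 .nil .nil) (.node 1024 .nil .nil)) (.node 1024 (.node 910 .nil .nil) .nil)) (.node 1024 (.node 81 (.node 95 .nil .nil) (.node 1024 .nil .nil)) (.node 1024 (.node 826 .nil .nil) .nil))))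

/-- A part of an array. -/
noncomputable def part1478 : Arr ℕ :=
  (.node 504 (.node 221 (.node 457 (.node 686 (.node 1024 .nil .nil) (.node 43 .nil .nil)) (.node 447 (.node 1024 .nil .nil) .nil)) (.node 389 (.node 470 (.node 1024 .nil .nil) (.node 815 .nil .nil)) (.node 773 (.node 1024 .nil .nil) .nil))) (.node 260 (.node 452 (.node 1024 (.node 1024 .nil .nil) (.node 1024 .nil .nil)) (.node 384 (.node 1009 .nil .nil) .nil)) (.node 1024 (.node 1020 (.node 918 .nil .nil) .nil) (.node 1024 (.node 1024 .nil .nil) .nil))))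

/-- A part of an array. -/
noncomputable def part1479 : Arr ℕ :=
  (.node 1024 part1477 part1478)

/-- A part of an array. -/
noncomputable def part1480 : Arr ℕ :=
  (.node 1024 (.node 634 (.node 774 (.node 968 (.node 947 .nil .nil) (.node 456 .nil .nil)) (.node 1024 (.node 1024 .nil .nil) .nil)) (.node 438 (.node 399 (.node 857 .nil .nil) (.node 360 .nil .nil)) (.node 1024 (.node 1024 .nil .nil) .nil))) (.node 1024 (.node 1024 (.node 1015 (.node 734 .nil .nil) (.node 1024 .nil .nil)) (.node 1024 (.node 891 .nil .nil) .nil)) (.node 952 (.node 1024 (.node 1024 .nil .nil) (.node 969 .nil .nil)) (.node 42 (.node 1024 .nil .nil) .nil))))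

/-- A part of an array. -/
noncomputable def part1481 : Arr ℕ :=
  (.node 230 (.node 104 (.node 228 (.node 378 (.node 1024 .nil .nil) (.node 18 .nil .nil)) (.node 741 (.node 1024 .nil .nil) .nil)) (.node 723 (.node 497 (.node 1000 .nil .nil) (.node 1024 .nil .nil)) (.node 1024 (.node 843 .nil .nil) .nil))) (.node 682 (.node 884 (.node 151 (.node 1024 .nil .nil) (.node 1024 .nil .nil)) (.node 1010 (.node 602 .nil .nil) .nil)) (.node 342 (.node 984 (.node 949 .nil .nil) .nil) (.node 1024 (.node 1024 .nil .nil) .nil))))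

/-- A part of an array. -/
noncomputable def part1482 : Arr ℕ :=
  (.node 1024 part1480 part1481)

/-- A part of an array. -/
noncomputable def part1483 : Arr ℕ :=
  (.node 449 (.node 267 (.node 611 (.node 881 (.node 1024 .nil .nil) (.node 755 .nil .nil)) (.node 777 (.node 1024 .nil .nil) .nil)) (.node 956 (.node 284 (.node 1024 .nil .nil) (.node 882 .nil .nil)) (.node 930 (.node 1024 .nil .nil) .nil))) (.node 932 (.node 167 (.node 790 (.node 1024 .nil .nil) (.node 489 .nil .nil)) (.node 464 (.node 1024 .nil .nil) .nil)) (.node 487 (.node 902 (.node 818 .nil .nil) (.node 1024 .nil .nil)) (.node 1024 (.node 915 .nil .nil) .nil))))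

/-- A part of an array. -/
noncomputable def part1484 : Arr ℕ :=
  (.node 1024 (.node 944 (.node 1024 (.node 1024 (.node 1024 .nil .nil) (.node 641 .nil .nil)) (.node 156 (.node 1024 .nil .nil) .nil)) (.node 507 (.node 322 (.node 213 .nil .nil) (.node 1024 .nil .nil)) (.node 1024 (.node 509 .nil .nil) .nil))) (.node 1024 (.node 1024 (.node 542 (.node 1024 .nil .nil) (.node 170 .nil .nil)) (.node 749 (.node 1024 .nil .nil) .nil)) (.node 757 (.node 327 (.node 1024 .nil .nil) .nil) (.node 1024 (.node 357 .nil .nil) .nil))))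

/-- A part of an array. -/
noncomputable def part1485 : Arr ℕ :=
  (.node 1024 part1483 part1484)

/-- A part of an array. -/
noncomputable def part1486 : Arr ℕ :=
  (.node 287 (.node 1024 (.node 247 (.node 1024 (.node 1024 .nil .nil) (.node 697 .nil .nil)) (.node 1024 (.node 603 .nil .nil) .nil)) (.node 935 (.node 1024 (.node 1024 .nil .nil) (.node 524 .nil .nil)) (.node 1024 (.node 919 .nil .nil) .nil))) (.node 675 (.node 776 (.node 406 (.node 328 .nil .nil) (.node 1024 .nil .nil)) (.node 946 (.node 1024 .nil .nil) .nil)) (.node 294 (.node 570 (.node 1024 .nil .nil) (.node 645 .nil .nil)) (.node 1024 (.node 270 .nil .nil) .nil))))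

/-- A part of an array. -/
noncomputable def part1487 : Arr ℕ :=
  (.node 1024 (.node 279 (.node 54 (.node 418 (.node 885 .nil .nil) (.node 1024 .nil .nil)) (.node 855 (.node 1024 .nil .nil) .nil)) (.node 1024 (.node 1024 (.node 1024 .nil .nil) (.node 809 .nil .nil)) (.node 1024 (.node 718 .nil .nil) .nil))) (.node 453 (.node 798 (.node 396 (.node 576 .nil .nil) (.node 1024 .nil .nil)) (.node 958 (.node 1024 .nil .nil) .nil)) (.node 24 (.node 867 (.node 1024 .nil .nil) .nil) (.node 872 (.node 1024 .nil .nil) .nil))))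

/-- A part of an array. -/
noncomputable def part1488 : Arr ℕ :=
  (.node 1024 part1486 part1487)

/-- A part of an array. -/
noncomputable def part1489 : Arr ℕ :=
  (.node 1024 (.node 166 (.node 33 (.node 854 (.node 1024 .nil .nil) (.node 1024 .nil .nil)) (.node 1024 (.node 1024 .nil .nil) .nil)) (.node 353 (.node 710 (.node 77 .nil .nil) (.node 973 .nil .nil)) (.node 171 (.node 979 .nil .nil) .nil))) (.node 1024 (.node 1024 (.node 108 (.node 874 .nil .nil) (.node 359 .nil .nil)) (.node 644 (.node 629 .nil .nil) .nil)) (.node 628 (.node 912 (.node 1024 .nil .nil) (.node 1024 .nil .nil)) (.node 1024 (.node 1024 .nil .nil) .nil))))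

/-- A part of an array. -/
noncomputable def part1490 : Arr ℕ :=
  (.node 856 (.node 1024 (.node 1024 (.node 788 (.node 681 .nil .nil) (.node 924 .nil .nil)) (.node 986 (.node 663 .nil .nil) .nil)) (.node 748 (.node 1024 (.node 1024 .nil .nil) (.node 1024 .nil .nil)) (.node 1024 (.node 1024 .nil .nil) .nil))) (.node 1024 (.node 841 (.node 1024 (.node 1024 .nil .nil) (.node 1024 .nil .nil)) (.node 1024 (.node 1024 .nil .nil) .nil)) (.node 1024 (.node 600 (.node 895 .nil .nil) .nil) (.node 974 (.node 999 .nil .nil) .nil))))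

/-- A part of an array. -/
noncomputable def part1491 : Arr ℕ :=
  (.node 292 part1489 part1490)

/-- A part of an array. -/
noncomputable def part1492 : Arr ℕ :=
  (.node 69 (.node 1024 (.node 566 (.node 1024 (.node 428 .nil .nil) (.node 812 .nil .nil)) (.node 829 (.node 1008 .nil .nil) .nil)) (.node 1024 (.node 498 (.node 481 .nil .nil) (.node 431 .nil .nil)) (.node 184 (.node 382 .nil .nil) .nil))) (.node 152 (.node 321 (.node 558 (.node 982 .nil .nil) (.node 767 .nil .nil)) (.node 772 (.node 735 .nil .nil) .nil)) (.node 801 (.node 208 (.node 44 .nil .nil) .nil) (.node 983 (.node 345 .nil .nil) .nil))))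

/-- A part of an array. -/
noncomputable def part1493 : Arr ℕ :=
  (.node 1024 (.node 1024 (.node 75 (.node 806 (.node 1024 .nil .nil) (.node 1024 .nil .nil)) (.node 1024 (.node 1024 .nil .nil) .nil)) (.node 1024 (.node 336 (.node 1024 .nil .nil) (.node 1024 .nil .nil)) (.node 1024 (.node 1024 .nil .nil) .nil))) (.node 1024 (.node 791 (.node 145 (.node 478 .nil .nil) (.node 556 .nil .nil)) (.node 242 (.node 290 .nil .nil) .nil)) (.node 299 (.node 99 (.node 631 .nil .nil) .nil) (.node 442 (.node 219 .nil .nil) .nil))))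

/-- A part of an array. -/
noncomputable def part1494 : Arr ℕ :=
  (.node 1024 part1492 part1493)

/-- A part of an array. -/
noncomputable def part1495 : Arr ℕ :=
  (.node 10 (.node 10 (.node 10 (.node 10 (.node 10 .nil .nil) (.node 10 .nil .nil)) (.node 10 (.node 10 .nil .nil) .nil)) (.node 10 (.node 10 (.node 10 .nil .nil) (.node 10 .nil .nil)) (.node 10 (.node 10 .nil .nil) .nil))) (.node 10 (.node 10 (.node 10 (.node 10 .nil .nil) (.node 10 .nil .nil)) (.node 10 (.node 10 .nil .nil) .nil)) (.node 10 (.node 10 (.node 10 .nil .nil) (.node 10 .nil .nil)) (.node 10 (.node 10 .nil .nil) .nil))))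

/-- A part of an array. -/
noncomputable def part1496 : Arr ℕ :=
  (.node 10 (.node 10 (.node 10 (.node 10 (.node 10 .nil .nil) (.node 10 .nil .nil)) (.node 10 (.node 10 .nil .nil) .nil)) (.node 10 (.node 10 (.node 10 .nil .nil) (.node 10 .nil .nil)) (.node 10 (.node 10 .nil .nil) .nil))) (.node 10 (.node 10 (.node 10 (.node 10 .nil .nil) (.node 10 .nil .nil)) (.node 10 (.node 10 .nil .nil) .nil)) (.node 10 (.node 10 (.node 10 .nil .nil) .nil) (.node 10 (.node 10 .nil .nil) .nil))))

/-- A part of an array. -/
noncomputable def part1497 : Arr ℕ :=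
  (.node 10 part1495 part1496)

/-- A part of an array. -/
noncomputable def part1498 : Arr ℕ :=
  (.node 10 (.node 10 (.node 10 (.node 10 (.node 10 .nil .nil) (.node 10 .nil .nil)) (.node 10 (.node 10 .nil .nil) .nil)) (.node 10 (.node 10 (.node 10 .nil .nil) (.node 10 .nil .nil)) (.node 10 (.node 10 .nil .nil) .nil))) (.node 10 (.node 10 (.node 10 (.node 10 .nil .nil) (.node 10 .nil .nil)) (.node 10 (.node 10 .nil .nil) .nil)) (.node 10 (.node 10 (.node 10 .nil .nil) (.node 10 .nil .nil)) (.node 10 (.node 10 .nil .nil) .nil))))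

/-- A part of an array. -/
noncomputable def part1499 : Arr ℕ :=
  (.node 10 (.node 10 (.node 10 (.node 10 (.node 10 .nil .nil) (.node 10 .nil .nil)) (.node 10 (.node 10 .nil .nil) .nil)) (.node 10 (.node 10 (.node 10 .nil .nil) (.node 10 .nil .nil)) (.node 10 (.node 10 .nil .nil) .nil))) (.node 10 (.node 10 (.node 10 (.node 10 .nil .nil) (.node 10 .nil .nil)) (.node 10 (.node 10 .nil .nil) .nil)) (.node 10 (.node 10 (.node 10 .nil .nil) .nil) (.node 10 (.node 10 .nil .nil) .nil))))

/-- A part of an array. -/
noncomputable def part1500 : Arr ℕ :=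
  (.node 10 part1498 part1499)

/-- A part of an array. -/
noncomputable def part1501 : Arr ℕ :=
  (.node 10 (.node 10 (.node 10 (.node 10 (.node 10 .nil .nil) (.node 10 .nil .nil)) (.node 10 (.node 10 .nil .nil) .nil)) (.node 10 (.node 10 (.node 10 .nil .nil) (.node 10 .nil .nil)) (.node 10 (.node 10 .nil .nil) .nil))) (.node 10 (.node 10 (.node 10 (.node 10 .nil .nil) (.node 10 .nil .nil)) (.node 10 (.node 10 .nil .nil) .nil)) (.node 10 (.node 10 (.node 10 .nil .nil) (.node 10 .nil .nil)) (.node 10 (.node 10 .nil .nil) .nil))))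

/-- A part of an array. -/
noncomputable def part1502 : Arr ℕ :=
  (.node 10 (.node 10 (.node 10 (.node 10 (.node 10 .nil .nil) (.node 10 .nil .nil)) (.node 10 (.node 10 .nil .nil) .nil)) (.node 10 (.node 10 (.node 10 .nil .nil) (.node 10 .nil .nil)) (.node 10 (.node 10 .nil .nil) .nil))) (.node 10 (.node 10 (.node 10 (.node 10 .nil .nil) (.node 10 .nil .nil)) (.node 10 (.node 10 .nil .nil) .nil)) (.node 10 (.node 10 (.node 10 .nil .nil) .nil) (.node 10 (.node 10 .nil .nil) .nil))))

/-- A part of an array. -/
noncomputable def part1503 : Arr ℕ :=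
  (.node 10 part1501 part1502)

/-- A part of an array. -/
noncomputable def part1504 : Arr ℕ :=
  (.node 10 (.node 10 (.node 10 (.node 10 (.node 10 .nil .nil) (.node 10 .nil .nil)) (.node 10 (.node 10 .nil .nil) .nil)) (.node 10 (.node 10 (.node 10 .nil .nil) (.node 10 .nil .nil)) (.node 10 (.node 10 .nil .nil) .nil))) (.node 10 (.node 10 (.node 10 (.node 10 .nil .nil) (.node 10 .nil .nil)) (.node 10 (.node 10 .nil .nil) .nil)) (.node 10 (.node 10 (.node 10 .nil .nil) (.node 10 .nil .nil)) (.node 10 (.node 10 .nil .nil) .nil))))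

/-- A part of an array. -/
noncomputable def part1505 : Arr ℕ :=
  (.node 10 (.node 10 (.node 10 (.node 10 (.node 10 .nil .nil) (.node 10 .nil .nil)) (.node 10 (.node 10 .nil .nil) .nil)) (.node 10 (.node 10 (.node 10 .nil .nil) (.node 10 .nil .nil)) (.node 10 (.node 10 .nil .nil) .nil))) (.node 10 (.node 10 (.node 10 (.node 10 .nil .nil) (.node 10 .nil .nil)) (.node 10 (.node 10 .nil .nil) .nil)) (.node 10 (.node 10 (.node 10 .nil .nil) .nil) (.node 10 (.node 10 .nil .nil) .nil))))

/-- A part of an array. -/
noncomputable def part1506 : Arr ℕ :=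
  (.node 10 part1504 part1505)

/-- A part of an array. -/
noncomputable def part1507 : Arr ℕ :=
  (.node 10 (.node 10 (.node 10 (.node 10 (.node 10 .nil .nil) (.node 10 .nil .nil)) (.node 10 (.node 10 .nil .nil) .nil)) (.node 10 (.node 10 (.node 10 .nil .nil) (.node 10 .nil .nil)) (.node 10 (.node 10 .nil .nil) .nil))) (.node 10 (.node 10 (.node 10 (.node 10 .nil .nil) (.node 10 .nil .nil)) (.node 10 (.node 10 .nil .nil) .nil)) (.node 10 (.node 10 (.node 10 .nil .nil) (.node 10 .nil .nil)) (.node 10 (.node 10 .nil .nil) .nil))))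

/-- A part of an array. -/
noncomputable def part1508 : Arr ℕ :=
  (.node 10 (.node 10 (.node 10 (.node 10 (.node 10 .nil .nil) (.node 10 .nil .nil)) (.node 10 (.node 10 .nil .nil) .nil)) (.node 10 (.node 10 (.node 10 .nil .nil) (.node 10 .nil .nil)) (.node 10 (.node 10 .nil .nil) .nil))) (.node 10 (.node 10 (.node 10 (.node 10 .nil .nil) (.node 10 .nil .nil)) (.node 10 (.node 10 .nil .nil) .nil)) (.node 10 (.node 10 (.node 10 .nil .nil) .nil) (.node 10 (.node 10 .nil .nil) .nil))))

/-- A part of an array. -/
noncomputable def part1509 : Arr ℕ :=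
  (.node 1 part1507 part1508)

/-- A part of an array. -/
noncomputable def part1510 : Arr ℕ :=
  (.node 10 (.node 10 (.node 10 (.node 10 (.node 10 .nil .nil) (.node 10 .nil .nil)) (.node 10 (.node 10 .nil .nil) .nil)) (.node 10 (.node 10 (.node 10 .nil .nil) (.node 10 .nil .nil)) (.node 10 (.node 10 .nil .nil) .nil))) (.node 10 (.node 10 (.node 10 (.node 10 .nil .nil) (.node 10 .nil .nil)) (.node 10 (.node 10 .nil .nil) .nil)) (.node 10 (.node 10 (.node 10 .nil .nil) (.node 10 .nil .nil)) (.node 10 (.node 10 .nil .nil) .nil))))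

/-- A part of an array. -/
noncomputable def part1511 : Arr ℕ :=
  (.node 10 (.node 10 (.node 10 (.node 10 (.node 10 .nil .nil) (.node 10 .nil .nil)) (.node 10 (.node 10 .nil .nil) .nil)) (.node 10 (.node 10 (.node 10 .nil .nil) (.node 10 .nil .nil)) (.node 10 (.node 10 .nil .nil) .nil))) (.node 10 (.node 10 (.node 10 (.node 10 .nil .nil) (.node 10 .nil .nil)) (.node 10 (.node 10 .nil .nil) .nil)) (.node 10 (.node 10 (.node 10 .nil .nil) .nil) (.node 10 (.node 10 .nil .nil) .nil))))

/-- A part of an array. -/
noncomputable def part1512 : Arr ℕ :=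
  (.node 4 part1510 part1511)

/-- A part of an array. -/
noncomputable def part1513 : Arr ℕ :=
  (.node 10 (.node 10 (.node 10 (.node 10 (.node 10 .nil .nil) (.node 10 .nil .nil)) (.node 10 (.node 10 .nil .nil) .nil)) (.node 10 (.node 10 (.node 10 .nil .nil) (.node 10 .nil .nil)) (.node 10 (.node 10 .nil .nil) .nil))) (.node 10 (.node 10 (.node 10 (.node 10 .nil .nil) (.node 10 .nil .nil)) (.node 10 (.node 10 .nil .nil) .nil)) (.node 10 (.node 10 (.node 10 .nil .nil) (.node 10 .nil .nil)) (.node 10 (.node 10 .nil .nil) .nil))))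

/-- A part of an array. -/
noncomputable def part1514 : Arr ℕ :=
  (.node 10 (.node 10 (.node 10 (.node 10 (.node 10 .nil .nil) (.node 10 .nil .nil)) (.node 10 (.node 10 .nil .nil) .nil)) (.node 10 (.node 10 (.node 10 .nil .nil) (.node 10 .nil .nil)) (.node 10 (.node 10 .nil .nil) .nil))) (.node 10 (.node 10 (.node 10 (.node 10 .nil .nil) (.node 10 .nil .nil)) (.node 10 (.node 10 .nil .nil) .nil)) (.node 10 (.node 10 (.node 10 .nil .nil) .nil) (.node 10 (.node 10 .nil .nil) .nil))))

/-- A part of an array. -/
noncomputable def part1515 : Arr ℕ :=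
  (.node 10 part1513 part1514)

/-- A part of an array. -/
noncomputable def part1516 : Arr ℕ :=
  (.node 10 (.node 10 (.node 10 (.node 10 (.node 10 .nil .nil) (.node 10 .nil .nil)) (.node 10 (.node 10 .nil .nil) .nil)) (.node 10 (.node 10 (.node 10 .nil .nil) (.node 10 .nil .nil)) (.node 10 (.node 10 .nil .nil) .nil))) (.node 10 (.node 10 (.node 10 (.node 10 .nil .nil) (.node 10 .nil .nil)) (.node 10 (.node 10 .nil .nil) .nil)) (.node 10 (.node 10 (.node 10 .nil .nil) .nil) (.node 10 (.node 10 .nil .nil) .nil))))

/-- A part of an array. -/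
noncomputable def part1517 : Arr ℕ :=
  (.node 10 (.node 10 (.node 10 (.node 10 (.node 10 .nil .nil) (.node 10 .nil .nil)) (.node 10 (.node 10 .nil .nil) .nil)) (.node 10 (.node 10 (.node 10 .nil .nil) (.node 10 .nil .nil)) (.node 10 (.node 10 .nil .nil) .nil))) (.node 10 (.node 10 (.node 10 (.node 10 .nil .nil) (.node 10 .nil .nil)) (.node 10 (.node 10 .nil .nil) .nil)) (.node 10 (.node 10 (.node 10 .nil .nil) .nil) (.node 10 (.node 10 .nil .nil) .nil))))

/-- A part of an array. -/
noncomputable def part1518 : Arr ℕ :=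
  (.node 10 part1516 part1517)

/-- A part of an array. -/
noncomputable def part1519 : Arr ℕ :=
  (.node 10 (.node 10 (.node 10 (.node 10 (.node 10 .nil .nil) (.node 10 .nil .nil)) (.node 10 (.node 10 .nil .nil) .nil)) (.node 10 (.node 10 (.node 10 .nil .nil) (.node 10 .nil .nil)) (.node 10 (.node 10 .nil .nil) .nil))) (.node 10 (.node 10 (.node 10 (.node 10 .nil .nil) (.node 10 .nil .nil)) (.node 10 (.node 10 .nil .nil) .nil)) (.node 10 (.node 10 (.node 10 .nil .nil) (.node 10 .nil .nil)) (.node 10 (.node 10 .nil .nil) .nil))))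

/-- A part of an array. -/
noncomputable def part1520 : Arr ℕ :=
  (.node 10 (.node 10 (.node 10 (.node 10 (.node 10 .nil .nil) (.node 10 .nil .nil)) (.node 10 (.node 10 .nil .nil) .nil)) (.node 10 (.node 10 (.node 10 .nil .nil) (.node 10 .nil .nil)) (.node 10 (.node 10 .nil .nil) .nil))) (.node 10 (.node 10 (.node 10 (.node 10 .nil .nil) (.node 10 .nil .nil)) (.node 10 (.node 10 .nil .nil) .nil)) (.node 10 (.node 10 (.node 10 .nil .nil) .nil) (.node 10 (.node 10 .nil .nil) .nil))))

/-- A part of an array. -/
noncomputable def part1521 : Arr ℕ :=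
  (.node 10 part1519 part1520)

/-- A part of an array. -/
noncomputable def part1522 : Arr ℕ :=
  (.node 10 (.node 10 (.node 10 (.node 10 (.node 10 .nil .nil) (.node 10 .nil .nil)) (.node 10 (.node 10 .nil .nil) .nil)) (.node 10 (.node 10 (.node 10 .nil .nil) (.node 10 .nil .nil)) (.node 10 (.node 10 .nil .nil) .nil))) (.node 10 (.node 10 (.node 10 (.node 10 .nil .nil) (.node 10 .nil .nil)) (.node 10 (.node 10 .nil .nil) .nil)) (.node 10 (.node 10 (.node 10 .nil .nil) (.node 10 .nil .nil)) (.node 10 (.node 10 .nil .nil) .nil))))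

/-- A part of an array. -/
noncomputable def part1523 : Arr ℕ :=
  (.node 10 (.node 10 (.node 10 (.node 10 (.node 10 .nil .nil) (.node 10 .nil .nil)) (.node 10 (.node 10 .nil .nil) .nil)) (.node 10 (.node 10 (.node 10 .nil .nil) (.node 10 .nil .nil)) (.node 10 (.node 10 .nil .nil) .nil))) (.node 10 (.node 10 (.node 10 (.node 10 .nil .nil) (.node 10 .nil .nil)) (.node 10 (.node 10 .nil .nil) .nil)) (.node 10 (.node 10 (.node 10 .nil .nil) .nil) (.node 10 (.node 10 .nil .nil) .nil))))

/-- A part of an array. -/
noncomputable def part1524 : Arr ℕ :=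
  (.node 10 part1522 part1523)

/-- A part of an array. -/
noncomputable def part1525 : Arr ℕ :=
  (.node 2 (.node 10 (.node 10 (.node 10 (.node 10 .nil .nil) (.node 10 .nil .nil)) (.node 10 (.node 10 .nil .nil) .nil)) (.node 10 (.node 10 (.node 10 .nil .nil) (.node 10 .nil .nil)) (.node 10 (.node 10 .nil .nil) .nil))) (.node 10 (.node 10 (.node 10 (.node 10 .nil .nil) (.node 10 .nil .nil)) (.node 10 (.node 10 .nil .nil) .nil)) (.node 10 (.node 10 (.node 10 .nil .nil) (.node 10 .nil .nil)) (.node 10 (.node 10 .nil .nil) .nil))))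

/-- A part of an array. -/
noncomputable def part1526 : Arr ℕ :=
  (.node 10 (.node 10 (.node 10 (.node 10 (.node 10 .nil .nil) (.node 10 .nil .nil)) (.node 10 (.node 10 .nil .nil) .nil)) (.node 10 (.node 10 (.node 10 .nil .nil) (.node 10 .nil .nil)) (.node 10 (.node 10 .nil .nil) .nil))) (.node 10 (.node 10 (.node 10 (.node 10 .nil .nil) (.node 10 .nil .nil)) (.node 10 (.node 10 .nil .nil) .nil)) (.node 10 (.node 10 (.node 10 .nil .nil) .nil) (.node 10 (.node 10 .nil .nil) .nil))))

/-- A part of an array. -/
noncomputable def part1527 : Arr ℕ :=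
  (.node 10 part1525 part1526)

/-- A part of an array. -/
noncomputable def part1528 : Arr ℕ :=
  (.node 8 (.node 10 (.node 10 (.node 10 (.node 10 .nil .nil) (.node 10 .nil .nil)) (.node 10 (.node 10 .nil .nil) .nil)) (.node 10 (.node 10 (.node 10 .nil .nil) (.node 10 .nil .nil)) (.node 10 (.node 10 .nil .nil) .nil))) (.node 10 (.node 10 (.node 10 (.node 10 .nil .nil) (.node 10 .nil .nil)) (.node 10 (.node 10 .nil .nil) .nil)) (.node 10 (.node 10 (.node 10 .nil .nil) (.node 10 .nil .nil)) (.node 10 (.node 10 .nil .nil) .nil))))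

/-- A part of an array. -/
noncomputable def part1529 : Arr ℕ :=
  (.node 10 (.node 10 (.node 10 (.node 10 (.node 10 .nil .nil) (.node 10 .nil .nil)) (.node 10 (.node 10 .nil .nil) .nil)) (.node 10 (.node 10 (.node 10 .nil .nil) (.node 10 .nil .nil)) (.node 10 (.node 10 .nil .nil) .nil))) (.node 10 (.node 10 (.node 10 (.node 10 .nil .nil) (.node 10 .nil .nil)) (.node 10 (.node 10 .nil .nil) .nil)) (.node 10 (.node 10 (.node 10 .nil .nil) .nil) (.node 10 (.node 10 .nil .nil) .nil))))

/-- A part of an array. -/
noncomputable def part1530 : Arr ℕ :=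
  (.node 10 part1528 part1529)

/-- A part of an array. -/
noncomputable def part1531 : Arr ℕ :=
  (.node 10 (.node 10 (.node 10 (.node 10 (.node 10 .nil .nil) (.node 10 .nil .nil)) (.node 10 (.node 10 .nil .nil) .nil)) (.node 10 (.node 10 (.node 10 .nil .nil) (.node 10 .nil .nil)) (.node 10 (.node 10 .nil .nil) .nil))) (.node 10 (.node 10 (.node 10 (.node 10 .nil .nil) (.node 10 .nil .nil)) (.node 10 (.node 10 .nil .nil) .nil)) (.node 10 (.node 10 (.node 10 .nil .nil) (.node 10 .nil .nil)) (.node 10 (.node 10 .nil .nil) .nil))))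

/-- A part of an array. -/
noncomputable def part1532 : Arr ℕ :=
  (.node 10 (.node 10 (.node 10 (.node 10 (.node 10 .nil .nil) (.node 10 .nil .nil)) (.node 10 (.node 10 .nil .nil) .nil)) (.node 10 (.node 10 (.node 10 .nil .nil) (.node 10 .nil .nil)) (.node 10 (.node 10 .nil .nil) .nil))) (.node 10 (.node 10 (.node 10 (.node 10 .nil .nil) (.node 10 .nil .nil)) (.node 10 (.node 10 .nil .nil) .nil)) (.node 10 (.node 10 (.node 10 .nil .nil) .nil) (.node 10 (.node 10 .nil .nil) .nil))))

/-- A part of an array. -/
noncomputable def part1533 : Arr ℕ :=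
  (.node 10 part1531 part1532)

/-- A part of an array. -/
noncomputable def part1534 : Arr ℕ :=
  (.node 10 (.node 10 (.node 10 (.node 10 (.node 10 .nil .nil) (.node 10 .nil .nil)) (.node 10 (.node 10 .nil .nil) .nil)) (.node 10 (.node 10 (.node 10 .nil .nil) (.node 10 .nil .nil)) (.node 10 (.node 10 .nil .nil) .nil))) (.node 10 (.node 10 (.node 10 (.node 10 .nil .nil) (.node 10 .nil .nil)) (.node 10 (.node 10 .nil .nil) .nil)) (.node 10 (.node 10 (.node 10 .nil .nil) (.node 10 .nil .nil)) (.node 10 (.node 10 .nil .nil) .nil))))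

/-- A part of an array. -/
noncomputable def part1535 : Arr ℕ :=
  (.node 10 (.node 10 (.node 10 (.node 10 (.node 10 .nil .nil) (.node 10 .nil .nil)) (.node 10 (.node 10 .nil .nil) .nil)) (.node 10 (.node 10 (.node 10 .nil .nil) (.node 10 .nil .nil)) (.node 10 (.node 10 .nil .nil) .nil))) (.node 10 (.node 10 (.node 10 (.node 10 .nil .nil) (.node 10 .nil .nil)) (.node 10 (.node 10 .nil .nil) .nil)) (.node 10 (.node 10 (.node 10 .nil .nil) .nil) (.node 10 (.node 10 .nil .nil) .nil))))

/-- A part of an array. -/
noncomputable def part1536 : Arr ℕ :=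
  (.node 10 part1534 part1535)

/-- A part of an array. -/
noncomputable def part1537 : Arr ℕ :=
  (.node 10 (.node 10 (.node 10 (.node 10 (.node 10 .nil .nil) (.node 10 .nil .nil)) (.node 10 (.node 10 .nil .nil) .nil)) (.node 10 (.node 10 (.node 10 .nil .nil) (.node 10 .nil .nil)) (.node 10 (.node 10 .nil .nil) .nil))) (.node 10 (.node 10 (.node 10 (.node 10 .nil .nil) (.node 10 .nil .nil)) (.node 10 (.node 10 .nil .nil) .nil)) (.node 10 (.node 10 (.node 10 .nil .nil) (.node 10 .nil .nil)) (.node 10 (.node 10 .nil .nil) .nil))))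

/-- A part of an array. -/
noncomputable def part1538 : Arr ℕ :=
  (.node 10 (.node 10 (.node 10 (.node 10 (.node 10 .nil .nil) (.node 10 .nil .nil)) (.node 10 (.node 10 .nil .nil) .nil)) (.node 10 (.node 10 (.node 10 .nil .nil) (.node 10 .nil .nil)) (.node 10 (.node 10 .nil .nil) .nil))) (.node 10 (.node 10 (.node 10 (.node 10 .nil .nil) (.node 10 .nil .nil)) (.node 10 (.node 10 .nil .nil) .nil)) (.node 10 (.node 10 (.node 10 .nil .nil) .nil) (.node 10 (.node 10 .nil .nil) .nil))))

/-- A part of an array. -/
noncomputable def part1539 : Arr ℕ :=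
  (.node 10 part1537 part1538)

/-- A part of an array. -/
noncomputable def part1540 : Arr ℕ :=
  (.node 10 (.node 10 (.node 10 (.node 10 (.node 10 .nil .nil) (.node 10 .nil .nil)) (.node 10 (.node 10 .nil .nil) .nil)) (.node 10 (.node 10 (.node 10 .nil .nil) (.node 10 .nil .nil)) (.node 10 (.node 10 .nil .nil) .nil))) (.node 10 (.node 10 (.node 10 (.node 10 .nil .nil) (.node 10 .nil .nil)) (.node 10 (.node 10 .nil .nil) .nil)) (.node 10 (.node 10 (.node 10 .nil .nil) .nil) (.node 10 (.node 10 .nil .nil) .nil))))

/-- A part of an array. -/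
noncomputable def part1541 : Arr ℕ :=
  (.node 10 (.node 10 (.node 10 (.node 10 (.node 10 .nil .nil) (.node 10 .nil .nil)) (.node 10 (.node 10 .nil .nil) .nil)) (.node 10 (.node 10 (.node 10 .nil .nil) (.node 10 .nil .nil)) (.node 10 (.node 10 .nil .nil) .nil))) (.node 10 (.node 10 (.node 10 (.node 10 .nil .nil) (.node 10 .nil .nil)) (.node 10 (.node 10 .nil .nil) .nil)) (.node 10 (.node 10 (.node 10 .nil .nil) .nil) (.node 10 (.node 10 .nil .nil) .nil))))

/-- A part of an array. -/
noncomputable def part1542 : Arr ℕ :=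
  (.node 10 part1540 part1541)

/-- A part of an array. -/
noncomputable def part1543 : Arr ℕ :=
  (.node 10 (.node 10 (.node 10 (.node 10 (.node 10 .nil .nil) (.node 10 .nil .nil)) (.node 10 (.node 10 .nil .nil) .nil)) (.node 10 (.node 10 (.node 10 .nil .nil) (.node 10 .nil .nil)) (.node 10 (.node 10 .nil .nil) .nil))) (.node 10 (.node 10 (.node 10 (.node 10 .nil .nil) (.node 10 .nil .nil)) (.node 10 (.node 10 .nil .nil) .nil)) (.node 10 (.node 10 (.node 10 .nil .nil) (.node 10 .nil .nil)) (.node 10 (.node 10 .nil .nil) .nil))))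

/-- A part of an array. -/
noncomputable def part1544 : Arr ℕ :=
  (.node 10 (.node 10 (.node 10 (.node 10 (.node 10 .nil .nil) (.node 10 .nil .nil)) (.node 10 (.node 10 .nil .nil) .nil)) (.node 10 (.node 10 (.node 10 .nil .nil) (.node 10 .nil .nil)) (.node 10 (.node 10 .nil .nil) .nil))) (.node 10 (.node 10 (.node 10 (.node 10 .nil .nil) (.node 10 .nil .nil)) (.node 10 (.node 10 .nil .nil) .nil)) (.node 10 (.node 10 (.node 10 .nil .nil) .nil) (.node 10 (.node 10 .nil .nil) .nil))))

/-- A part of an array. -/
noncomputable def part1545 : Arr ℕ :=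
  (.node 10 part1543 part1544)

/-- A part of an array. -/
noncomputable def part1546 : Arr ℕ :=
  (.node 10 (.node 10 (.node 10 (.node 10 (.node 10 .nil .nil) (.node 10 .nil .nil)) (.node 10 (.node 10 .nil .nil) .nil)) (.node 10 (.node 10 (.node 10 .nil .nil) (.node 10 .nil .nil)) (.node 10 (.node 10 .nil .nil) .nil))) (.node 10 (.node 10 (.node 10 (.node 10 .nil .nil) (.node 10 .nil .nil)) (.node 10 (.node 10 .nil .nil) .nil)) (.node 10 (.node 10 (.node 10 .nil .nil) (.node 10 .nil .nil)) (.node 10 (.node 10 .nil .nil) .nil))))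

/-- A part of an array. -/
noncomputable def part1547 : Arr ℕ :=
  (.node 10 (.node 10 (.node 10 (.node 10 (.node 10 .nil .nil) (.node 10 .nil .nil)) (.node 10 (.node 10 .nil .nil) .nil)) (.node 10 (.node 10 (.node 10 .nil .nil) (.node 10 .nil .nil)) (.node 10 (.node 10 .nil .nil) .nil))) (.node 10 (.node 10 (.node 10 (.node 10 .nil .nil) (.node 10 .nil .nil)) (.node 10 (.node 10 .nil .nil) .nil)) (.node 10 (.node 10 (.node 10 .nil .nil) .nil) (.node 10 (.node 10 .nil .nil) .nil))))

/-- A part of an array. -/
noncomputable def part1548 : Arr ℕ :=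
  (.node 10 part1546 part1547)

/-- A part of an array. -/
noncomputable def part1549 : Arr ℕ :=
  (.node 10 (.node 10 (.node 10 (.node 10 (.node 10 .nil .nil) (.node 10 .nil .nil)) (.node 10 (.node 10 .nil .nil) .nil)) (.node 10 (.node 10 (.node 10 .nil .nil) (.node 10 .nil .nil)) (.node 10 (.node 10 .nil .nil) .nil))) (.node 10 (.node 10 (.node 10 (.node 10 .nil .nil) (.node 10 .nil .nil)) (.node 10 (.node 10 .nil .nil) .nil)) (.node 10 (.node 10 (.node 10 .nil .nil) (.node 10 .nil .nil)) (.node 10 (.node 10 .nil .nil) .nil))))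

/-- A part of an array. -/
noncomputable def part1550 : Arr ℕ :=
  (.node 10 (.node 10 (.node 10 (.node 10 (.node 10 .nil .nil) (.node 10 .nil .nil)) (.node 10 (.node 10 .nil .nil) .nil)) (.node 10 (.node 10 (.node 10 .nil .nil) (.node 10 .nil .nil)) (.node 10 (.node 10 .nil .nil) .nil))) (.node 10 (.node 10 (.node 10 (.node 10 .nil .nil) (.node 10 .nil .nil)) (.node 10 (.node 10 .nil .nil) .nil)) (.node 10 (.node 10 (.node 10 .nil .nil) .nil) (.node 10 (.node 10 .nil .nil) .nil))))

/-- A part of an array. -/
noncomputable def part1551 : Arr ℕ :=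
  (.node 10 part1549 part1550)

/-- A part of an array. -/
noncomputable def part1552 : Arr ℕ :=
  (.node 10 (.node 10 (.node 10 (.node 10 (.node 10 .nil .nil) (.node 10 .nil .nil)) (.node 10 (.node 10 .nil .nil) .nil)) (.node 10 (.node 10 (.node 10 .nil .nil) (.node 10 .nil .nil)) (.node 10 (.node 10 .nil .nil) .nil))) (.node 10 (.node 10 (.node 10 (.node 10 .nil .nil) (.node 10 .nil .nil)) (.node 10 (.node 10 .nil .nil) .nil)) (.node 10 (.node 10 (.node 10 .nil .nil) (.node 10 .nil .nil)) (.node 10 (.node 10 .nil .nil) .nil))))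

/-- A part of an array. -/
noncomputable def part1553 : Arr ℕ :=
  (.node 10 (.node 10 (.node 10 (.node 10 (.node 10 .nil .nil) (.node 10 .nil .nil)) (.node 10 (.node 10 .nil .nil) .nil)) (.node 10 (.node 10 (.node 10 .nil .nil) (.node 10 .nil .nil)) (.node 10 (.node 10 .nil .nil) .nil))) (.node 10 (.node 10 (.node 10 (.node 10 .nil .nil) (.node 10 .nil .nil)) (.node 10 (.node 10 .nil .nil) .nil)) (.node 10 (.node 10 (.node 10 .nil .nil) .nil) (.node 10 (.node 10 .nil .nil) .nil))))

/-- A part of an array. -/
noncomputable def part1554 : Arr ℕ :=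
  (.node 10 part1552 part1553)

/-- A part of an array. -/
noncomputable def part1555 : Arr ℕ :=
  (.node 10 (.node 10 (.node 10 (.node 10 (.node 10 .nil .nil) (.node 10 .nil .nil)) (.node 10 (.node 10 .nil .nil) .nil)) (.node 10 (.node 10 (.node 10 .nil .nil) (.node 10 .nil .nil)) (.node 10 (.node 10 .nil .nil) .nil))) (.node 10 (.node 10 (.node 10 (.node 10 .nil .nil) (.node 10 .nil .nil)) (.node 10 (.node 10 .nil .nil) .nil)) (.node 10 (.node 10 (.node 10 .nil .nil) (.node 10 .nil .nil)) (.node 10 (.node 10 .nil .nil) .nil))))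

/-- A part of an array. -/
noncomputable def part1556 : Arr ℕ :=
  (.node 10 (.node 10 (.node 10 (.node 10 (.node 10 .nil .nil) (.node 10 .nil .nil)) (.node 10 (.node 10 .nil .nil) .nil)) (.node 10 (.node 10 (.node 10 .nil .nil) (.node 10 .nil .nil)) (.node 10 (.node 10 .nil .nil) .nil))) (.node 10 (.node 10 (.node 10 (.node 10 .nil .nil) (.node 10 .nil .nil)) (.node 10 (.node 10 .nil .nil) .nil)) (.node 10 (.node 10 (.node 10 .nil .nil) .nil) (.node 10 (.node 10 .nil .nil) .nil))))

/-- A part of an array. -/
noncomputable def part1557 : Arr ℕ :=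
  (.node 10 part1555 part1556)

/-- A part of an array. -/
noncomputable def part1558 : Arr ℕ :=
  (.node 10 (.node 10 (.node 10 (.node 10 (.node 10 .nil .nil) (.node 10 .nil .nil)) (.node 10 (.node 10 .nil .nil) .nil)) (.node 10 (.node 10 (.node 10 .nil .nil) (.node 10 .nil .nil)) (.node 10 (.node 10 .nil .nil) .nil))) (.node 10 (.node 10 (.node 10 (.node 10 .nil .nil) (.node 10 .nil .nil)) (.node 10 (.node 10 .nil .nil) .nil)) (.node 10 (.node 10 (.node 10 .nil .nil) (.node 10 .nil .nil)) (.node 10 (.node 10 .nil .nil) .nil))))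

/-- A part of an array. -/
noncomputable def part1559 : Arr ℕ :=
  (.node 10 (.node 10 (.node 10 (.node 10 (.node 10 .nil .nil) (.node 10 .nil .nil)) (.node 10 (.node 10 .nil .nil) .nil)) (.node 10 (.node 10 (.node 10 .nil .nil) (.node 10 .nil .nil)) (.node 10 (.node 10 .nil .nil) .nil))) (.node 10 (.node 10 (.node 10 (.node 10 .nil .nil) (.node 10 .nil .nil)) (.node 10 (.node 10 .nil .nil) .nil)) (.node 10 (.node 10 (.node 10 .nil .nil) .nil) (.node 10 (.node 10 .nil .nil) .nil))))

/-- A part of an array. -/
noncomputable def part1560 : Arr ℕ :=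
  (.node 10 part1558 part1559)

/-- A part of an array. -/
noncomputable def part1561 : Arr ℕ :=
  (.node 10 (.node 10 (.node 10 (.node 10 (.node 10 .nil .nil) (.node 10 .nil .nil)) (.node 10 (.node 10 .nil .nil) .nil)) (.node 10 (.node 10 (.node 10 .nil .nil) (.node 10 .nil .nil)) (.node 10 (.node 10 .nil .nil) .nil))) (.node 10 (.node 10 (.node 10 (.node 10 .nil .nil) (.node 10 .nil .nil)) (.node 10 (.node 10 .nil .nil) .nil)) (.node 10 (.node 10 (.node 10 .nil .nil) (.node 10 .nil .nil)) (.node 10 (.node 10 .nil .nil) .nil))))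

/-- A part of an array. -/
noncomputable def part1562 : Arr ℕ :=
  (.node 10 (.node 10 (.node 10 (.node 10 (.node 10 .nil .nil) (.node 10 .nil .nil)) (.node 10 (.node 10 .nil .nil) .nil)) (.node 10 (.node 10 (.node 10 .nil .nil) (.node 10 .nil .nil)) (.node 10 (.node 10 .nil .nil) .nil))) (.node 10 (.node 10 (.node 10 (.node 10 .nil .nil) (.node 10 .nil .nil)) (.node 10 (.node 10 .nil .nil) .nil)) (.node 10 (.node 10 (.node 10 .nil .nil) .nil) (.node 10 (.node 10 .nil .nil) .nil))))

/-- A part of an array. -/
noncomputable def part1563 : Arr ℕ :=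
  (.node 10 part1561 part1562)

/-- A part of an array. -/
noncomputable def part1564 : Arr ℕ :=
  (.node 10 (.node 10 (.node 10 (.node 10 (.node 10 .nil .nil) (.node 10 .nil .nil)) (.node 10 (.node 10 .nil .nil) .nil)) (.node 10 (.node 10 (.node 10 .nil .nil) (.node 10 .nil .nil)) (.node 10 (.node 10 .nil .nil) .nil))) (.node 10 (.node 10 (.node 10 (.node 10 .nil .nil) (.node 10 .nil .nil)) (.node 10 (.node 10 .nil .nil) .nil)) (.node 10 (.node 10 (.node 10 .nil .nil) .nil) (.node 10 (.node 10 .nil .nil) .nil))))

/-- A part of an array. -/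
noncomputable def part1565 : Arr ℕ :=
  (.node 10 (.node 10 (.node 10 (.node 10 (.node 10 .nil .nil) (.node 10 .nil .nil)) (.node 10 (.node 10 .nil .nil) .nil)) (.node 10 (.node 10 (.node 10 .nil .nil) (.node 10 .nil .nil)) (.node 10 (.node 10 .nil .nil) .nil))) (.node 10 (.node 10 (.node 10 (.node 10 .nil .nil) (.node 10 .nil .nil)) (.node 10 (.node 10 .nil .nil) .nil)) (.node 10 (.node 10 (.node 10 .nil .nil) .nil) (.node 10 (.node 10 .nil .nil) .nil))))

/-- A part of an array. -/
noncomputable def part1566 : Arr ℕ :=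
  (.node 10 part1564 part1565)

/-- A part of an array. -/
noncomputable def part1567 : Arr ℕ :=
  (.node 10 (.node 10 (.node 10 (.node 10 (.node 10 .nil .nil) (.node 10 .nil .nil)) (.node 10 (.node 10 .nil .nil) .nil)) (.node 10 (.node 10 (.node 10 .nil .nil) (.node 10 .nil .nil)) (.node 10 (.node 10 .nil .nil) .nil))) (.node 10 (.node 10 (.node 10 (.node 10 .nil .nil) (.node 10 .nil .nil)) (.node 10 (.node 10 .nil .nil) .nil)) (.node 10 (.node 10 (.node 10 .nil .nil) (.node 10 .nil .nil)) (.node 10 (.node 10 .nil .nil) .nil))))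

/-- A part of an array. -/
noncomputable def part1568 : Arr ℕ :=
  (.node 10 (.node 10 (.node 10 (.node 10 (.node 10 .nil .nil) (.node 10 .nil .nil)) (.node 10 (.node 10 .nil .nil) .nil)) (.node 10 (.node 10 (.node 10 .nil .nil) (.node 10 .nil .nil)) (.node 10 (.node 10 .nil .nil) .nil))) (.node 10 (.node 10 (.node 10 (.node 10 .nil .nil) (.node 10 .nil .nil)) (.node 10 (.node 10 .nil .nil) .nil)) (.node 10 (.node 10 (.node 10 .nil .nil) .nil) (.node 10 (.node 10 .nil .nil) .nil))))

/-- A part of an array. -/
noncomputable def part1569 : Arr ℕ :=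
  (.node 10 part1567 part1568)

/-- A part of an array. -/
noncomputable def part1570 : Arr ℕ :=
  (.node 10 (.node 10 (.node 10 (.node 10 (.node 10 .nil .nil) (.node 10 .nil .nil)) (.node 10 (.node 10 .nil .nil) .nil)) (.node 10 (.node 10 (.node 10 .nil .nil) (.node 10 .nil .nil)) (.node 10 (.node 10 .nil .nil) .nil))) (.node 10 (.node 10 (.node 10 (.node 10 .nil .nil) (.node 10 .nil .nil)) (.node 10 (.node 10 .nil .nil) .nil)) (.node 10 (.node 10 (.node 10 .nil .nil) (.node 10 .nil .nil)) (.node 10 (.node 10 .nil .nil) .nil))))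

/-- A part of an array. -/
noncomputable def part1571 : Arr ℕ :=
  (.node 10 (.node 10 (.node 10 (.node 10 (.node 10 .nil .nil) (.node 10 .nil .nil)) (.node 10 (.node 10 .nil .nil) .nil)) (.node 10 (.node 10 (.node 10 .nil .nil) (.node 10 .nil .nil)) (.node 10 (.node 10 .nil .nil) .nil))) (.node 10 (.node 10 (.node 10 (.node 10 .nil .nil) (.node 10 .nil .nil)) (.node 10 (.node 10 .nil .nil) .nil)) (.node 10 (.node 10 (.node 10 .nil .nil) .nil) (.node 10 (.node 10 .nil .nil) .nil))))

/-- A part of an array. -/
noncomputable def part1572 : Arr ℕ :=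
  (.node 10 part1570 part1571)

/-- A part of an array. -/
noncomputable def part1573 : Arr ℕ :=
  (.node 7 (.node 10 (.node 10 (.node 10 (.node 10 .nil .nil) (.node 10 .nil .nil)) (.node 10 (.node 10 .nil .nil) .nil)) (.node 10 (.node 10 (.node 10 .nil .nil) (.node 10 .nil .nil)) (.node 10 (.node 10 .nil .nil) .nil))) (.node 10 (.node 10 (.node 10 (.node 10 .nil .nil) (.node 10 .nil .nil)) (.node 10 (.node 10 .nil .nil) .nil)) (.node 10 (.node 10 (.node 10 .nil .nil) (.node 10 .nil .nil)) (.node 10 (.node 10 .nil .nil) .nil))))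

/-- A part of an array. -/
noncomputable def part1574 : Arr ℕ :=
  (.node 10 (.node 10 (.node 10 (.node 10 (.node 10 .nil .nil) (.node 10 .nil .nil)) (.node 10 (.node 10 .nil .nil) .nil)) (.node 10 (.node 10 (.node 10 .nil .nil) (.node 10 .nil .nil)) (.node 10 (.node 10 .nil .nil) .nil))) (.node 10 (.node 10 (.node 10 (.node 10 .nil .nil) (.node 10 .nil .nil)) (.node 10 (.node 10 .nil .nil) .nil)) (.node 10 (.node 10 (.node 10 .nil .nil) .nil) (.node 10 (.node 10 .nil .nil) .nil))))

/-- A part of an array. -/
noncomputable def part1575 : Arr ℕ :=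
  (.node 10 part1573 part1574)

/-- A part of an array. -/
noncomputable def part1576 : Arr ℕ :=
  (.node 6 (.node 10 (.node 10 (.node 10 (.node 10 .nil .nil) (.node 10 .nil .nil)) (.node 10 (.node 10 .nil .nil) .nil)) (.node 10 (.node 10 (.node 10 .nil .nil) (.node 10 .nil .nil)) (.node 10 (.node 10 .nil .nil) .nil))) (.node 10 (.node 10 (.node 10 (.node 10 .nil .nil) (.node 10 .nil .nil)) (.node 10 (.node 10 .nil .nil) .nil)) (.node 10 (.node 10 (.node 10 .nil .nil) (.node 10 .nil .nil)) (.node 10 (.node 10 .nil .nil) .nil))))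

/-- A part of an array. -/
noncomputable def part1577 : Arr ℕ :=
  (.node 10 (.node 10 (.node 10 (.node 10 (.node 10 .nil .nil) (.node 10 .nil .nil)) (.node 10 (.node 10 .nil .nil) .nil)) (.node 10 (.node 10 (.node 10 .nil .nil) (.node 10 .nil .nil)) (.node 10 (.node 10 .nil .nil) .nil))) (.node 10 (.node 10 (.node 10 (.node 10 .nil .nil) (.node 10 .nil .nil)) (.node 10 (.node 10 .nil .nil) .nil)) (.node 10 (.node 10 (.node 10 .nil .nil) .nil) (.node 10 (.node 10 .nil .nil) .nil))))

/-- A part of an array. -/
noncomputable def part1578 : Arr ℕ :=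
  (.node 10 part1576 part1577)

/-- A part of an array. -/
noncomputable def part1579 : Arr ℕ :=
  (.node 10 (.node 10 (.node 10 (.node 10 (.node 10 .nil .nil) (.node 10 .nil .nil)) (.node 10 (.node 10 .nil .nil) .nil)) (.node 10 (.node 10 (.node 10 .nil .nil) (.node 10 .nil .nil)) (.node 10 (.node 10 .nil .nil) .nil))) (.node 10 (.node 10 (.node 10 (.node 10 .nil .nil) (.node 10 .nil .nil)) (.node 10 (.node 10 .nil .nil) .nil)) (.node 10 (.node 10 (.node 10 .nil .nil) (.node 10 .nil .nil)) (.node 10 (.node 10 .nil .nil) .nil))))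

/-- A part of an array. -/
noncomputable def part1580 : Arr ℕ :=
  (.node 10 (.node 10 (.node 10 (.node 10 (.node 10 .nil .nil) (.node 10 .nil .nil)) (.node 10 (.node 10 .nil .nil) .nil)) (.node 10 (.node 10 (.node 10 .nil .nil) (.node 10 .nil .nil)) (.node 10 (.node 10 .nil .nil) .nil))) (.node 10 (.node 10 (.node 10 (.node 10 .nil .nil) (.node 10 .nil .nil)) (.node 10 (.node 10 .nil .nil) .nil)) (.node 10 (.node 10 (.node 10 .nil .nil) .nil) (.node 10 (.node 10 .nil .nil) .nil))))

/-- A part of an array. -/
noncomputable def part1581 : Arr ℕ :=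
  (.node 3 part1579 part1580)

/-- A part of an array. -/
noncomputable def part1582 : Arr ℕ :=
  (.node 10 (.node 10 (.node 10 (.node 10 (.node 10 .nil .nil) (.node 10 .nil .nil)) (.node 10 (.node 10 .nil .nil) .nil)) (.node 10 (.node 10 (.node 10 .nil .nil) (.node 10 .nil .nil)) (.node 10 (.node 10 .nil .nil) .nil))) (.node 10 (.node 10 (.node 10 (.node 10 .nil .nil) (.node 10 .nil .nil)) (.node 10 (.node 10 .nil .nil) .nil)) (.node 10 (.node 10 (.node 10 .nil .nil) (.node 10 .nil .nil)) (.node 10 (.node 10 .nil .nil) .nil))))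

/-- A part of an array. -/
noncomputable def part1583 : Arr ℕ :=
  (.node 10 (.node 10 (.node 10 (.node 10 (.node 10 .nil .nil) (.node 10 .nil .nil)) (.node 10 (.node 10 .nil .nil) .nil)) (.node 10 (.node 10 (.node 10 .nil .nil) (.node 10 .nil .nil)) (.node 10 (.node 10 .nil .nil) .nil))) (.node 10 (.node 10 (.node 10 (.node 10 .nil .nil) (.node 10 .nil .nil)) (.node 10 (.node 10 .nil .nil) .nil)) (.node 10 (.node 10 (.node 10 .nil .nil) .nil) (.node 10 (.node 10 .nil .nil) .nil))))

/-- A part of an array. -/
noncomputable def part1584 : Arr ℕ :=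
  (.node 9 part1582 part1583)

/-- A part of an array. -/
noncomputable def part1585 : Arr ℕ :=
  (.node 10 (.node 10 (.node 10 (.node 10 (.node 10 .nil .nil) (.node 10 .nil .nil)) (.node 10 (.node 10 .nil .nil) .nil)) (.node 10 (.node 10 (.node 10 .nil .nil) (.node 10 .nil .nil)) (.node 10 (.node 10 .nil .nil) .nil))) (.node 10 (.node 10 (.node 10 (.node 10 .nil .nil) (.node 10 .nil .nil)) (.node 10 (.node 10 .nil .nil) .nil)) (.node 10 (.node 10 (.node 10 .nil .nil) (.node 10 .nil .nil)) (.node 10 (.node 10 .nil .nil) .nil))))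

/-- A part of an array. -/
noncomputable def part1586 : Arr ℕ :=
  (.node 10 (.node 10 (.node 10 (.node 10 (.node 10 .nil .nil) (.node 10 .nil .nil)) (.node 10 (.node 10 .nil .nil) .nil)) (.node 10 (.node 10 (.node 10 .nil .nil) (.node 10 .nil .nil)) (.node 10 (.node 10 .nil .nil) .nil))) (.node 10 (.node 10 (.node 10 (.node 10 .nil .nil) (.node 10 .nil .nil)) (.node 10 (.node 10 .nil .nil) .nil)) (.node 10 (.node 10 (.node 10 .nil .nil) .nil) (.node 10 (.node 10 .nil .nil) .nil))))

/-- A part of an array. -/
noncomputable def part1587 : Arr ℕ :=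
  (.node 10 part1585 part1586)

/-- A part of an array. -/
noncomputable def part1588 : Arr ℕ :=
  (.node 10 (.node 10 (.node 10 (.node 10 (.node 10 .nil .nil) (.node 10 .nil .nil)) (.node 10 (.node 10 .nil .nil) .nil)) (.node 10 (.node 10 (.node 10 .nil .nil) (.node 10 .nil .nil)) (.node 10 (.node 10 .nil .nil) .nil))) (.node 10 (.node 10 (.node 10 (.node 10 .nil .nil) (.node 10 .nil .nil)) (.node 10 (.node 10 .nil .nil) .nil)) (.node 10 (.node 10 (.node 10 .nil .nil) .nil) (.node 10 (.node 10 .nil .nil) .nil))))

/-- A part of an array. -/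
noncomputable def part1589 : Arr ℕ :=
  (.node 10 (.node 10 (.node 10 (.node 10 (.node 10 .nil .nil) (.node 10 .nil .nil)) (.node 10 (.node 10 .nil .nil) .nil)) (.node 10 (.node 10 (.node 10 .nil .nil) (.node 10 .nil .nil)) (.node 10 (.node 10 .nil .nil) .nil))) (.node 10 (.node 10 (.node 10 (.node 10 .nil .nil) (.node 10 .nil .nil)) (.node 10 (.node 10 .nil .nil) .nil)) (.node 10 (.node 10 (.node 10 .nil .nil) .nil) (.node 10 (.node 10 .nil .nil) .nil))))

/-- A part of an array. -/
noncomputable def part1590 : Arr ℕ :=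
  (.node 10 part1588 part1589)

/-- The keys of the points. -/
noncomputable def keyArr : Arr ℕ :=
  (.node 4 (.node 8 (.node 128 (.node 168 (.node 4164 part1209 part1212) (.node 6628 part1215 part1218)) (.node 4096 (.node 6528 part1221 part1224) (.node 32768 part1227 part1230))) (.node 152 (.node 184 (.node 4180 part1233 part1236) (.node 6644 part1239 part1242)) (.node 4116 (.node 6548 part1245 part1248) (.node 32896 part1251 part1254)))) (.node 12 (.node 132 (.node 172 (.node 4172 part1257 part1260) (.node 6632 part1263 part1266)) (.node 4104 (.node 6540 part1269 part1272) (.node 32804 part1275 part1278))) (.node 156 (.node 188 (.node 4188 part1281 part1284) (.node 6648 part1287 part1290)) (.node 4124 (.node 6552 part1293 part1296) (.node 32932 part1299 part1302)))))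

/-- The base. -/
def base : List ℕ := [731,0,19]

/-- Positions in the orbit of level 0. -/
noncomputable def posArr0 : Arr ℕ :=
  (.node 93 (.node 43 (.node 23 (.node 91 (.node 179 part1305 part1308) (.node 449 part1311 part1314)) (.node 12 (.node 1576 part1317 part1320) (.node 5 part1323 part1326))) (.node 177 (.node 321 (.node 373 part1329 part1332) (.node 1008 part1335 part1338)) (.node 323 (.node 796 part1341 part1344) (.node 75 part1347 part1350)))) (.node 558 (.node 274 (.node 955 (.node 473 part1353 part1356) (.node 232 part1359 part1362)) (.node 152 (.node 1304 part1365 part1368) (.node 207 part1371 part1374))) (.node 536 (.node 974 (.node 487 part1377 part1380) (.node 507 part1383 part1386)) (.node 265 (.node 380 part1389 part1392) (.node 147 part1395 part1398)))))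

/-- Positions in the orbit of level 1. -/
noncomputable def posArr1 : Arr ℕ :=
  (.node 0 (.node 1024 (.node 1024 (.node 1024 (.node 364 part1401 part1404) (.node 745 part1407 part1410)) (.node 1024 (.node 1024 part1413 part1416) (.node 1024 part1419 part1422))) (.node 1024 (.node 1024 (.node 103 part1425 part1428) (.node 940 part1431 part1434)) (.node 344 (.node 72 part1437 part1440) (.node 1024 part1443 part1446)))) (.node 281 (.node 132 (.node 541 (.node 955 part1449 part1452) (.node 1024 part1455 part1458)) (.node 1024 (.node 30 part1461 part1464) (.node 623 part1467 part1470))) (.node 539 (.node 444 (.node 533 part1473 part1476) (.node 1024 part1479 part1482)) (.node 637 (.node 1024 part1485 part1488) (.node 914 part1491 part1494)))))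

/-- Positions in the orbit of level 2. -/
noncomputable def posArr2 : Arr ℕ :=
  (.node 10 (.node 10 (.node 10 (.node 10 (.node 10 part1497 part1500) (.node 10 part1503 part1506)) (.node 10 (.node 0 part1509 part1512) (.node 10 part1515 part1518))) (.node 10 (.node 10 (.node 10 part1521 part1524) (.node 10 part1527 part1530)) (.node 10 (.node 10 part1533 part1536) (.node 10 part1539 part1542)))) (.node 10 (.node 10 (.node 10 (.node 10 part1545 part1548) (.node 10 part1551 part1554)) (.node 10 (.node 10 part1557 part1560) (.node 10 part1563 part1566))) (.node 10 (.node 10 (.node 10 part1569 part1572) (.node 10 part1575 part1578)) (.node 10 (.node 5 part1581 part1584) (.node 10 part1587 part1590)))))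

/-- The generators as permutations. -/
def codes : List ℕ :=
  [0x1b6b6ced8dafa6b4ce98d2fb2b64ec8d8fa2b44e88d0fb4b68ed0d9fa4b48e90d1fb0b60ec0d7fa0b40e80cff36a6ccd89af26a4cc9892f32a64cc898f22a44c8890f34a68cd099f24a48c9091f30a60cc097f20a40c808ffb5b6aed4da7a5b4ae94d27b1b62ec4d87a1b42e84d07b3b66eccd97a3b46e8cd17afb5eebcd779fb3ee7ccf735a6acd49a725a4ac9492731a62cc498721a42c8490733a66ccc99723a46c8c9172fa5ecbc9771fa3ec7c8f776aecdd8baf66accd98b2f72ae4dc8b8f62ac4d88b0f74ae8dd0b9f64ac8d90b1f70ae0dc0b7f60ac0d80afef69ecbd87aee69ccb9872ef29e4bc878ee29c4b8870ef49e8bd079ee49c8b9071ef09e0bc077ee09c0b806ff75aeadd4ba765acad94b2771ae2dc4b8761ac2d84b0773ae6dccb9763ac6d8cb176fadedbcb775fabed7caf6f59eabd47a6e59cab94726f19e2bc4786e19c2b84706f39e6bcc796e39c6b8c716ef9debbc776df9beb7c6f796b2ce58caf86b0ce18c2f92b24e48c8f82b04e08c0f94b28e50c9f84b08e10c1f90b20e40c7f80b00e00bff16a2cc588af06a0cc1882f12a24c4888f02a04c0880f14a28c5089f04a08c1081f10a20c4087f00a00c007ff95b2ae54ca785b0ae14c2791b22e44c8781b02e04c0793b26e4cc9783b06e0cc178fb1ee3cc777fafedfcbf715a2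ac548a705a0ac1482711a22c4488701a02c0480713a26c4c89703a06c0c8170fa1ec3c876ff9febfc7f756aacd58aaf46a8cd18a2f52aa4d48a8f42a84d08a0f54aa8d50a9f44a88d10a1f50aa0d40a7f40a80d009fed69acb586aec698cb1862ed29a4b4868ec2984b0860ed49a8b5069ec4988b1061ed09a0b4067ec0980b005ff55aaad54aa745a8ad14a2751aa2d44a8741a82d04a0753aa6d4ca9743a86d0ca174fa9ed3ca773fa7ecfc9f6d59aab546a6c598ab14626d19a2b44686c1982b04606d39a6b4c696c3986b0c616cf99eb3c676bf97eafc5f7aeb5ceb8d6f9eb3ce78cefaab54ea8d4f9ab34e68ccfacb58eb0d5f9cb38e70cdfa8b50ea0d3f98b30e60cbf2ea5ccb896f1ea3cc788ef2aa54ca894f1aa34c688cf2ca58cb095f1ca38c708df28a50ca093f18a30c608bfadb5aeb4d679db3ae74ce7a9b52ea4d4799b32e64cc7abb56eacd579bb36e6ccd7a7b4ee9cd3797b2ee5ccb72da5acb49671da3ac748e729a52ca494719a32c648c72ba56cac9571ba36c6c8d727a4ec9c93717a2ec5c8b76eadcdb8b6f5eabcd78aef6aad4da8b4f5aab4d68acf6cad8db0b5f5cab8d70adf68ad0da0b3f58ab0d60abeee9dcbb876ede9bcb786eeea9d4ba874eda9b4b686ceec9d8bb075edc9b8b706dee89d0ba073ed89b0b606bf6dadadb4b675dabad74ae769ad2da4b4759ab2d64ac76bad6dacb575bab6d6cad767aced9cb37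57aaed5cab6ed9dabb4766dd9bab746e6e99d2ba4746d99b2b646c6eb9d6bac756db9b6b6c6d6e79ceb9c736d79aeb5c6b78eb1ce38c6f7eafcdf8bef8ab14e28c4f7aaf4de8bcf8cb18e30c5f7caf8df0bdf88b10e20c3f78af0de0bbf0ea1cc3886efe9fcbf87ef0aa14c2884efa9f4be87cf0ca18c3085efc9f8bf07df08a10c2083ef89f0be07bf8db1ae34c677dafadf4be789b12e24c4779af2de4bc78bb16e2cc577baf6decbd787b0ee1cc3777aeeddcbb70da1ac34866fd9fabf47e709a12c24846f99f2be47c70ba16c2c856fb9f6bec7d707a0ec1c836f79eebdc7b74ea9cd38a6f3ea7ccf89ef4aa94d28a4f3aa74ce89cf4ca98d30a5f3ca78cf09df48a90d20a3f38a70ce09bece99cb3866ebe97caf85eeca994b2864eba974ae85cecc998b3065ebc978af05dec8990b2063eb8970ae05bf4da9ad34a673da7acf49e749a92d24a4739a72ce49c74ba96d2ca573ba76cec9d747a8ed1ca3737a6ecdc9b6cd99ab34666bd97aaf45e6c9992b24646b9972ae45c6cb996b2c656bb976aec5d6c798eb1c636b796eadc5b6b696cacd59cb3d682d45a6b4968ad55acb5d6c2cc5969c5392754ec9e13ba6c4d69e93ca6e4da9bd382734e8a0940a8650aa1d4427b4f8a254527d4fca013fa84506aa55529e53aa814faa3548a85512a654aaa153a9b538a654d28e51aa4147a93528a454929652aa614ba8b518ac5592b556cae15baa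c556ae95caae55aabd582b3568b0960ac658ab1d642bb578b25652bd57cb015fac45869a934a5d4bc97d302644c698930a654cc99d3425c4b6648c898e31a668cc99632a63cc818b31865ccc1933286e4dd1b636a6c4d91ae35a6dcdc1b43666bcd81ac356624c518630a604c117e2fa61cc41843065fcc017c2f66a8d49a634a688d099e33a69cd41a334867cd019b338768ec9d53ac748e89cd39c760eb9d33a8740e79cb3985e8bc9762ea5c8b896e2da5dcbc1732e85bcb816b2d8704e11bd37c724e51c538c700df9bc376720e39c43865a4b51662ca584b115e2ba59cb41642c657cb015c2b68690ca1242285d0c20f4208590aa0e41a84d0a20b4187d4fb1ee3da7ccfa1ec3d67e4fd1f23e27dcfc1f03de9252524148492123a4047e9152323d47c91121a3c4768a914a214448a113a1f44089912a1d43c89111a1b4389592aa4d49c95129a4b4989692ca514a49612ba4f4a08e51d2314648e11ba3045e8d51b22d45c8d119a2c45682904a01404821039ff400819029fd3fc811019fb3f87a4f51e13c47a0f39e03be794f31dd3bc790f19dc3b63686c8d81ae348688d019e3586a8d41a6338668cc1962684c89812e2484889011e2584a8941262384688c1162e85c8b816e2c8588b015e2d85a8b41662b8568ac1561e83c8780ee1c8388700de1d83a8740e61b83686c0d6328640c918e300610bf182318620c51862f05f0bb17a228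4408910e208400810fe218420851061f83e07d0f62a0550a7152288500a113e290530a314a2784e09d1361a8340690ce188300610be198320650c61782e05d0b6568ac9582ae548a895029e558aa9542a6538a694c2964688c11922e4488811121e454899162284348590e2184e89c93826e4c89893025e4d89a9342664b89692c2563e47b8fa1f03c4778f21e03d87a0f51e63b8760ed1d6528a494828e508a094027e518a29442864f89e93c2764288410920e408801011fe418821052063f87e0fd1f64a89492824e4889092023e498929242464788e91c2363a8740e91ce388700e11be398720e51c63786e0dd1b61642d0570b0150298560aa1482885009e1382684c0960d8198350680dc1d0380720c41803205e0b41602e0561142184408c128240470921002104107e0f01f03d0760680c01902e0580a0150260480801101e0380600d0160a81402904e098120250460881002103e0780e01d0360280480600a0200380200201001800,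
   0x172ae4dc8b8f65acad94b2760ac0d80aff73ae6dccb9776aecdd8baf61ac2d84b0764ac8d90b1f6fadedbcb772aa54ca894f1da3ac748e718a30c608bf2ba56cac9572ea5ccb896f19a32c648c71ca38c708df27a4ec9c93762ac4d88b0f75aeadd4ba770ae0dc0b7f63ac6d8cb1766accd98b2f71ae2dc4b8774ae8dd0b9f5fabed7caf71aa34c688cf2da5acb496728a50ca093f1ba36c6c8d71ea3cc788ef29a52ca49472ca58cb095f17a2ec5c8b6d29a4b4868ec598ab14626c0980b005fed39a6b4c696d69acb586aec1982b04606c4988b1061ecf99eb3c6778ab14e28c4f7dafadf4be778af0de0bbf8bb16e2cc578eb1ce38c6f79af2de4bc77caf8df0bdf87b0ee1cc36c2984b0860ed59aab546a6d09a0b4067ec3986b0c616c698cb1862ed19a2b44686d49a8b5069ebf97eafc5f77aaf4de8bcf8db1ae34c6788b10e20c3f7baf6decbd77eafcdf8bef89b12e24c478cb18e30c5f77aeeddcbb7b2b64ec8d8fa5b4ae94d27a0b40e80cffb3b66eccd97b6b6ced8dafa1b42e84d07a4b48e90d1fafb5eebcd76ea9d4ba874edd9bab746e6d89b0b606beeb9d6bac756ee9dcbb876ed99b2b646c6dc9b8b706dee79ceb9c737a2b44e88d0fb5b6aed4da7b0b60ec0d7fa3b46e8cd17a6b4ce98d2fb1b62ec4d87b4b68ed0d9f9fb3ee7ccf6da9b4b686ceed9dabb4766e89d0ba073edb9b6b6c6d6de9bcb786eee99d2ba4746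ec9d8bb075ed79aeb5c6b712a24c4888f05a0ac1482700a00c007ff13a26c4c89716a2cc588af01a02c0480704a08c1081f0fa1ec3c8774aa94d28a4f3da7acf49e738a70ce09bf4ba96d2ca574ea9cd38a6f39a72ce49c73ca78cf09df47a8ed1ca3702a04c0880f15a2ac548a710a20c4087f03a06c0c81706a0cc1882f11a22c4488714a28c5089eff9febfc7f73aa74ce89cf4da9ad34a6748a90d20a3f3ba76cec9d73ea7ccf89ef49a92d24a474ca98d30a5f37a6ecdc9b6f29e4bc878ee59cab94726e09c0b806fef39e6bcc796f69ecbd87aee19c2b84706e49c8b9071eef9debbc777aab54ea8d4f9db3ae74ce798b30e60cbfabb56eacd57aeb5ceb8d6f99b32e64cc79cb38e70cdfa7b4ee9cd36e29c4b8870ef59eabd47a6f09e0bc077ee39c6b8c716e69ccb9872ef19e2bc4786f49e8bd079edf9beb7c6f79ab34e68ccfadb5aeb4d67a8b50ea0d3f9bb36e6ccd79eb3ce78cefa9b52ea4d47acb58eb0d5f97b2ee5ccb752aa4d48a8f45a8ad14a2740a80d009ff53aa6d4ca9756aacd58aaf41a82d04a0744a88d10a1f4fa9ed3ca770aa14c2884efd9fabf47e6f89f0be07bf0ba16c2c8570ea1cc3886ef99f2be47c6fc9f8bf07df07a0ec1c83742a84d08a0f55aaad54aa750aa0d40a7f43a86d0ca1746a8cd18a2f51aa2d44a8754aa8d50a9f3fa7ecfc9f6fa9f4be87cf0da1ac3486708a10c2083efb9f6bec7d6fe9fcbf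87ef09a12c248470ca18c3085ef79eebdc7b732a64cc898f25a4ac9492720a40c808ff33a66ccc99736a6ccd89af21a42c8490724a48c9091f2fa5ecbc9776aad4da8b4f5dabad74ae758ab0d60abf6bad6dacb576eadcdb8b6f59ab2d64ac75cab8d70adf67aced9cb3722a44c8890f35a6acd49a730a60cc097f23a46c8c91726a4cc9892f31a62cc498734a68cd099f1fa3ec7c8f75aab4d68acf6dadadb4b6768ad0da0b3f5bab6d6cad75eabcd78aef69ad2da4b476cad8db0b5f57aaed5cab792b24e48c8f85b0ae14c2780b00e00bff93b26e4cc9796b2ce58caf81b02e04c0784b08e10c1f8fb1ee3cc76ca994b2864ebd97aaf45e6b8970ae05becb996b2c656ce99cb3866eb9972ae45c6bc978af05dec798eb1c63782b04e08c0f95b2ae54ca790b20e40c7f83b06e0cc1786b0ce18c2f91b22e44c8794b28e50c9f7fafedfcbf6ba974ae85cecd99ab34666c8990b2063ebb976aec5d6be97caf85eec9992b24646cc998b3065eb796eadc5b66d8da9b035e6ccda1b13646dcdc1ad35c6e8dc9ac3566fce01c638a704e11c43866f4df1c838e6ecde1ca3925dcbc16e2da5e4bd16c2d65d4bb1702de5ccba1722e2614c317f300610c1982302620c397e2fa624c517b2f8758ea9d039e74cea1d13a475cec1cd39c768ec9cc3966a0d399d33c6a8d499b338698d299f340690d19a134463cc819632a644c9194326634c719832e62c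c619a332598b29602be58cb21612c459cb415d2bc5a8b495c2b6318628bc176320638c218230c620bd17c324650bf1801e43d0700de1cc3a06e0da1dc3c0720e21d43b06c0d621c440821022144307c0f6224450800fe20c4207e0fa2e05b8b21622d0598ae15a2e45d0af1602d45b0ab1582604b88f1202584a88d11c2684c8911242504988b1182a0538a21422985289c1362a45509f14028c5209d13c3546b0cd19c3646d0d11a4350698cc1963606b8d019e1a4350600be18c3205e0ba19c340620c21943305c0b6a3946a91524a694ca9552ca4d4a29852ea3d4828c516af15dac057eb2163ac4586b15632c9594b05612bd57cb3966ad15a4b696cad55acb4d6a2d85aeb3d682cc596a1942a8a512a0940a7e4fa9ed3e27f500a1d442835089b135a704de9e13ba744e69d53b2794f49c53926d4dca754f2a2542aa5552a654aa9151aa7550a814fa9b538ad55b2b9574ac5592ad55cab155ab055eae15bab45669792ea614c49a934a654cc98d322684ce97d3025c4b64508b10b21a4488811922e44c8a90c21c4448791a230524a514027e4f89e943288504a114828e518a293b2783d87a0ed1d63dc7c8f01e43d4798ee1d83e07d0ef1e24849112824e4748f1242464a49512023e4949311c236530aa14b2a6564a895a2a4558a715529a53cab9502b04208090a1fe4107e9061f64008490220e3f0828fe2064b49a92e26c4e89913926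24cc959342584c09c12f26e380748e21ce370728de1c63a0708ea1be3906e8e61b67d4fb1ee3da7e4fd1f23e27ccfa1ec3d67dcfc1f03de935272564aa9692ca514a495129a4b49893d282584ae8851122a4528750f22644a8a113a1f44089111a1b4388050120a412819029fd3fc821039ff4007ecfe20440684908a1a4328590aa0e41a83d0821743084d0a20b4188c5192394748d51b22d45c8e11ba3045e8b115a34466925252414848f51f24548c9011fa4848e91121a3c4767a4f51e13c4774ef1e53cc780ef9e83ce790f19dc3b60cc1b03406a0e01c8370740c41803205e0b41602e0560580981402a05c0d0190300400881201e0300680e01614c2a8560a81642b8580b41402905109e1302704d0960a41502705008c1202504c0881082003e0780e81c0361142204308c128238480921002084207e0f01e83e076018028020020280480400602003800,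
   0xf05795b24d75cdbac751fb8f111e91a26fe959bd6cc28f5a615d1197a8e7ec4ce20556520484958f31b6303a12712356b2da587485413d0c6e21886ba6ad31daa1e70b263921c9ef2abe0d2da82e5ac3998ae93a4f30ebbb1d2d1820b6948b601aeb444c66440fbeb0f45a9ef58e3cac4b5286c1baa6e4671f59ad98fbd4c59c1ede30b75af65e78481839bdcd954572126b54682a59dc1af04ac40b2d2d854d0822c9b61250854276640b89b8d143ceec889896473ac15a442757a1a35e8e096e119e1d8d2838ac663ea6b341455b97dfa3767d0e5ae5f40bc5823937b289fbd55a6589d0f17d21841be27d0bc5108573997b17a59a1a25552e62942462a12d61798f9c08c5f7b70c8629442f9068b034ba85b46a42ee09e8c814d9f0f018b06599605674f44efab3b297246e5b17927ba13cf70888bbb79c8212313e48154a261132689abeb4644518031fdbdf90ea818914d0807b4ea281d876a6629b1636b018be0087da80e83006d627eaee5863f748c3d69c3e0a064222b5fa5626aad70cb9e11bce19aa1c1fb5a23784f1567f2a5a3e059b29770b59a95f9f7821d8bf64681733e8f90ac77a963aa62307d4a81348f47c95da0c3d7891693c50652dd10c93f481e7ecd887f2f4742f6a98f3f254ed0692adc9839778e1e91cae326f49dd994bf74e41bc78a4a0d9c44e1bfa6363ccee72d920c74dfa7563afa6a2548dc353871b9e9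293144a14624076abe66f64f136303d7995b2bb3281225fec0411d52975b324cf7f1c53d038391e764e238f2870965306719a32465000e50e15388f5498e43be95a0170865493e0d65160fcaa9f72e29d2a0312ed06b46f45d1e2c43fd230778aa1c79ce5301cd6cf96428927c173a5d04ab01b2286a5eda51f23500e902c32e39f86ab5db52948ac953e58851a0ace98c102dac5ec3b3914eaaa4e98b66fb57a243f74af781faad168c6b073534423a01d059c114804af1159b7b367e1a7b2ee0c7382d3c6049ffc078b7a2266a1878cda0bc0264e89bce4d7a266d86990a0c8a2222f3fc7bd478433c7bd32d9d2da428e2ccbb1629218d0c8b4d5ee7450e20ec0cfcd6d43b9cea0add12d2e7ad6526760096adbf6a815ef8c05c838071496132ec7562b15d1125522843c0680135af0b9d512528f11b69e116520b59dafacf3a81e94a9498ebf9d14d885222a2ac1b15c5531a6dc8f307921aa3522d925776da3b13f6e75a8c2a921d7b242950b662e497ea78b1b9ddb04d243e29995b7a8a0b3aa4b2a65f425d0e3517a4b8fa5272c8bbc7b5b083b60ae584797305c7f437da78b55e9264743414f2b59263b8318a1cd97d89a29b42a7357fa490cccfe4e9ecbb6ca4274a85cd0eaa29187052f219eb2344f2d0182e260b3654aedd093db1760d57e2e0dfb473ca5def78b2076e70cbda882a5d53cd3c3751c6fcb0a3eeb527535e7a6c506316e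3c35fe5c5cc00e49cbfe4122da0441321a371c92cb07c46f6222e5246713cce81a21c42ce1c391af6e34f96fa2d4843b83255f74ebcd1c4ef7dc2246fbb86d147271c9cc648362778b1a2410028fb0d47a99c1acbe8caec673c840d49d6b0c931bfb1c9e30062e8917b97c8acb676474416ee7a0ba12186e2fb954cdf5a179aece2df8f082c96aca5f8c642695d1867ab7994367eae2d7165d786871fa4046901b1191729414e7f49aeac3c1185f4c0811a58e170ca23a4a13fd002a710555a0516e879421b5d20b953468b8da371380d85e68da4ba1b180d2acf07ebce14259551a08b2034adc2996f89c9ea1cabe11fc49cd2e91dae66206739e48d54d2c12103b91776214d44499f15af836945952c8d4dcd7ced351d740374aa0c90a78697742caa6510c31b18b827a70c19113546955ca3ed99548054afa0ce05d855c4aa2af0c8642b72d1ba0227462c2746b969036417d2e53e5ea655d162a8682c32d33da1d561bd42d699b210596a5471eb8c5b62ba6d13d20f5d6da9dac173f9593a66cc51880d98486ba497b34ce0a8c42c915874802ad778577520806fa7781f5e8428424331b9fc5b2bd5d7a97bb355907eb8bdd0516287344c2b11d9f9980256e1499bafb61cd3452d38593244e676ad8eae82418e006653ec965c5485433946482f4982d781067d0a7179a1f6818be309ca739fa6d640ae5a7c58d46630f79f3935146609e66852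8af0057038b68031ffa9259bd943a1d74bc73cc807c84a935f66614ccff2d98fd5bcd57aeda82d6bbb83376efa31d855897408bc12441fa1841a8f1158c92c305c8304cb3805d199a540111c2e491e71b272caaaa7e41aad70434a0d39afe6d3669227356ca824830d52fafc3f0d402c8b460721b0b6807d527a6da9c94cf88f8d6232e5f625bf4b4c390a9a7a792265c681aaa247eba5c2d274952b02c204703774339f0153ecc2925887dd575b10314068cb69c87893baaebe44e2a62486e2cdbc283d97a816674b64e350bfe804250405154f8f99f51b7c7762d0587b12e8274dd46bd6c061c02779b311b68da74f610a78ea497466c7d073e1b54ecd729f0986bea0d4fca3d00158c673316fead4f54608fc3c6ded5c29dacbfea84820b164af0063dc3d350bd6f5013a52fdc76425300c1dd2cc2f3888d30010ff172422919e81f0086bc24a80ab74609114c7351e9c99644d01964400f1964d35f8e422389d67d8775fe592869baad9b92747135b923349a7b204e93b66faeb22534760f01d1d26f0a5d49eec02c68569df2c36b68445104758164b396f93d6e0136c2f9accf98c252b3c263ee4531b2a38e46a066db72d50134c032d0c94e19f02bdaab1794189700fae61446727e1268c06c5886e6c6fa300be30f2f91411efe1819829c723a6a66e2829cc36c534ad6c57f014cae89ef9c8b6442d208dbca88998892d0d539434616ad8e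98264ad6184771765d064e8234e9084714fd58621c37a25c2d67082eb2c2cce1b6a943a4c34d55004cb79c723e98f55592aaf0512448307fc708c16b6c922aa7bbd05511a9f3cdfabadd949b8a1eaf6838332018c83ae5390486f6499591deff2065c0668de6792ae63ce2a2fb0ee25deac6a254de75cd1136c3c1256dc143b28d3369834a7675702d0b48916ab54e890449b060d0d279070b7b032ad5a107cd3f0aa4691ba632d20aaa998b106d92fca2d2c4260b2f518b5d85019745f861201a4c0cbc8b6e72e0e6027e32506eb6caf6850676c177f15160b052ccddb3a4a3b4aed89f021acb5bcd6b2614a4655742872ed4c231f6c63736ef30896f8e0ad1d7db47753655f9ca03df089880af7633c098f6b8ea8683961b4026b304cb3e99e8ba258de1159898378465052472a0e8ddbd19c112c7a2ea4842f30e3a850bad0a2d813e51fc49a5fa0671b2b463,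
   0x1acb56ecad8babb58ec6d93adb5cebdd85aeb5aec1d7db6369ea0d37b536be9cd3fb3f666a8d47b2f686a4d4fb3b68ea9d4db4b66ea5d55b6b6ae9ed43b5b6cea2d3bacf5c6c0d77adf5a6bcd7fab357ec8d87ac355ec4d8f8d71d641c7d8db1ce42c7b8c717646c938cb16e45c9592f28627c4993327e28c479532be1fc3994f2c620c379672b622c3b96b2ae21c3d93729625c5593b28e26c538c315e47c898bf16648c878df1a63fc798e319e40c779db3d67dd039e73ae82cfd9c736e89d0b9bb39686d15a2f47e64cd1a4346667cc7a534c65ccc1a5f49e5fcb7a674ae5ecc5a5b4d661cbba3b4966accda4746e65cd39bf35e84d119b338687d079e33a67cd019cf3be7fcf77dafd601bfb7d6fce02bfd7c6f6e05c137caf7606c1582f07de8bc9833085e7bc78530c5e0bb984f0bddfbb78670ade2bbd86b0b5e1bbb83b095e6bd583708de5bd37bef5e08c097c2f6607c077e2fa600bf97def9dffbf775aecda6b5376aeadaab4b74ae6da1b3d73ae8d9db456c2d5dc0b776b2d7dbcb7f6deda5c8b876cedc5c4b8f6c6d75bdb856b6d95c1b7d6d6dd5cab8b6e6db5c6b93752ebda8b47762e9da4b4f72ee85a0b3773ee659cb3f4c69753da854ca96d3ea834d69d54aa8b4da9cd49a8d54eac527a49552abd28a47532a7d1fa3952ea8520a3755aacd26a53556ad525a5554aa6d21a3d546a7522a3b4be9653fa794c295d40a77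4e299d47a894de9a548a875d6bcd89b0b5eabb586b155cab757db035b6b8d82afd642c655cac162ec7d5fab765ec9d64ad1652cc567ac7646c6d62abd63ac955dac365acd566ad5666cad69acb5cebbd84b115e2ba587b075b2b857cb015beb5d7faf74568cce59d345a8d4e69d544a874e19bb44686ce29bd3c2765009f93be75cff9f73de79d08a093e27a507a073c676cfea053ca774fda033da7d50aa0d3d67cd09a0b44e8bce89c94528c4e79c7432884e09b942e87cdf9b6b29642b8574b1d64ab956eb11632b6568b1561ab356ab696c2aa550b5d6caa7552b596a2a6548b4d6aaa354ab01612b2560b055faaf562af95e2ac55caed5eaad556b41692a0544b4567aa153eb316729c53cb3565a9d5369692c2284549652ba274529512b22644894d2aa254469292423a47092523a3946e9192223646891521a354669492822044494527a1f4429312721e43892d26a1d436909202324609051fa3145e8f91e22e4588f51da2d456a21452784f4a2543a794eea19422764e8a0d42a734eaa614d26a4d0a654ba674d2a514b2664c8a5549a634caa09402724e09fd40a6f4e29f13f26c4dc9f53da6d4d6a49482604c4a3d48a614bea394625c4bca2d46a5d4b6821051f83f481d049f73f2819021f63e8815019f53e68610d1ea3d085d0c9e93ce8510b1e63c884d0a9e53c6801011f03e47fd009ef3e27f8fe1ee3d87f4fd9ed3d6841091e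23c083d089e13be831071de3b882d069dd3b6720e51aa350724e39a7352710e31a6348714e19a334a768ec1b837475cec9b936e750eb1b6368754e99b336a708e01a03446fce09a133e6f8de19c33c6ecde99d336740e91b2360744e79af362738e61ac35c72ce69ad356568ac13a270564ab93926e558aa13426c554a993326a528a412a250524a392924e510a312624850ca2925246540a913026453ca892f262530a712e25852ca692d256508a01222405049f92123e4f09f11e2384ec9e91d236668cc1782f465ccc9792ee658ca1742ec64cca9752e6628c41682d461cc49692ce610c31662c8614c19632ca640c91722e0644c796f2e2630c716e2d8634c596b2da600c11622c0604bf95f2c25f8be15c2bc5ecbe95d2b64688c8fa1f24608b8f81ee4588a8f61ea450898f41e6428848ea1d2420838e81ce418828e61ca410818e41c6448888f21e2440878f01de438868ee1da430858ec1d6408808e21c24007f8e01be3f87e8de1ba3f07d8dc1b732a62cc998d30a5ecc197d2a6534aa94b2864f4a293b36a6acd99ad346674d299b2e65b4ba96b2ca56cb195d35e6a4d89a734265ccf9992e259cb79692be564b095732261cc79893025dcbf97929e524a894727e4e4a09371262344a88b1061f44287b0aa12c2984d08a0ec2183d1662b45a8ab14a26c5189d0ea1ac3986d0c61743285b15e2a4588a714225c4f8990e219c378690be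1643085712221c478891021dc3f87909e1242884707e0e42083726a4b49992b24646c9291d1ea3b4798eb1c636c728dd22a4348990b20a3f4818fb1aa334698cb18a2f4618bb222424879072023e47f8f71a2324678c71822e45f8b725e49c989292424648f9171de39c788e91c23646f8d702602c0a80d005fec027fcfa5f2bea7ccf85eebe27bd0660ac1a82d04a0741181afe5fabfa7ecfc9f73f17db05e09c188290420640f816fddf9bf87e8fc1f63ef7d702202407807001fe3ff7f6fa1f23e77c6f81ee3df7b6f29e2bc978cf05df3c277aea5d33aa74ae89ceba173cf65eb3da7aaf45e73d279aee9dabb976cec9d6bb175cf1de23c8786f01ddbbf778ea1d1ba7748e7dce3a0736f61e9bd77a8f41e5bcf798eddda3b8766ebdd63b0756d69aab596acd49a6b5169cce59b33a66acc59733265ad29a2b4968cd059f34267aca59332a64ac898eb2163cd5daa3586a6d3da6350696ce199b37668cc195b2f658d1da2348686d019db3f678ca191b27648c7d8e320636e69cb39972ae49c739171ade5bab7a6ecdc5b6b726dce29c338970ae05beb826fcda9b33696cad85aeb626bce61ca397726e3dc5b90718dddb9b786e8dc1b636f6d6e21c2387706e01be37f6f6da1b23676c6d81ae35f6b6c698cb1662ac4988b0e61abe97caf65eabc978aee5dac2984b0660ac0980afe5faba974ae65cab8970ade5bac618bb14626c4187b0c61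6be17baf45e6bc177aec5d6c2183b04606c017fafc5f6ba173ae45c6b816fadc5b6314630d11a432c660c919435c6c0be17a308608d51ac34c6a0bc1763646d0c017e338668c4186340678c818e2d05989e13a288508ba1722c8588a9154294530ac1562bc580a41462b4570a814e2d85a8a013e2e05b89c136148288420821402784007e1282485a0b2120238580ae1582a84608a150298440861382683e07a1302583c0760e81c82a0520e01b82804e0c8188220420c01782003e0d81a82604a0d0198240460b81681e03a0b01581c0362404788c1162284488610a2684c89612a2084087e0fa2484888e11a220438841062604b8941262003f87c0f61e83c8760ea1a8348660ca1c83886e0da1883085e0ba1e03b8740e61a0338640c61c03786c0d61802f85c0b60640d0170300540b0140260280480800e018028040060480881001e0380680c01600800001]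

end Cfsg.Agent.TwistedF4Two.MultCert
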