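import Cfsg.Agent.TwistedF4Two.Overgroup
import Cfsg.Agent.TwistedF4Two.MultPoints
import Cfsg.Agent.StemCert.Count

/-!
The Tits group on the numbered points, and the criterion for a trivial multiplier from a
certificate.
-/

set_option autoImplicit false
set_option maxRecDepth 100000

namespace Cfsg.Agent.TwistedF4Two.MultCert

open Cfsg Cfsg.Agent.Compute Cfsg.Agent.StemCert MulAction

attribute [local irreducible] rho toM comp img Cfsg.Lie.chevF4 gen sprodB

/-- The key of a numbered point. -/
noncomputable def key (i : ℕ) : ℕ := keyArr.get 0 i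

/-- The numbered keys belong to points and increase. -/
noncomputable def keysB : Bool :=
  allBelow 1755 (fun i => (ptTree.find (key i)).isSome) &&
    allBelow 1754 (fun i => Nat.blt (key i) (key (Nat.succ i)))

/-- A code describes the action of a matrix on the numbered points. -/
noncomputable def codedB (A : List ℕ) (c : ℕ) : Bool :=
  allBelow 1755 fun i => Nat.blt (getField 11 c i) 1755 &&
    Nat.beq (img A (key i)) (key (getField 11 c i))

/-- The matrices of the four generators. -/
def gMats : List (List ℕ) := [w2M, sprodB pcMats 8, sprodB pcMats 264, w1M]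

/-- The four generators. -/
def gD : ℕ → D
  | 0 => ⟨s2, D_eq_Nz ▸ gens_mem_Nz.2.2⟩
  | 1 => ⟨sprod pc 8, U1_le_D (sprod_mem_U1 rfl)⟩
  | 2 => ⟨sprod pc 264, U1_le_D (sprod_mem_U1 rfl)⟩
  | 3 => ⟨s1, D_eq_Nz ▸ gens_mem_Nz.2.1⟩
  | _ => 1

theorem rep_gD : ∀ s < 4, Rep (gD s : T) (gMats.getD s [])
  | 0, _ => rep_s2
  | 1, _ => rep_pc_prod 8
  | 2, _ => rep_pc_prod 264
  | 3, _ => rep_s1
  | _ + 4, h => absurd h (by omega)

theorem key_mem (h : keysB = true) {i : ℕ} (hi : i < 1755) : key i ∈ ptTree.keys := by
  rw [keysB, Bool.and_eq_true] at h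
  obtain ⟨j, hj⟩ := Option.isSome_iff_exists.1 (allBelow_eq_true.mp h.1 i hi)
  exact PtTree.mem_keys_of_find hj

theorem key_lt_key (h : keysB = true) : ∀ {j : ℕ}, j < 1755 → ∀ i < j, key i < key j := by
  intro j
  induction j with
  | zero => intro _ i hi; omega
  | succ j ih =>
    intro hj i hi
    rw [keysB, Bool.and_eq_true] at h
    have hs : key j < key (Nat.succ j) := by
      simpa [Nat.blt_eq] using allBelow_eq_true.mp h.2 j (by omega)
    rcases Nat.lt_succ_iff_lt_or_eq.1 hi with hlt | rfl
    · exact (ih (by omega) i hlt).trans hs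
    · exact hs

/-- The numbered point. -/
noncomputable def pt (h : keysB = true) (i : Fin 1755) : Pt :=
  ⟨vec (key i), by rw [orbit_hi0]; exact ⟨_, key_mem h i.2, rfl⟩⟩

theorem pt_bijective (h : keysB = true) : Function.Bijective (pt h) := by
  refine (Nat.bijective_iff_injective_and_card _).mpr ⟨fun a b e => ?_, ?_⟩
  · have hlt : ∀ i : Fin 1755, key i < 2 ^ 26 := fun i => by
      simpa using List.all_eq_true.1 pts_ok.2.2.1 _ (key_mem h i.2)
    have he : key a = key b := vec_inj (hlt a) (hlt b) (congrArg Subtype.val e)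
    rcases lt_trichotomy (a : ℕ) b with hc | hc | hc
    · exact absurd he (key_lt_key h b.2 _ hc).ne
    · exact Fin.ext hc
    · exact absurd he (key_lt_key h a.2 _ hc).ne'
  · rw [card_Pt, Nat.card_fin]

/-- The action on the numbered points. -/
noncomputable def iota (h : keysB = true) : D →* Equiv.Perm (Fin 1755) :=
  ((Equiv.ofBijective (pt h) (pt_bijective h)).symm.permCongrHom).toMonoidHom.comp
    (MulAction.toPermHom D Pt)

theorem iota_apply (h : keysB = true) (d : D) (i : Fin 1755) : pt h (iota h d i) = d • pt h i := by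
  show pt h ((Equiv.ofBijective (pt h) (pt_bijective h)).symm (d • pt h i)) = d • pt h i
  exact Equiv.apply_symm_apply (Equiv.ofBijective (pt h) (pt_bijective h)) _

theorem coded_iota (h : keysB = true) {cs : List ℕ}
    (hc : ∀ s < 4, codedB (gMats.getD s []) (cs.getD s 0) = true) :
    Coded (w := 11) (k := 4) (iota h) gD cs := by
  intro s hs x
  have hx := allBelow_eq_true.mp (hc s hs) x x.2
  simp only [Bool.and_eq_true, Nat.blt_eq] at hx
  have e := Nat.eq_of_beq_eq_true hx.2
  have hp : pt h (iota h (gD s) x) = pt h ⟨_, hx.1⟩ := by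
    rw [iota_apply]
    refine Subtype.ext ?_
    rw [coe_D_smul]
    show (gD s : T) • vec (key x) = vec (key _)
    rw [smul_vec (rep_gD s hs)]
    exact congrArg vec e
  exact congrArg Fin.val ((pt_bijective h).1 hp)

/-- The transversal of one level sends the base point to the numbered positions. -/
noncomputable def posLv (w : ℕ) (cs : List ℕ) (L : Lv) (rest : List Lv) (b : ℕ) (P : Arr ℕ) : Bool :=
  fixBelow w cs rest b && allBelow L.size fun j => Nat.beq (P.get 0 (appW w cs (L.word j) b)) j

theorem distinctB_cons {w : ℕ} {cs : List ℕ} {L : Lv} {rest : List Lv} {b : ℕ} {bs : List ℕ}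
    {P : Arr ℕ} (h : posLv w cs L rest b P = true) (h' : distinctB w cs rest bs = true) :
    distinctB w cs (L :: rest) (b :: bs) = true := by
  show (fixBelow w cs rest b &&
      allBelow L.size (fun j =>
        allBelow j (fun j' => !Nat.beq (appW w cs (L.word j) b) (appW w cs (L.word j') b))) &&
      distinctB w cs rest bs) = true
  rw [posLv, Bool.and_eq_true] at h
  rw [Bool.and_eq_true, Bool.and_eq_true]
  refine ⟨⟨h.1, allBelow_eq_true.mpr fun j hj => allBelow_eq_true.mpr fun j' hj' => ?_⟩, h'⟩
  have h1 := Nat.eq_of_beq_eq_true (allBelow_eq_true.mp h.2 j hj)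
  have h2 := Nat.eq_of_beq_eq_true (allBelow_eq_true.mp h.2 j' (hj'.trans hj))
  rw [Bool.not_eq_true', ← Bool.not_eq_true]
  intro hb
  have he := Nat.eq_of_beq_eq_true hb
  rw [he] at h1
  omega

/-- The multiplier is trivial if there is a valid certificate. -/
theorem trivial_of_cert {C : Cert} {cs bs : List ℕ} (hk : keysB = true)
    (hcode : ∀ s < 4, codedB (gMats.getD s []) (cs.getD s 0) = true) (hC : C.Checked 4)
    (hbelow : gensBelow 4 C.D = true) (hlt : ∀ b ∈ bs, b < 1755)
    (hdist : distinctB 11 cs C.D bs = true)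
    (htable : ∀ i < C.D.length, C.tableAt 11 cs bs i = true)
    (hcomm : allBelow 4 (C.commAt 11 cs bs) = true) (hord : C.ord = 1)
    (hcard : numForms C.D = 17971200) (hmd : C.md = 17971200) :
    Cfsg.HasCyclicSchurMultiplier Cfsg.Lie.TitsGroup 1 := by
  have hc := coded_iota hk hcode
  have hn : numForms C.D = Nat.card D := hcard.trans card_D.symm
  have hd : Nat.card D ∣ C.md := by rw [card_D, hmd]
  have hbase := isBase_of_card hc hC.wf hbelow hlt hdist hn
  refine ⟨⟨D, inferInstance, inferInstance, MonoidHom.id D, ⟨Function.surjective_id, ?_, ?_⟩, ?_⟩,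
    fun Γ _ _ σ hσ => ?_⟩
  · rw [MonoidHom.ker_id]; exact bot_le
  · rw [MonoidHom.ker_id]; exact bot_le
  · have : Subsingleton (MonoidHom.id D).ker := by
      rw [MonoidHom.ker_id]; infer_instance
    have : Unique (MonoidHom.id D).ker := uniqueOfSubsingleton 1
    exact ⟨MulEquiv.ofUnique⟩
  · have := kernel_image gD hC
      (tableOK_of_check hc hbase hC.wf hbelow htable)
      (faithful_of_distinct hc hC.wf hbelow hlt hdist)
      (generates_of_card hc hC.wf hbelow hlt hdist hn)
      (commProd_of_check hc hbase hC.pow hbelow hC.comm hcomm) hd σ hσ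
    rwa [hord] at this

end Cfsg.Agent.TwistedF4Two.MultCert
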