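import Cfsg.Agent.TwistedF4Two.MultSplit

/-! Checks on the entries of the multiplier certificate of the Tits group. -/

set_option autoImplicit false
set_option maxHeartbeats 0
set_option maxRecDepth 100000
set_option Elab.async false

namespace Cfsg.Agent.TwistedF4Two.MultCert

open Cfsg.Agent.Compute Cfsg.Agent.StemCert

theorem pvc0_0_0 : rangeB (pvEnt 0 0) 0 = true := by decide +kernel

theorem pvc0_0_1 : rangeB (pvEnt 0 0) 1 = true := by decide +kernel

theorem pvc0_0_2 : rangeB (pvEnt 0 0) 2 = true := by decide +kernel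

theorem pvc0_0_3 : rangeB (pvEnt 0 0) 3 = true := by decide +kernel

theorem pvc0_0_4 : rangeB (pvEnt 0 0) 4 = true := by decide +kernel

theorem pvc0_0 : allBelow 1755 (pvEnt 0 0) = true :=
  allBelow_of_ranges fun q hq => match q, hq with
    | 0, _ => pvc0_0_0
    | 1, _ => pvc0_0_1
    | 2, _ => pvc0_0_2
    | 3, _ => pvc0_0_3
    | 4, _ => pvc0_0_4
    | _ + 5, h => absurd h (by omega)

theorem pvc0_1_0 : rangeB (pvEnt 0 1) 0 = true := by decide +kernel

theorem pvc0_1_1 : rangeB (pvEnt 0 1) 1 = true := by decide +kernel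

theorem pvc0_1_2 : rangeB (pvEnt 0 1) 2 = true := by decide +kernel

theorem pvc0_1_3 : rangeB (pvEnt 0 1) 3 = true := by decide +kernel

theorem pvc0_1_4 : rangeB (pvEnt 0 1) 4 = true := by decide +kernel

theorem pvc0_1 : allBelow 1755 (pvEnt 0 1) = true :=
  allBelow_of_ranges fun q hq => match q, hq with
    | 0, _ => pvc0_1_0
    | 1, _ => pvc0_1_1
    | 2, _ => pvc0_1_2
    | 3, _ => pvc0_1_3
    | 4, _ => pvc0_1_4
    | _ + 5, h => absurd h (by omega)

theorem pvc0_2_0 : rangeB (pvEnt 0 2) 0 = true := by decide +kernel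

theorem pvc0_2_1 : rangeB (pvEnt 0 2) 1 = true := by decide +kernel

theorem pvc0_2_2 : rangeB (pvEnt 0 2) 2 = true := by decide +kernel

theorem pvc0_2_3 : rangeB (pvEnt 0 2) 3 = true := by decide +kernel

theorem pvc0_2_4 : rangeB (pvEnt 0 2) 4 = true := by decide +kernel

theorem pvc0_2 : allBelow 1755 (pvEnt 0 2) = true :=
  allBelow_of_ranges fun q hq => match q, hq with
    | 0, _ => pvc0_2_0
    | 1, _ => pvc0_2_1
    | 2, _ => pvc0_2_2
    | 3, _ => pvc0_2_3
    | 4, _ => pvc0_2_4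
    | _ + 5, h => absurd h (by omega)

theorem pvc0_3_0 : rangeB (pvEnt 0 3) 0 = true := by decide +kernel

theorem pvc0_3_1 : rangeB (pvEnt 0 3) 1 = true := by decide +kernel

theorem pvc0_3_2 : rangeB (pvEnt 0 3) 2 = true := by decide +kernel

theorem pvc0_3_3 : rangeB (pvEnt 0 3) 3 = true := by decide +kernel

theorem pvc0_3_4 : rangeB (pvEnt 0 3) 4 = true := by decide +kernel

theorem pvc0_3 : allBelow 1755 (pvEnt 0 3) = true :=
  allBelow_of_ranges fun q hq => match q, hq with
    | 0, _ => pvc0_3_0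
    | 1, _ => pvc0_3_1
    | 2, _ => pvc0_3_2
    | 3, _ => pvc0_3_3
    | 4, _ => pvc0_3_4
    | _ + 5, h => absurd h (by omega)

end Cfsg.Agent.TwistedF4Two.MultCert
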