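import Cfsg.Agent.TwistedF4Two.MultSplit

/-! Checks on the entries of the multiplier certificate of the Tits group. -/

set_option autoImplicit false
set_option maxHeartbeats 0
set_option maxRecDepth 100000
set_option Elab.async false

namespace Cfsg.Agent.TwistedF4Two.MultCert

open Cfsg.Agent.Compute Cfsg.Agent.StemCert

theorem lv1_0 : allBelow (lvAt cert.D 1).size (cert.entP pvs 1 0) = true := by decide +kernel

theorem lv1_1 : allBelow (lvAt cert.D 1).size (cert.entP pvs 1 1) = true := by decide +kernel

theorem lv1_2 : allBelow (lvAt cert.D 1).size (cert.entP pvs 1 2) = true := by decide +kernel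

theorem pv1_ok : cert.pvOK pvs 1 = true := by decide +kernel

theorem pv2_ok : cert.pvOK pvs 2 = true := by decide +kernel

end Cfsg.Agent.TwistedF4Two.MultCert
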