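import Cfsg.Agent.TwistedF4Two.MultGlue
import Cfsg.Agent.TwistedF4Two.MultCheckE0
import Cfsg.Agent.TwistedF4Two.MultCheckE1
import Cfsg.Agent.TwistedF4Two.MultCheckE2
import Cfsg.Agent.TwistedF4Two.MultCheckE3
import Cfsg.Agent.TwistedF4Two.MultCheckP
import Cfsg.Agent.TwistedF4Two.MultCheckQ

/-! The multiplier of the Tits group is trivial: the remaining checks of the certificate. -/

set_option autoImplicit false
set_option maxHeartbeats 0
set_option maxRecDepth 100000
set_option Elab.async false

namespace Cfsg.Agent.TwistedF4Two.MultCert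

open Cfsg Cfsg.Agent.Compute Cfsg.Agent.StemCert

theorem keys_ok : keysB = true := by decide +kernel
theorem code0_ok : codedB (gMats.getD 0 []) (codes.getD 0 0) = true := by decide +kernel
theorem code1_ok : codedB (gMats.getD 1 []) (codes.getD 1 0) = true := by decide +kernel
theorem code2_ok : codedB (gMats.getD 2 []) (codes.getD 2 0) = true := by decide +kernel
theorem code3_ok : codedB (gMats.getD 3 []) (codes.getD 3 0) = true := by decide +kernel
theorem wf_ok : wfB cert.D = true := by decide +kernel
theorem top_ok : cert.topOK 4 = true := by decide +kernel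
theorem rel_ok : allBelow cert.nRel cert.relOK = true := by decide +kernel
theorem pow_ok : allBelow 4 cert.powOK = true := by decide +kernel
theorem commData_ok : allBelow 4 cert.commOK = true := by decide +kernel
theorem bound_ok : cert.boundP = true := by decide +kernel
theorem lv2_ok : cert.lvP pvs 2 = true := by decide +kernel
theorem row_ok : allB cert.rowOK cert.rows = true := by decide +kernel
theorem rows_ok : cert.rowsP pvs cert.rows rowVals = true := by decide +kernel
theorem basisP_ok : allBelow cert.dim (cert.basisP rowVals) = true := by decide +kernel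
theorem ordP_ok : cert.ordP rowVals = true := by decide +kernel
theorem below_ok : gensBelow 4 cert.D = true := by decide +kernel
theorem blt_ok : allB (fun b => Nat.blt b 1755) base = true := by decide +kernel
theorem table_ok : allBelow 3 (cert.tableAt 11 codes base) = true := by decide +kernel
theorem comm_ok : allBelow 4 (cert.commAt 11 codes base) = true := by decide +kernel
theorem pos0_ok :
    posLv 11 codes (lvAt cert.D 0) [lvAt cert.D 1, lvAt cert.D 2] 731 posArr0 = true := by
  decide +kernel
theorem pos1_ok : posLv 11 codes (lvAt cert.D 1) [lvAt cert.D 2] 0 posArr1 = true := by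
  decide +kernel
theorem pos2_ok : posLv 11 codes (lvAt cert.D 2) [] 19 posArr2 = true := by decide +kernel
theorem shape_ok : cert.D.length = 3 ∧ cert.ord = 1 ∧ 0 < cert.ord := by decide +kernel
theorem size_ok : numForms cert.D = 17971200 ∧ cert.md = 17971200 := by decide +kernel
theorem md_pos : 0 < cert.md := by decide +kernel

theorem distinct_ok : distinctB 11 codes cert.D base = true := by
  show distinctB 11 codes [lvAt cert.D 0, lvAt cert.D 1, lvAt cert.D 2] [731, 0, 19] = true
  exact distinctB_cons pos0_ok (distinctB_cons pos1_ok (distinctB_cons pos2_ok rfl))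

theorem lv0_gens : (lvAt cert.D 0).gens = [0, 1, 2, 3] := rfl

theorem lv1_gens : (lvAt cert.D 1).gens = [0, 1, 2] := rfl

theorem lv0_ok : cert.lvP pvs 0 = true := lvP_of_gens cert fun s hs => by
  rw [lv0_gens] at hs
  simp only [List.mem_cons, List.not_mem_nil, or_false] at hs
  rcases hs with rfl | rfl | rfl | rfl
  all_goals rw [show (lvAt cert.D 0).size = 1755 from rfl]
  exacts [lv0_0, lv0_1, lv0_2, lv0_3]

theorem lv1_ok : cert.lvP pvs 1 = true := lvP_of_gens cert fun s hs => by
  rw [lv1_gens] at hs
  simp only [List.mem_cons, List.not_mem_nil, or_false] at hs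
  rcases hs with rfl | rfl | rfl
  exacts [lv1_0, lv1_1, lv1_2]

theorem allB_of_mem {f : ℕ → Bool} : ∀ {l : List ℕ}, (∀ a ∈ l, f a = true) → allB f l = true
  | [], _ => rfl
  | a :: l, h => by
    show (f a && allB f l) = true
    rw [h a List.mem_cons_self, allB_of_mem fun x hx => h x (List.mem_cons_of_mem _ hx)]
    rfl

theorem lv0_size : (lvAt cert.D 0).size = 1755 := rfl

theorem pv0_ok : cert.pvOK pvs 0 = true := by
  refine allB_of_mem (fun s hs => ?_)
  rw [lv0_gens] at hs
  rw [lv0_size]
  simp only [List.mem_cons, List.not_mem_nil, or_false] at hs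
  rcases hs with rfl | rfl | rfl | rfl
  exacts [pvc0_0, pvc0_1, pvc0_2, pvc0_3]

theorem pvs_ok : ∀ i < cert.D.length, cert.pvOK pvs i = true := fun i hi => by
  rw [shape_ok.1] at hi
  interval_cases i
  exacts [pv0_ok, pv1_ok, pv2_ok]

theorem checked : cert.Checked 4 :=
  { wf := wf_ok, top := top_ok, rel := rel_ok, pow := pow_ok, comm := commData_ok
    lv := fun i hi => by
      rw [shape_ok.1] at hi
      interval_cases i
      all_goals apply lvOK_of_lvP cert md_pos pvs_ok
      exacts [lv0_ok, lv1_ok, lv2_ok]
    row := row_ok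
    basis := allBelow_eq_true.mpr fun j hj =>
      basisOK_of_basisP cert bound_ok pvs_ok rows_ok (allBelow_eq_true.mp basisP_ok j hj)
    order := ordOK_of_ordP cert bound_ok pvs_ok rows_ok ordP_ok
    piv_lt := shape_ok.2.2 }

theorem codes_ok : ∀ s < 4, codedB (gMats.getD s []) (codes.getD s 0) = true := fun s hs => by
  interval_cases s
  exacts [code0_ok, code1_ok, code2_ok, code3_ok]

theorem multiplier : Cfsg.HasCyclicSchurMultiplier Cfsg.Lie.TitsGroup 1 :=
  trivial_of_cert keys_ok codes_ok checked below_ok
    (fun b hb => by simpa [Nat.blt_eq] using allB_spec blt_ok b hb) distinct_ok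
    (fun i hi => allBelow_eq_true.mp table_ok i (shape_ok.1 ▸ hi)) comm_ok shape_ok.2.1
    size_ok.1 size_ok.2

end Cfsg.Agent.TwistedF4Two.MultCert
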