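import Cfsg.Agent.TwistedF4Two.Gen
import Cfsg.Agent.Coprime.Tools

/-!
# The action of the Tits group on the points

It is primitive and faithful; the Tits group is simple.
-/

set_option autoImplicit false
set_option maxRecDepth 100000

namespace Cfsg.Agent.TwistedF4Two

open scoped Matrix
open scoped Pointwise
open scoped commutatorElement
open MulAction

attribute [local irreducible] rho toM comp img Cfsg.Lie.chevF4 gen

/-! ### The points -/

/-- The points. -/
abbrev Pt : Type := orbit T hi0

/-- The base point. -/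
def pt0 : Pt := ⟨hi0, mem_orbit_self hi0⟩

theorem card_Pt : Nat.card Pt = 1755 := by
  rw [Nat.card_coe_set_eq]; exact ncard_orbit_hi0

theorem coe_D_smul (d : D) (p : Pt) : ((d • p : Pt) : Vec) = (d : T) • (p : Vec) := rfl

theorem smul_pt0_of_mem {g : T} (hg : g ∈ PT) : g • pt0 = pt0 := Subtype.ext (by
  have h : g ∈ stabilizer T hi0 := stabilizer_hi0 ▸ hg
  exact h)

theorem exists_D_smul (p : Pt) : ∃ d : D, d • pt0 = p := by
  obtain ⟨g, hg⟩ := p.2
  rcases mem_D_or g with h | ⟨n, hn, rfl⟩
  · exact ⟨⟨g, h⟩, Subtype.ext hg⟩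
  · refine ⟨⟨n, hn⟩, Subtype.ext ?_⟩
    show n • hi0 = p.1
    rw [← hg]
    show n • hi0 = (n * pc.getD 0 1) • hi0
    rw [mul_smul, smul_hi0 (pc_getD_mem 0)]

instance pretransitive_D : IsPretransitive D Pt where
  exists_smul_eq a b := by
    obtain ⟨x, hx⟩ := exists_D_smul a
    obtain ⟨y, hy⟩ := exists_D_smul b
    exact ⟨y * x⁻¹, by rw [mul_smul, ← hx, inv_smul_smul, hy]⟩

theorem pc_tail_PT {i : ℕ} (hi : 1 ≤ i) (hi' : i < 12) : pc.getD i 1 ∈ D ∧ pc.getD i 1 ∈ PT :=
  ⟨D_eq_Nz ▸ gens_mem_Nz.1 i hi hi', UT_le_PT (pc_getD_mem i)⟩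

/-- The class of a point under the stabiliser. -/
def clsB (k : ℕ) : ℕ :=
  match ptTree.find k with
  | none => 5
  | some i => i.cls

/-- The test of a point in the class tree. -/
def clsOkB (k : ℕ) : Bool :=
  match ptTree.find k with
  | none => false
  | some i => decide (i.cls < 5) && ((i.dep2 == 0 && k == (classReps.getD i.cls (0, 0)).1) ||
      match ptTree.find i.par2 with
      | none => false
      | some j => decide (j.dep2 < i.dep2) && j.cls == i.cls && decide (i.gen2 < 12) &&
          img ((pcMats.drop 1 ++ [w2M]).getD i.gen2 []) i.par2 == k)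

theorem cls_ok : ptTree.keys.all clsOkB = true := by decide +kernel

theorem cls_count : ∀ b : Fin 16,
    (ptTree.keys.filter fun k => clsB k == 0 || (b : ℕ).testBit (clsB k - 1)).length = 1 ∨
    (ptTree.keys.filter fun k => clsB k == 0 || (b : ℕ).testBit (clsB k - 1)).length = 1755 ∨
    1755 % (ptTree.keys.filter fun k => clsB k == 0 || (b : ℕ).testBit (clsB k - 1)).length ≠ 0 := by
  decide +kernel

theorem cls_base : classReps.getD 0 (0, 0) = (2 ^ 25, 1) := by decide

theorem rep_stab_gen {j : ℕ} (hj : j < 12) : ∃ g : D, (g : T) ∈ PT ∧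
    Rep (g : T) ((pcMats.drop 1 ++ [w2M]).getD j []) := by
  have hl : (pcMats.drop 1).length = 11 := by rw [List.length_drop, pcMats_length]
  by_cases h : j < 11
  · refine ⟨⟨pc.getD (1 + j) 1, (pc_tail_PT (by omega) (by omega)).1⟩,
      (pc_tail_PT (by omega) (by omega)).2, ?_⟩
    show Rep (pc.getD (1 + j) 1) _
    have hj' : j < (pcMats.drop 1).length := by rw [hl]; exact h
    rw [List.getD_append _ _ _ _ hj', List.getD_eq_getElem _ _ hj', List.getElem_drop,
      ← List.getD_eq_getElem _ []]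
    exact rep_pc' (by omega)
  · obtain rfl : j = 11 := by omega
    refine ⟨⟨s2, D_eq_Nz ▸ gens_mem_Nz.2.2⟩, s2_mem_PT, ?_⟩
    rw [List.getD_append_right _ _ _ _ (by rw [hl]), hl]
    exact rep_s2

theorem testBit_enc (p : Fin 4 → Bool) (i : Fin 4) :
    ((if p 0 then 1 else 0) + (if p 1 then 2 else 0) + (if p 2 then 4 else 0) +
      (if p 3 then 8 else 0) : ℕ).testBit (i : ℕ) = p i := by
  revert p i; decide

open Classical in
instance preprimitive_D : IsPreprimitive D Pt := by
  refine IsPreprimitive.of_isTrivialBlock_base pt0 fun {B} h0 hB => ?_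
  have hinv : ∀ g : D, (g : T) ∈ PT → ∀ p : Pt, g • p ∈ B ↔ p ∈ B := fun g hg p => by
    have e : g • B = B := hB.smul_eq_of_mem h0 (by rw [Subgroup.smul_def, smul_pt0_of_mem hg]; exact h0)
    conv_lhs => rw [← e]
    exact Set.smul_mem_smul_set_iff
  have hkey : ∀ k ∈ ptTree.keys, vec k ∈ orbit T hi0 := fun k hk => by
    rw [orbit_hi0]; exact ⟨k, hk, rfl⟩
  let Bv : ℕ → Prop := fun k => ∀ h : vec k ∈ orbit T hi0, (⟨vec k, h⟩ : Pt) ∈ B
  have hclass : ∀ n k i, ptTree.find k = some i → i.dep2 = n →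
      i.cls < 5 ∧ (Bv k ↔ Bv (classReps.getD i.cls (0, 0)).1) := by
    intro n
    induction n using Nat.strong_induction_on with
    | _ n ih =>
      intro k i hi hn
      have hk := PtTree.mem_keys_of_find hi
      have h := List.all_eq_true.1 cls_ok k hk
      simp only [clsOkB, hi, Bool.or_eq_true, Bool.and_eq_true, beq_iff_eq, decide_eq_true_eq] at h
      refine ⟨h.1, ?_⟩
      rcases h.2 with ⟨-, rfl⟩ | h
      · exact Iff.rfl
      · split at h
        · exact absurd h (by simp)
        · next j hj =>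
          simp only [Bool.and_eq_true, decide_eq_true_eq, beq_iff_eq] at h
          obtain ⟨⟨⟨h1, h2⟩, h3⟩, h4⟩ := h
          obtain ⟨-, hiff⟩ := ih j.dep2 (hn ▸ h1) i.par2 j hj rfl
          obtain ⟨g, hg, hr⟩ := rep_stab_gen h3
          rw [← h2, ← hiff]
          have hk' := hkey k hk
          have hp' := hkey i.par2 (PtTree.mem_keys_of_find hj)
          have e : g • (⟨vec i.par2, hp'⟩ : Pt) = ⟨vec k, hk'⟩ := Subtype.ext (by
            show (g : T) • vec i.par2 = vec k
            rw [smul_vec hr, h4])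
          constructor
          · intro hb _
            exact (hinv g hg _).1 (e ▸ hb hk')
          · intro hb _
            exact e ▸ (hinv g hg _).2 (hb hp')
  have hclsB : ∀ k ∈ ptTree.keys, clsB k < 5 ∧ (Bv k ↔ Bv (classReps.getD (clsB k) (0, 0)).1) := by
    intro k hk
    have h := List.all_eq_true.1 cls_ok k hk
    simp only [clsOkB] at h
    split at h
    · exact absurd h (by simp)
    · next i hi =>
      simp only [clsB, hi]
      exact hclass _ k i hi rfl
  let f : Fin 4 → Bool := fun i => decide (Bv (classReps.getD ((i : ℕ) + 1) (0, 0)).1)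
  obtain ⟨b, hb⟩ : ∃ b : ℕ, ((if f 0 then 1 else 0) + (if f 1 then 2 else 0) +
      (if f 2 then 4 else 0) + (if f 3 then 8 else 0)) = b := ⟨_, rfl⟩
  have hbit : ∀ i : Fin 4, b.testBit (i : ℕ) = f i := fun i => hb ▸ testBit_enc f i
  have hb16 : b < 16 := by
    rw [← hb]; clear_value f; cases f 0 <;> cases f 1 <;> cases f 2 <;> cases f 3 <;> decide
  set L := ptTree.keys.filter fun k => clsB k == 0 || b.testBit (clsB k - 1) with hL
  have hmem : ∀ k ∈ ptTree.keys, (Bv k ↔ k ∈ L) := by
    intro k hk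
    obtain ⟨hc, hiff⟩ := hclsB k hk
    rw [hiff, hL, List.mem_filter, and_iff_right hk]
    rcases Nat.eq_zero_or_pos (clsB k) with e | e
    · rw [e, cls_base]
      exact iff_of_true (fun _ => h0) rfl
    · have hi : clsB k - 1 < 4 := by omega
      rw [hbit ⟨_, hi⟩, show (clsB k == 0) = false from beq_false_of_ne (by omega), Bool.false_or]
      show _ ↔ decide _ = true
      rw [decide_eq_true_iff, show clsB k - 1 + 1 = clsB k by omega]
  have hB' : ∀ p : Pt, p ∈ B ↔ (p : Vec) ∈ vecSet L := by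
    rintro ⟨v, hv⟩
    obtain ⟨k, hk, rfl⟩ : v ∈ vecSet ptTree.keys := orbit_hi0 ▸ hv
    refine ⟨fun hp => ⟨k, (hmem k hk).1 fun _ => hp, rfl⟩, ?_⟩
    rintro ⟨a, ha, e⟩
    have hlt : ∀ a ∈ ptTree.keys, a < 2 ^ 26 := fun a ha => by
      simpa using List.all_eq_true.1 pts_ok.2.2.1 a ha
    obtain rfl := vec_inj (hlt k hk) (hlt a (List.mem_filter.1 ha).1) e
    exact (hmem k hk).2 ha hv
  have hncard : B.ncard = L.length := by
    have e : Subtype.val '' B = vecSet L := by
      ext v
      constructor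
      · rintro ⟨p, hp, rfl⟩; exact (hB' p).1 hp
      · rintro ⟨a, ha, rfl⟩
        exact ⟨⟨vec a, hkey a (List.mem_filter.1 ha).1⟩, (hB' _).2 ⟨a, ha, rfl⟩, rfl⟩
    rw [← Set.ncard_image_of_injective B Subtype.val_injective, e,
      ncard_vecSet ((nodup_of_incB pts_ok.1).1.filter _)
        (fun a ha => by simpa using List.all_eq_true.1 pts_ok.2.2.1 a (List.mem_filter.1 ha).1)]
  rcases cls_count ⟨b, hb16⟩ with h | h | h
  · exact Or.inl (Set.subsingleton_iff_singleton h0 |>.2 (by
      obtain ⟨p, hp⟩ := Set.ncard_eq_one.1 (hncard.trans h)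
      rw [hp] at h0 ⊢
      rw [Set.mem_singleton_iff.1 h0]))
  · refine Or.inr (Set.eq_univ_iff_ncard B |>.2 ?_)
    rw [hncard, card_Pt]; exact h
  · refine absurd ?_ h
    have := hB.ncard_dvd_card ⟨pt0, h0⟩
    rw [hncard, card_Pt] at this
    exact Nat.mod_eq_zero_of_dvd this

/-! ### Faithfulness and simplicity -/

theorem span_ok : ∀ c : Fin 26, (spanPts.getD (c : ℕ) []).foldr (· ^^^ ·) 0 = 2 ^ (c : ℕ) ∧
    (spanPts.getD (c : ℕ) []).all (fun a => (ptTree.find a).isSome) = true := by decide +kernel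

instance faithful_D : FaithfulSMul D Pt := by
  refine ⟨fun {a b} h => ?_⟩
  have hfix : ∀ v ∈ vecSet ptTree.keys, (b⁻¹ * a : D).1 • v = v := by
    intro v hv
    rw [← orbit_hi0] at hv
    have h1 := h ⟨v, hv⟩
    have h2 : (b⁻¹ * a) • (⟨v, hv⟩ : Pt) = ⟨v, hv⟩ := by rw [mul_smul, h1, inv_smul_smul]
    have h3 := congrArg Subtype.val h2
    rw [coe_D_smul] at h3
    exact h3
  set g : T := ((b⁻¹ * a : D) : T)
  have hg : rho g = 1 := by
    ext r c
    obtain ⟨h1, h2⟩ := span_ok c
    have hfold : ∀ l : List ℕ, (∀ x ∈ l, vec x ∈ vecSet ptTree.keys) →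
        g • vec (l.foldr (· ^^^ ·) 0) = vec (l.foldr (· ^^^ ·) 0) := by
      intro l
      induction l with
      | nil =>
        intro _
        have hz : (vec 0).val = 0 := by funext i; simp [vec, toV, bit]
        refine Vec.ext ?_
        rw [smul_val, List.foldr_nil, hz, Matrix.mulVec_zero]
      | cons x l ih =>
        intro hl
        have hx := congrArg Vec.val (hfix _ (hl x List.mem_cons_self))
        have hl' := congrArg Vec.val (ih fun y hy => hl y (List.mem_cons_of_mem _ hy))
        have hsum : ∀ p q : ℕ, (vec (p ^^^ q)).val = (vec p).val + (vec q).val := fun p q => by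
          funext i; exact bit_xor p q i
        refine Vec.ext ?_
        rw [smul_val] at hx hl' ⊢
        rw [List.foldr_cons, hsum, Matrix.mulVec_add, hx, hl']
    have hc := congrFun (congrArg Vec.val (hfold _ fun x hx => by
      obtain ⟨i, hi⟩ := Option.isSome_iff_exists.1 (List.all_eq_true.1 h2 x hx)
      exact ⟨x, PtTree.mem_keys_of_find hi, rfl⟩)) r
    rw [h1, smul_val, vec_pow_apply] at hc
    simp only [Matrix.mulVec, dotProduct] at hc
    rw [Finset.sum_eq_single c (fun d _ hd => by
      rw [vec_pow_apply, if_neg (fun e => hd (Fin.ext e.symm)), mul_zero]) (by simp),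
      vec_pow_apply, if_pos rfl, mul_one] at hc
    rw [hc, Matrix.one_apply]
    by_cases hrc : r = c
    · subst hrc; simp
    · rw [if_neg hrc, if_neg (fun e => hrc (Fin.ext e.symm))]
  have hg1 : g = 1 := rho_injective (hg.trans (map_one rho).symm)
  exact (inv_mul_eq_one.1 (Subtype.ext hg1 : (b⁻¹ * a : D) = 1)).symm

theorem commute_zT {g : T} (hg : g ∈ PT) : g * zT = zT * g := by
  have h : PT ≤ Subgroup.centralizer {zT} := by
    refine (Subgroup.closure_le _).2 fun x hx => ?_
    rw [SetLike.mem_coe, Subgroup.mem_centralizer_singleton_iff]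
    rcases List.mem_append.1 hx with hx | hx
    · obtain ⟨i, hi, -, hr⟩ := rep_of_mem_pc hx
      exact ((hr.mul rep_zT).eq (rep_zT.mul hr) (gen_wits_ok.2.2.2.2.2.2.2.2.2.2.2.2.2.2.1 ⟨i, hi⟩).symm)
    · rw [List.mem_singleton] at hx
      subst hx
      exact ((rep_s2.mul rep_zT).eq (rep_zT.mul rep_s2) gen_wits_ok.2.2.2.2.2.2.2.2.2.2.2.2.2.2.2.symm)
  exact Subgroup.mem_centralizer_singleton_iff.1 (h hg)

/-- The central involution in the derived group. -/
def zD : D := ⟨zT, zT_mem_D⟩

theorem conj_zD_eq {d d' : D} (h : d • pt0 = d' • pt0) : d * zD * d⁻¹ = d' * zD * d'⁻¹ := by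
  have hs : ((d'⁻¹ * d : D) : T) ∈ PT := by
    rw [← stabilizer_hi0]
    have : (d'⁻¹ * d) • pt0 = pt0 := by rw [mul_smul, h, inv_smul_smul]
    have h3 := congrArg Subtype.val this
    rw [coe_D_smul] at h3
    exact h3
  have e : d'⁻¹ * d * zD = zD * (d'⁻¹ * d) := Subtype.ext (commute_zT hs)
  calc d * zD * d⁻¹ = d' * (d'⁻¹ * d * zD) * d⁻¹ := by group
    _ = d' * zD * d'⁻¹ := by rw [e]; group

/-- The structure for the simplicity criterion. -/
noncomputable def iwasawa : IwasawaStructure D Pt where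
  T p := Subgroup.zpowers ((exists_D_smul p).choose * zD * (exists_D_smul p).choose⁻¹)
  is_comm p := inferInstance
  is_conj g p := by
    have e : (exists_D_smul (g • p)).choose * zD * (exists_D_smul (g • p)).choose⁻¹ =
        g * ((exists_D_smul p).choose * zD * (exists_D_smul p).choose⁻¹) * g⁻¹ := by
      rw [conj_zD_eq (d' := g * (exists_D_smul p).choose) (by
        rw [(exists_D_smul (g • p)).choose_spec, mul_smul, (exists_D_smul p).choose_spec])]
      group
    rw [e, Coprime.conj_smul_eq_map, MonoidHom.map_zpowers]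
    simp
  is_generator := by
    refine Subgroup.map_injective D.subtype_injective (le_antisymm (Subgroup.map_mono le_top) ?_)
    rw [← MonoidHom.range_eq_map, Subgroup.range_subtype]
    refine le_trans D_eq_Nz.le ((Subgroup.closure_le _).2 fun y hy => ?_)
    obtain ⟨a, rfl, hc⟩ := Group.mem_conjugatesOfSet_iff.1 hy
    obtain ⟨g, rfl⟩ := isConj_iff.1 hc
    obtain ⟨d, hd⟩ : ∃ d : D, (d : T) * zT * (d : T)⁻¹ = g * zT * g⁻¹ := by
      rcases mem_D_or g with h | ⟨n, hn, rfl⟩
      · exact ⟨⟨g, h⟩, rfl⟩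
      · refine ⟨⟨n, hn⟩, ?_⟩
        have := commute_zT (UT_le_PT (pc_getD_mem 0))
        calc n * zT * n⁻¹ = n * (zT * pc.getD 0 1) * ((pc.getD 0 1)⁻¹ * n⁻¹) := by group
          _ = _ := by rw [← this]; group
    refine ⟨d * zD * d⁻¹, Subgroup.mem_iSup_of_mem (d • pt0) ?_, hd⟩
    rw [conj_zD_eq (d := d) (d' := (exists_D_smul (d • pt0)).choose)
      (exists_D_smul (d • pt0)).choose_spec.symm]
    exact Subgroup.mem_zpowers _

theorem commutator_D : commutator D = ⊤ := by
  refine Subgroup.map_injective D.subtype_injective (le_antisymm (Subgroup.map_mono le_top) ?_)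
  rw [← MonoidHom.range_eq_map, Subgroup.range_subtype, Subgroup.map_subtype_commutator]
  refine le_trans D_eq_Nz.le (Subgroup.normalClosure_le_normal (Set.singleton_subset_iff.2 ?_))
  have h7 := (pc_tail_PT (i := 7) (by norm_num) (by norm_num)).1
  have h8 := (pc_tail_PT (i := 8) (by norm_num) (by norm_num)).1
  have e := ((rep_pc' (k := 8) (by norm_num)).mul (rep_pc' (k := 7) (by norm_num))).eq
    (rep_zT.mul ((rep_pc' (k := 7) (by norm_num)).mul (rep_pc' (k := 8) (by norm_num))))
    gen_wits_ok.2.2.2.2.2.2.2.2.2.2.2.2.2.1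
  have hc : ⁅pc.getD 8 1, pc.getD 7 1⁆ = zT := by
    rw [commutatorElement_def, e]; group
  rw [← hc]
  exact Subgroup.commutator_mem_commutator h8 h7

instance nontrivial_D : Nontrivial D := by
  rw [← Finite.one_lt_card_iff_nontrivial, card_D]; norm_num

theorem isSimpleGroup_D : IsSimpleGroup D :=
  iwasawa.isSimpleGroup commutator_D faithful_D

theorem not_comm_D : ¬ IsMulCommutative D := by
  intro h
  have : commutator D = ⊥ := by
    rw [commutator_def, Subgroup.commutator_eq_bot_iff_le_centralizer]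
    intro x _ y _
    exact h.is_comm.comm y x
  rw [commutator_D] at this
  exact (bot_ne_top (α := Subgroup D)) this.symm

end Cfsg.Agent.TwistedF4Two
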