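import Mathlib

/-!
# Counting lemmas for doubly transitive actions
-/

set_option autoImplicit false

namespace Cfsg.Agent.TwistedF4Two.TwoTrans

open MulAction

variable {G : Type*} [Group G] {Ω : Type*} [MulAction G Ω]

/-- The number of ordered pairs of distinct points divides the order. -/
theorem mul_pred_dvd_card [Finite Ω] [IsMultiplyPretransitive G Ω 2]
    (hn : 2 ≤ Nat.card Ω) : Nat.card Ω * (Nat.card Ω - 1) ∣ Nat.card G := by
  have : Fintype Ω := Fintype.ofFinite Ω
  rw [Nat.card_eq_fintype_card] at hn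
  obtain ⟨e⟩ : Nonempty (Fin 2 ↪ Ω) :=
    Function.Embedding.nonempty_of_card_le (by rw [Fintype.card_fin]; exact hn)
  have h := index_stabilizer_of_transitive (G := G) e
  rw [Nat.card_eq_fintype_card (α := Fin 2 ↪ Ω), Fintype.card_embedding_eq, Fintype.card_fin] at h
  have e2 : (Fintype.card Ω).descFactorial 2 = Fintype.card Ω * (Fintype.card Ω - 1) := by
    simp [Nat.descFactorial, mul_comm]
  rw [Nat.card_eq_fintype_card, ← e2, ← h]
  exact Subgroup.index_dvd_card _

/-- The number of points moved by an element. -/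
noncomputable def moved (Ω : Type*) [MulAction G Ω] (z : G) : ℕ := Nat.card {a : Ω // z • a ≠ a}

theorem moved_add_fixed [Finite Ω] (z : G) :
    moved Ω z + Nat.card {a : Ω // z • a = a} = Nat.card Ω := by
  classical
  rw [moved, add_comm, ← Nat.card_sum]
  exact Nat.card_congr (Equiv.sumCompl fun a : Ω => z • a = a)

theorem moved_pos [Finite Ω] [FaithfulSMul G Ω] {z : G} (hz : z ≠ 1) : 0 < moved Ω z := by
  obtain ⟨a, ha⟩ : ∃ a : Ω, z • a ≠ a := by
    by_contra h
    push Not at h
    exact hz (FaithfulSMul.eq_of_smul_eq_smul (α := Ω) fun a => by rw [h a, one_smul])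
  exact Nat.card_pos_iff.2 ⟨⟨⟨a, ha⟩⟩, inferInstance⟩

theorem moved_conj (g z : G) : moved Ω (g * z * g⁻¹) = moved Ω z := by
  refine Nat.card_congr (((MulAction.toPerm g : Equiv.Perm Ω).subtypeEquiv fun a => ?_).symm)
  simp [mul_smul]

theorem pow_eight_fixed {x : G} (hx : x ^ 16 = 1) {i : ℕ} (hi : i % 16 ≠ 0) {a : Ω}
    (h : x ^ i • a = a) : x ^ 8 • a = a := by
  obtain ⟨m, hm⟩ : ∃ m : ℕ, i * m % 16 = 8 := by
    have key : ∀ r : Fin 16, (r : ℕ) ≠ 0 → ∃ m : Fin 16, (r : ℕ) * m % 16 = 8 := by decide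
    obtain ⟨m, hm⟩ := key ⟨i % 16, Nat.mod_lt _ (by norm_num)⟩ hi
    simp only at hm
    exact ⟨m, by rwa [Nat.mod_mul_mod] at hm⟩
  have e : ∀ k : ℕ, (x ^ i) ^ k • a = a := fun k => by
    induction k with
    | zero => rw [pow_zero, one_smul]
    | succ k ih => rw [pow_succ', mul_smul, ih, h]
  have := e m
  rwa [← pow_mul, pow_eq_pow_mod _ hx, hm] at this

theorem pow_smul_inj {x : G} (hx : x ^ 16 = 1) {a : Ω} (ha : x ^ 8 • a ≠ a) :
    Function.Injective fun i : Fin 16 => x ^ (i : ℕ) • a := by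
  intro i j h
  simp only at h
  by_contra hne
  refine ha (pow_eight_fixed hx (i := (j : ℕ) + (16 - i)) (by omega) ?_)
  rw [add_comm, pow_add, mul_smul, ← h, ← mul_smul, ← pow_add, Nat.sub_add_cancel i.2.le, hx, one_smul]

theorem dvd_moved [Finite Ω] {x : G} (hx : x ^ 16 = 1) : 16 ∣ moved Ω (x ^ 8) := by
  let C := Subgroup.zpowers x
  have hc : ∀ c : C, ∃ k : ℕ, (c : G) = x ^ k := fun c => by
    have hf : IsOfFinOrder x := isOfFinOrder_iff_pow_eq_one.2 ⟨16, by norm_num, hx⟩
    obtain ⟨k, hk⟩ := (IsOfFinOrder.mem_powers_iff_mem_zpowers hf).2 c.2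
    exact ⟨k, hk.symm⟩
  let A : SubMulAction C Ω :=
    { carrier := {a | x ^ 8 • a ≠ a}
      smul_mem' := fun c a ha e => ha (by
        obtain ⟨k, hk⟩ := hc c
        change x ^ 8 • (c : G) • a = (c : G) • a at e
        rw [hk, ← mul_smul, ← pow_add, add_comm, pow_add, mul_smul] at e
        exact smul_left_cancel _ e) }
  rcases isEmpty_or_nonempty A with h | ⟨⟨a, ha⟩⟩
  · rw [show moved Ω (x ^ 8) = Nat.card A from rfl, Nat.card_of_isEmpty]; exact dvd_zero _
  have hstab : ∀ b : A, stabilizer C b = ⊥ := fun b => by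
    refine (Subgroup.eq_bot_iff_forall _).2 fun c hcb => ?_
    obtain ⟨k, hk⟩ := hc c
    have e : x ^ k • (b : Ω) = b := hk ▸ congrArg Subtype.val hcb
    refine Subtype.ext ?_
    rw [hk, pow_eq_pow_mod _ hx]
    by_contra hne
    have hk0 : k % 16 ≠ 0 := fun h => hne (by rw [h, pow_zero]; rfl)
    exact b.2 (pow_eight_fixed hx hk0 e)
  have hcard : Nat.card C = 16 := by
    rw [Nat.card_zpowers]
    refine orderOf_eq_prime_pow (p := 2) (n := 3) (fun h => ha ?_) (by simpa using hx)
    rw [show (2 : ℕ) ^ 3 = 8 by norm_num] at h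
    rw [h, one_smul]
  rw [show moved Ω (x ^ 8) = Nat.card A from rfl,
    Nat.card_congr (selfEquivOrbitsQuotientProd hstab), Nat.card_prod, hcard]
  exact dvd_mul_left _ _

/-- An element of order sixteen with all points moved by its eighth power is odd on sixteen points. -/
theorem sign_eq_neg_one [Fintype Ω] [DecidableEq Ω] {x : G} (hx : x ^ 16 = 1)
    (hn : Fintype.card Ω = 16) (hall : ∀ a : Ω, x ^ 8 • a ≠ a) :
    Equiv.Perm.sign (toPermHom G Ω x) = -1 := by
  set σ := toPermHom G Ω x with hσ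
  have hσk : ∀ (k : ℕ) (a : Ω), (σ ^ k) a = x ^ k • a := fun k a => by rw [hσ, ← map_pow]; rfl
  have hmove : ∀ a, σ a ≠ a := fun a e => hall a (pow_eight_fixed hx (i := 1) (by norm_num) (by
    rw [pow_one]; exact e))
  obtain ⟨a⟩ : Nonempty Ω := Fintype.card_pos_iff.1 (by rw [hn]; norm_num)
  have hsurj : Function.Surjective fun i : Fin 16 => x ^ (i : ℕ) • a :=
    ((Fintype.bijective_iff_injective_and_card _).2
      ⟨pow_smul_inj hx (hall a), by rw [Fintype.card_fin, hn]⟩).2
  have hcyc : σ.IsCycle := ⟨a, hmove a, fun b _ => by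
    obtain ⟨i, hi⟩ := hsurj b
    exact ⟨((i : ℕ) : ℤ), by rw [zpow_natCast, hσk]; exact hi⟩⟩
  have hsupp : σ.support = Finset.univ := Finset.eq_univ_iff_forall.2 fun b =>
    Equiv.Perm.mem_support.2 (hmove b)
  rw [hcyc.sign, hsupp, Finset.card_univ, hn]
  rfl

/-- The pairs exchanged by a family of elements closed under conjugation. -/
theorem pairs_dvd_sum [Fintype Ω] [IsMultiplyPretransitive G Ω 2] {ι : Type*} [Fintype ι]
    [MulAction G ι] (c : ι → G) (hc : ∀ (g : G) i, c (g • i) = g * c i * g⁻¹) :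
    Fintype.card Ω * (Fintype.card Ω - 1) ∣ ∑ i, moved Ω (c i) := by
  classical
  let F : Ω × Ω → ℕ := fun p => ∑ i, if c i • p.1 = p.2 then 1 else 0
  have h1 : ∀ i, moved Ω (c i) = ∑ p ∈ (Finset.univ : Finset Ω).offDiag,
      if c i • p.1 = p.2 then 1 else 0 := fun i => by
    rw [moved, Nat.card_eq_fintype_card, Fintype.card_subtype, ← Finset.card_filter]
    refine Finset.card_bij (fun a _ => (a, c i • a)) (fun a ha => ?_) (fun a _ b _ h => congrArg Prod.fst h)
      fun p hp => ⟨p.1, ?_, ?_⟩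
    · simp only [Finset.mem_filter, Finset.mem_univ, true_and] at ha
      simpa [Finset.mem_offDiag] using ha.symm
    · simp only [Finset.mem_filter, Finset.mem_offDiag, Finset.mem_univ, true_and] at hp ⊢
      rw [hp.2]; exact Ne.symm hp.1
    · simp only [Finset.mem_filter] at hp
      rw [hp.2]
  rw [Finset.sum_congr rfl fun i _ => h1 i, Finset.sum_comm]
  have hconst : ∀ p ∈ (Finset.univ : Finset Ω).offDiag, ∀ q ∈ (Finset.univ : Finset Ω).offDiag,
      F p = F q := by
    intro p hp q hq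
    simp only [Finset.mem_offDiag, Finset.mem_univ, true_and] at hp hq
    obtain ⟨g, hg1, hg2⟩ := (is_two_pretransitive_iff (G := G) (α := Ω)).1 inferInstance hp hq
    refine Fintype.sum_equiv (MulAction.toPerm g) _ _ fun i => ?_
    simp [toPerm_apply, hc, ← hg1, ← hg2, mul_smul]
  have hcard : ((Finset.univ : Finset Ω).offDiag).card = Fintype.card Ω * (Fintype.card Ω - 1) := by
    rw [Finset.offDiag_card, Finset.card_univ, Nat.mul_sub, mul_one]
  rcases ((Finset.univ : Finset Ω).offDiag).eq_empty_or_nonempty with h | ⟨p, hp⟩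
  · rw [h, Finset.sum_empty]; exact dvd_zero _
  rw [← hcard]
  refine ⟨F p, ?_⟩
  show ∑ q ∈ (Finset.univ : Finset Ω).offDiag, F q = _
  rw [Finset.sum_congr rfl fun q hq => hconst q hq p hp, Finset.sum_const, smul_eq_mul]

open Pointwise in
/-- The normaliser of a Sylow subgroup of order `p` is transitive on its fixed points. -/
theorem card_fixed_dvd [Finite G] [IsPretransitive G Ω] {p : ℕ} [Fact p.Prime] (Q : Subgroup G)
    (hQ : Nat.card Q = p) (hp : ¬ p * p ∣ Nat.card G) (hne : (fixedPoints Q Ω).Nonempty) :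
    Nat.card (fixedPoints Q Ω) ∣ Nat.card G := by
  obtain ⟨a, ha⟩ := hne
  let N := Subgroup.normalizer (Q : Set G)
  have hN : ∀ g ∈ N, ∀ b ∈ fixedPoints Q Ω, g • b ∈ fixedPoints Q Ω := by
    intro g hg b hb q
    have hq : g⁻¹ * (q : G) * g ∈ Q := by
      rw [(Subgroup.mem_normalizer_iff.1 hg)]
      simp [mul_assoc]
    have : (g⁻¹ * (q : G) * g) • b = b := hb ⟨_, hq⟩
    show (q : G) • g • b = g • b
    rw [mul_smul, mul_smul, inv_smul_eq_iff] at this
    exact this
  have horb : fixedPoints Q Ω = orbit N a := by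
    refine Set.Subset.antisymm (fun b hb => ?_) ?_
    · obtain ⟨g, rfl⟩ := exists_smul_eq G a b
      set S := stabilizer G (g • a) with hS
      have hQS : Q ≤ S := fun q hq => hb ⟨q, hq⟩
      set Q' := Q.map (MulAut.conj g).toMonoidHom with hQ'
      have hQ'S : Q' ≤ S := by
        rintro _ ⟨q, hq, rfl⟩
        show (g * q * g⁻¹) • g • a = g • a
        rw [mul_smul, mul_smul, inv_smul_smul, show q • a = a from ha ⟨q, hq⟩]
      have mk : ∀ R : Subgroup G, R ≤ S → Nat.card R = p →
          ∃ P : Sylow p S, (P : Subgroup S) = R.subgroupOf S := fun R hR hc => by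
        have h1 : IsPGroup p (R.subgroupOf S) := IsPGroup.of_card (n := 1) (by
          rw [Nat.card_congr (Subgroup.subgroupOfEquivOfLe hR).toEquiv, hc, pow_one])
        have h2 : ¬ p ∣ (R.subgroupOf S).index := fun hd => hp (by
          have h3 : p * p ∣ Nat.card (R.subgroupOf S) * (R.subgroupOf S).index :=
            Nat.mul_dvd_mul (dvd_of_eq (by rw [Nat.card_congr (Subgroup.subgroupOfEquivOfLe hR).toEquiv, hc])) hd
          rw [Subgroup.card_mul_index] at h3
          exact h3.trans (Subgroup.card_subgroup_dvd_card S))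
        exact ⟨h1.toSylow h2, rfl⟩
      obtain ⟨P1, hP1⟩ := mk Q' hQ'S (by
        rw [hQ', Nat.card_congr (Subgroup.equivMapOfInjective Q _ (MulAut.conj g).injective).toEquiv.symm, hQ])
      obtain ⟨P2, hP2⟩ := mk Q hQS hQ
      obtain ⟨l, hl⟩ := exists_smul_eq S P1 P2
      have key : ∀ q : G, q ∈ Q → ((l : G) * g) * q * ((l : G) * g)⁻¹ ∈ Q := fun q hq => by
        have h1 : (⟨g * q * g⁻¹, hQ'S ⟨q, hq, rfl⟩⟩ : S) ∈ (P1 : Subgroup S) := by
          rw [hP1]; exact ⟨q, hq, rfl⟩
        have h2 := Subgroup.smul_mem_pointwise_smul _ (MulAut.conj l) _ h1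
        have h4 : ((l • P1 : Sylow p S) : Subgroup S) = MulAut.conj l • (P1 : Subgroup S) := rfl
        rw [hl, hP2] at h4
        rw [← h4] at h2
        have h3 : (l : G) * (g * q * g⁻¹) * (l : G)⁻¹ ∈ Q := h2
        simpa [mul_assoc, mul_inv_rev] using h3
      have hmem : (l : G) * g ∈ N := by
        refine Subgroup.mem_normalizer_iff.2 fun q => ⟨key q, fun hq => ?_⟩
        let f : Q → Q := fun r => ⟨_, key r r.2⟩
        have hf : Function.Injective f := fun r s h => by
          have := congrArg Subtype.val h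
          simpa [f] using this
        obtain ⟨r, hr⟩ := Finite.surjective_of_injective hf ⟨_, hq⟩
        have := congrArg Subtype.val hr
        simp only [f, mul_left_inj, mul_right_inj] at this
        exact this ▸ r.2
      refine ⟨⟨_, hmem⟩, ?_⟩
      show ((l : G) * g) • a = g • a
      rw [mul_smul]; exact l.2
    · rintro _ ⟨⟨g, hg⟩, rfl⟩
      exact hN g hg a ha
  rw [horb, Nat.card_coe_set_eq, ← index_stabilizer]
  exact (Subgroup.index_dvd_card _).trans (Subgroup.card_subgroup_dvd_card N)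

end Cfsg.Agent.TwistedF4Two.TwoTrans
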