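import Mathlib

/-!
# Matrices over the field with two elements, given by the bit masks of their columns
-/

set_option autoImplicit false

namespace Cfsg.Agent.TwistedF4Two

/-- The matrices. -/
abbrev M : Type := Matrix (Fin 26) (Fin 26) (ZMod 2)

/-- The bit of a natural number, in the field with two elements. -/
def bit (a i : ℕ) : ZMod 2 := if a.testBit i then 1 else 0

theorem bit_xor (a b i : ℕ) : bit (a ^^^ b) i = bit a i + bit b i := by
  simp only [bit, Nat.testBit_xor]
  cases a.testBit i <;> cases b.testBit i <;> decide

theorem bit_succ (a i : ℕ) : bit a (i + 1) = bit (a / 2) i := by rw [bit, bit, Nat.testBit_succ]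

/-- The image of a bit mask under the map with the given columns. -/
def img : List ℕ → ℕ → ℕ
  | [], _ => 0
  | r :: rs, a => (a % 2) * r ^^^ img rs (a / 2)

theorem bit_img : ∀ (B : List ℕ) (a n i : ℕ), B.length ≤ n →
    bit (img B a) i = ∑ k ∈ Finset.range n, bit a k * bit (B.getD k 0) i
  | [], a, n, i, _ => by simp [img, bit]
  | r :: rs, a, 0, i, h => by simp at h
  | r :: rs, a, n + 1, i, h => by
    rw [img, bit_xor, Finset.sum_range_succ', bit_img rs (a / 2) n i (by simpa using h), add_comm]
    congr 1
    · exact Finset.sum_congr rfl fun k _ => by rw [bit_succ]; rfl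
    · rcases Nat.mod_two_eq_zero_or_one a with h2 | h2 <;>
        simp [bit, h2, Nat.testBit_zero]

theorem img_zero : ∀ B : List ℕ, img B 0 = 0
  | [] => rfl
  | r :: rs => by simp [img, img_zero rs]

/-- The matrix with the given columns. -/
def toM (B : List ℕ) : M := Matrix.of fun r c => bit (B.getD (c : ℕ) 0) (r : ℕ)

/-- The product. -/
def comp (A B : List ℕ) : List ℕ := B.map (img A)

theorem length_comp (A B : List ℕ) : (comp A B).length = B.length := List.length_map _

theorem getD_comp (A B : List ℕ) (i : ℕ) : (comp A B).getD i 0 = img A (B.getD i 0) := by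
  simp only [comp, List.getD]
  rw [List.getElem?_map]
  cases B[i]? <;> simp [img_zero]

theorem toM_comp (A B : List ℕ) (hA : A.length ≤ 26) : toM (comp A B) = toM A * toM B := by
  ext r c
  simp only [toM, Matrix.of_apply, Matrix.mul_apply, getD_comp, bit_img A _ 26 _ hA]
  rw [← Fin.sum_univ_eq_sum_range (f := fun k => bit (B.getD c 0) k * bit (A.getD k 0) r)]
  exact Finset.sum_congr rfl fun k _ => mul_comm _ _

/-- The identity. -/
def idB : List ℕ := (List.range 26).map fun i => 1 <<< i

theorem toM_idB : toM idB = 1 := by decide +kernel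

/-- A vector as a bit mask. -/
def toV (a : ℕ) : Fin 26 → ZMod 2 := fun i => bit a (i : ℕ)

theorem toM_mulVec (A : List ℕ) (hA : A.length ≤ 26) (a : ℕ) :
    Matrix.mulVec (toM A) (toV a) = toV (img A a) := by
  funext r
  simp only [toV, toM, Matrix.mulVec, dotProduct, Matrix.of_apply, bit_img A a 26 _ hA]
  rw [← Fin.sum_univ_eq_sum_range (f := fun k => bit a k * bit (A.getD k 0) r)]
  exact Finset.sum_congr rfl fun k _ => mul_comm _ _

end Cfsg.Agent.TwistedF4Two
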