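import Cfsg.Agent.TwistedF4Two.Order

/-!
# The group is not perfect

A character of the unipotent group is stable under fusion, so its transfer is not trivial.
-/

set_option autoImplicit false
set_option maxRecDepth 100000

namespace Cfsg.Agent.TwistedF4Two

open scoped Matrix
open MulAction

attribute [local irreducible] rho toM comp img Cfsg.Lie.chevF4 gen

/-- The subgroup of index two of the unipotent group. -/
def U1 : Subgroup T := listClosure (pc.drop 1)

theorem U1_le : U1 ≤ UT := Subgroup.closure_mono fun _ h => List.mem_of_mem_drop h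

theorem card_U1 : Nat.card U1 = 2048 := by simpa [U1] using card_drop 11 1 rfl

theorem index_U1 : (U1.subgroupOf UT).index = 2 := by
  have h := Subgroup.card_mul_index (U1.subgroupOf UT)
  rw [Nat.card_congr (Subgroup.subgroupOfEquivOfLe U1_le).toEquiv, card_U1, card_UT] at h
  omega

theorem mul_mem_U1_iff {a b : T} (ha : a ∈ UT) (hb : b ∈ UT) : a * b ∈ U1 ↔ (a ∈ U1 ↔ b ∈ U1) := by
  simpa [Subgroup.mem_subgroupOf] using
    Subgroup.mul_mem_iff_of_index_two index_U1 (a := (⟨a, ha⟩ : UT)) (b := ⟨b, hb⟩)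

theorem pc_zero_not_mem : pc.getD 0 1 ∉ U1 := pc_not_mem_drop (by norm_num)

theorem sprod_pc_mem_U1 (m : ℕ) : sprod pc m ∈ U1 ↔ m % 2 = 0 := by
  have h0 : 0 < pc.length := by rw [pc_length]; norm_num
  have hcons : pc = pc[0] :: pc.drop 1 := by rw [List.getElem_cons_drop, List.drop_zero]
  have htail : sprod (pc.drop 1) (m / 2) ∈ U1 := sprod_mem (fun _ => mem_listClosure) _
  rw [hcons, sprod]
  rcases Nat.mod_two_eq_zero_or_one m with hm | hm
  · rw [if_neg (by omega), one_mul]; exact ⟨fun _ => hm, fun _ => htail⟩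
  · rw [if_pos hm]
    refine ⟨fun h => absurd ?_ pc_zero_not_mem, fun h => by omega⟩
    rw [List.getD_eq_getElem _ _ h0]
    exact (Subgroup.mul_mem_cancel_right U1 htail).1 h

/-- The reflection data needed for one step of the fusion argument. -/
structure ReflStep (s h : T) (n : ℕ) (gs : List T) : Prop where
  hs : s * s = 1
  hgU : ∀ x ∈ gs, x ∈ UT
  hgs : ∀ x ∈ gs, s * x * s ∈ UT ∧ (x ∈ U1 ↔ s * x * s ∈ U1)
  hdec : ∀ y ∈ UT, ∃ v ∈ listClosure gs, ∃ k, k < n ∧ y = v * h ^ k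

theorem ReflStep.of_mem_closure {s h : T} {n : ℕ} {gs : List T} (H : ReflStep s h n gs) {v : T}
    (hv : v ∈ listClosure gs) : v ∈ UT ∧ s * v * s ∈ UT ∧ (v ∈ U1 ↔ s * v * s ∈ U1) := by
  induction hv using Subgroup.closure_induction with
  | mem x hx => exact ⟨H.hgU x hx, H.hgs x hx⟩
  | one => simp [mul_one, H.hs]
  | mul a b _ _ ha hb =>
    have e : s * (a * b) * s = s * a * s * (s * b * s) := by
      simp only [mul_assoc, ← mul_assoc s s, H.hs, one_mul]
    refine ⟨UT.mul_mem ha.1 hb.1, e ▸ UT.mul_mem ha.2.1 hb.2.1, ?_⟩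
    rw [e, mul_mem_U1_iff ha.1 hb.1, mul_mem_U1_iff ha.2.1 hb.2.1, ha.2.2, hb.2.2]
  | inv a _ ha =>
    have es : s⁻¹ = s := inv_eq_of_mul_eq_one_right H.hs
    have e : s * a⁻¹ * s = (s * a * s)⁻¹ := by
      rw [mul_inv_rev, mul_inv_rev, es, mul_assoc]
    refine ⟨UT.inv_mem ha.1, e ▸ UT.inv_mem ha.2.1, ?_⟩
    rw [e, inv_mem_iff, inv_mem_iff]
    exact ha.2.2

/-- Products in the normal form of the rank one step. -/
theorem exists_part_pow {h : T} {n : ℕ} (gs : List T) (hn : 0 < n) (hh : h ^ n = 1)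
    (hconj : ∀ x ∈ gs, ∃ y ∈ listClosure gs, h * x = y * h)
    (hdec : ∀ x ∈ pc, ∃ v ∈ listClosure gs, ∃ k : ℕ, x = v * h ^ k) :
    ∀ y ∈ UT, ∃ v ∈ listClosure gs, ∃ k, k < n ∧ y = v * h ^ k := by
  have hhv : ∀ v ∈ listClosure gs, ∃ v' ∈ listClosure gs, h * v = v' * h := by
    intro v hv
    refine Subgroup.closure_induction (p := fun v _ => ∃ v' ∈ listClosure gs, h * v = v' * h)
      (fun x hx => hconj x hx) ⟨1, Subgroup.one_mem _, by rw [mul_one, one_mul]⟩ ?_ ?_ hv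
    · rintro a b - - ⟨a', ha', ea⟩ ⟨b', hb', eb⟩
      exact ⟨a' * b', Subgroup.mul_mem _ ha' hb', by rw [← mul_assoc, ea, mul_assoc, eb, ← mul_assoc]⟩
    · rintro a - ⟨a', ha', ea⟩
      refine ⟨a'⁻¹, Subgroup.inv_mem _ ha', ?_⟩
      calc h * a⁻¹ = a'⁻¹ * (a' * h) * a⁻¹ := by group
        _ = a'⁻¹ * h := by rw [← ea]; group
  have hhk : ∀ k : ℕ, ∀ v ∈ listClosure gs, ∃ v' ∈ listClosure gs, h ^ k * v = v' * h ^ k := by
    intro k
    induction k with
    | zero => exact fun v hv => ⟨v, hv, by rw [pow_zero, one_mul, mul_one]⟩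
    | succ k ih =>
      intro v hv
      obtain ⟨v', hv', e⟩ := hhv v hv
      obtain ⟨v'', hv'', e'⟩ := ih v' hv'
      exact ⟨v'', hv'', by rw [pow_succ, mul_assoc, e, ← mul_assoc, e', mul_assoc]⟩
  intro y hy
  obtain ⟨m, rfl⟩ := exists_sprod_pc hy
  suffices ∀ (L : List T) (m : ℕ), (∀ x ∈ L, ∃ v ∈ listClosure gs, ∃ k : ℕ, x = v * h ^ k) →
      ∃ v ∈ listClosure gs, ∃ k : ℕ, sprod L m = v * h ^ k by
    obtain ⟨v, hv, k, e⟩ := this pc m hdec
    exact ⟨v, hv, k % n, Nat.mod_lt _ hn, by rw [e, ← pow_eq_pow_mod k hh]⟩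
  intro L
  induction L with
  | nil => exact fun _ _ => ⟨1, Subgroup.one_mem _, 0, by rw [pow_zero, one_mul]; rfl⟩
  | cons x L ih =>
    intro m hL
    obtain ⟨w, hw, l, e⟩ := ih (m / 2) fun z hz => hL z (List.mem_cons_of_mem _ hz)
    rw [sprod, e]
    split_ifs
    · obtain ⟨v, hv, k, rfl⟩ := hL x List.mem_cons_self
      obtain ⟨w', hw', e'⟩ := hhk k w hw
      exact ⟨v * w', Subgroup.mul_mem _ hv hw', k + l, by
        rw [pow_add, mul_assoc, ← mul_assoc (h ^ k), e']; simp only [mul_assoc]⟩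
    · exact ⟨w, hw, l, by rw [one_mul]⟩

theorem parity_masks : (∀ k : Fin 3, part1Masks.getD (k : ℕ) 0 % 2 = part1Images.getD (k : ℕ) 0 % 2) ∧
    (∀ k : Fin 5, part2Masks.getD (k : ℕ) 0 % 2 = part2Images.getD (k : ℕ) 0 % 2) := by decide +kernel

theorem refl1 : ReflStep s1 (gen 0) 2 (part1Words.map elt) := by
  have hlen : part1Words.length = 3 ∧ part1Mats.length = 3 := by decide
  have hr := rep_part 3 hlen.1 hlen.2 (fun k => ⟨(part1_ok k).1, (part1_ok k).2.1⟩)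
  have hmem : ∀ x ∈ part1Words.map elt, ∃ k : Fin 3, x = (part1Words.map elt).getD (k : ℕ) 1 ∧
      Rep x (part1Mats.getD (k : ℕ) []) := fun x hx => by
    obtain ⟨k, hk, rfl⟩ := List.getElem_of_mem hx
    have hk3 : k < 3 := lt_of_lt_of_eq hk ((List.length_map _).trans hlen.1)
    refine ⟨⟨k, hk3⟩, (List.getD_eq_getElem _ _ hk).symm, ?_⟩
    rw [← List.getD_eq_getElem _ 1 hk, List.getD_eq_getElem part1Mats [] (lt_of_lt_of_eq hk3 hlen.2.symm),
      ← List.getD_eq_getElem part1Mats idB (lt_of_lt_of_eq hk3 hlen.2.symm)]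
    exact hr k
  refine ⟨s1_sq, fun x hx => ?_, fun x hx => ?_, exists_part_pow _ two_pos
    (((rep_gen 0).pow 2).eq Rep.one complements_ok.1) (fun x hx => ?_) (fun x hx => ?_)⟩
  · obtain ⟨k, -, hk⟩ := hmem x hx
    rw [hk.eq (rep_pc_prod _) (part1_ok k).2.2.1]
    exact sprod_pc_mem _
  · obtain ⟨k, -, hk⟩ := hmem x hx
    rw [((rep_s1.mul hk).mul rep_s1).eq (rep_pc_prod _) (part1_ok k).2.2.2.1,
      hk.eq (rep_pc_prod _) (part1_ok k).2.2.1, sprod_pc_mem_U1, sprod_pc_mem_U1, parity_masks.1 k]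
    exact ⟨sprod_pc_mem _, Iff.rfl⟩
  · obtain ⟨k, -, hk⟩ := hmem x hx
    exact ⟨_, wordG_mem (fun _ => mem_listClosure) _,
      ((rep_gen 0).mul hk).eq ((Rep.word hr _).mul (rep_gen 0)) (part1_ok k).2.2.2.2⟩
  · obtain ⟨i, hi, -, hrep⟩ := rep_of_mem_pc hx
    exact ⟨_, wordG_mem (fun _ => mem_listClosure) _, _,
      hrep.eq ((Rep.word hr _).mul ((rep_gen 0).pow _)) (part1Dec_ok ⟨i, hi⟩)⟩

theorem refl2 : ReflStep s2 (gen 2) 4 (part2Words.map elt) := by
  have hlen : part2Words.length = 5 ∧ part2Mats.length = 5 := by decide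
  have hr := rep_part 5 hlen.1 hlen.2 (fun k => ⟨(part2_ok k).1, (part2_ok k).2.1⟩)
  have hmem : ∀ x ∈ part2Words.map elt, ∃ k : Fin 5, x = (part2Words.map elt).getD (k : ℕ) 1 ∧
      Rep x (part2Mats.getD (k : ℕ) []) := fun x hx => by
    obtain ⟨k, hk, rfl⟩ := List.getElem_of_mem hx
    have hk3 : k < 5 := lt_of_lt_of_eq hk ((List.length_map _).trans hlen.1)
    refine ⟨⟨k, hk3⟩, (List.getD_eq_getElem _ _ hk).symm, ?_⟩
    rw [← List.getD_eq_getElem _ 1 hk, List.getD_eq_getElem part2Mats [] (lt_of_lt_of_eq hk3 hlen.2.symm),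
      ← List.getD_eq_getElem part2Mats idB (lt_of_lt_of_eq hk3 hlen.2.symm)]
    exact hr k
  refine ⟨s2_sq, fun x hx => ?_, fun x hx => ?_, exists_part_pow _ (by norm_num)
    (((rep_gen 2).pow 4).eq Rep.one complements_ok.2) (fun x hx => ?_) (fun x hx => ?_)⟩
  · obtain ⟨k, -, hk⟩ := hmem x hx
    rw [hk.eq (rep_pc_prod _) (part2_ok k).2.2.1]
    exact sprod_pc_mem _
  · obtain ⟨k, -, hk⟩ := hmem x hx
    rw [((rep_s2.mul hk).mul rep_s2).eq (rep_pc_prod _) (part2_ok k).2.2.2.1,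
      hk.eq (rep_pc_prod _) (part2_ok k).2.2.1, sprod_pc_mem_U1, sprod_pc_mem_U1, parity_masks.2 k]
    exact ⟨sprod_pc_mem _, Iff.rfl⟩
  · obtain ⟨k, -, hk⟩ := hmem x hx
    exact ⟨_, wordG_mem (fun _ => mem_listClosure) _,
      ((rep_gen 2).mul hk).eq ((Rep.word hr _).mul (rep_gen 2)) (part2_ok k).2.2.2.2⟩
  · obtain ⟨i, hi, -, hrep⟩ := rep_of_mem_pc hx
    exact ⟨_, wordG_mem (fun _ => mem_listClosure) _, _,
      hrep.eq ((Rep.word hr _).mul ((rep_gen 2).pow _)) (part2Dec_ok ⟨i, hi⟩)⟩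

theorem weyl_tail_ok : ∀ w : Fin 16, (w : ℕ) = 0 ∨ ∃ r : Fin 16,
    (weylWords.getD (r : ℕ) []).length < (weylWords.getD (w : ℕ) []).length ∧
    ((weylWords.getD (w : ℕ) [] = 1 :: weylWords.getD (r : ℕ) [] ∧
        (steps.getD (1 * 16 + w) (0, 0, 0)).2.1 ≠ (r : ℕ)) ∨
      (weylWords.getD (w : ℕ) [] = 2 :: weylWords.getD (r : ℕ) [] ∧
        (steps.getD (32 + 1 * 16 + w) (0, 0, 0)).2.1 ≠ (r : ℕ) ∧
        (steps.getD (32 + 2 * 16 + w) (0, 0, 0)).2.1 ≠ (r : ℕ) ∧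
        (steps.getD (32 + 3 * 16 + w) (0, 0, 0)).2.1 ≠ (r : ℕ))) := by decide +kernel

/-- The character does not change along a Weyl element. -/
theorem mem_U1_conj_weyl : ∀ w : ℕ, w < 16 → ∀ x ∈ UT, weylEl w * x * (weylEl w)⁻¹ ∈ UT →
    (x ∈ U1 ↔ weylEl w * x * (weylEl w)⁻¹ ∈ U1) := by
  suffices ∀ N w : ℕ, (weylWords.getD w []).length = N → w < 16 → ∀ x ∈ UT,
      weylEl w * x * (weylEl w)⁻¹ ∈ UT → (x ∈ U1 ↔ weylEl w * x * (weylEl w)⁻¹ ∈ U1) from
    fun w => this _ w rfl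
  intro N
  induction N using Nat.strong_induction_on with
  | _ N ih =>
    intro w hN hw x hx hy
    rcases weyl_tail_ok ⟨w, hw⟩ with h0 | ⟨r, hlen, hcase⟩
    · simp only at h0
      subst h0
      simp [weylEl_zero]
    simp only at hlen hcase
    have key : ∀ (s h : T) (n : ℕ) (gs : List T), ReflStep s h n gs → weylEl w = s * weylEl r →
        (∀ k, 0 < k → k < n → ∃ j, j < 16 ∧ j ≠ (r : ℕ) ∧ ∃ a ∈ UT, ∃ b ∈ UT,
          s * h ^ k * weylEl w = a * weylEl j * b) →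
        (x ∈ U1 ↔ weylEl w * x * (weylEl w)⁻¹ ∈ U1) := by
      intro s h n gs H hsw hcell
      obtain ⟨v, hv, k, hk, e⟩ := H.hdec _ hy
      obtain ⟨-, hv2, hv3⟩ := H.of_mem_closure hv
      have hrx : weylEl r * x = s * v * s * (s * h ^ k * weylEl w) := by
        calc weylEl r * x = s * s * weylEl r * x := by rw [H.hs, one_mul]
          _ = s * (weylEl w * x * (weylEl w)⁻¹) * weylEl w := by rw [hsw]; group
          _ = s * v * (s * s) * h ^ k * weylEl w := by rw [e, H.hs, mul_one]; group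
          _ = _ := by simp only [mul_assoc]
      rcases Nat.eq_zero_or_pos k with rfl | hk0
      · rw [pow_zero, mul_one] at e
        have er : weylEl r * x * (weylEl r)⁻¹ = s * v * s := by
          rw [hrx, pow_zero, mul_one, hsw]
          simp only [mul_assoc, ← mul_assoc s s, H.hs, one_mul, mul_inv_cancel, mul_one]
        have h1 := ih _ (hN ▸ hlen) r rfl r.2 x hx (er ▸ hv2)
        rw [h1, er, ← hv3, e]
      · exfalso
        obtain ⟨j, hj, hjr, a, ha, b, hb, ej⟩ := hcell k hk0 hk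
        refine hjr (cell_eq (UT.mul_mem hv2 ha) hb UT.one_mem hx hj r.2 ?_)
        rw [one_mul, hrx, ej]; simp only [mul_assoc]
    rcases hcase with ⟨hword, hst⟩ | ⟨hword, hst1, hst2, hst3⟩
    · refine key s1 (gen 0) 2 _ refl1 ?_ fun k hk0 hk => ?_
      · rw [weylEl, weylEl, hword]; rfl
      obtain rfl : k = 1 := by omega
      obtain ⟨h1, h2⟩ := steps1_ok ⟨1, by norm_num⟩ ⟨w, hw⟩
      simp only at h1 h2
      exact ⟨_, h1, hst, _, sprod_pc_mem _, _, sprod_pc_mem _,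
        ((rep_s1.mul ((rep_gen 0).pow 1)).mul (rep_weyl hw)).eq
          (((rep_pc_prod _).mul (rep_weyl h1)).mul (rep_pc_prod _)) h2⟩
    · refine key s2 (gen 2) 4 _ refl2 ?_ fun k hk0 hk => ?_
      · rw [weylEl, weylEl, hword]; rfl
      obtain ⟨h1, h2⟩ := steps2_ok ⟨k, hk⟩ ⟨w, hw⟩
      simp only at h1 h2
      refine ⟨_, h1, ?_, _, sprod_pc_mem _, _, sprod_pc_mem _,
        ((rep_s2.mul ((rep_gen 2).pow k)).mul (rep_weyl hw)).eq
          (((rep_pc_prod _).mul (rep_weyl h1)).mul (rep_pc_prod _)) h2⟩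
      interval_cases k
      · exact hst1
      · exact hst2
      · exact hst3

theorem mem_U1_conj_UT {u x : T} (hu : u ∈ UT) (hx : x ∈ UT) : u * x * u⁻¹ ∈ U1 ↔ x ∈ U1 := by
  rw [mul_mem_U1_iff (UT.mul_mem hu hx) (UT.inv_mem hu), mul_mem_U1_iff hu hx, inv_mem_iff]
  tauto

/-- The character is stable under fusion. -/
theorem mem_U1_fusion {g x : T} (hx : x ∈ UT) (hy : g * x * g⁻¹ ∈ UT) :
    x ∈ U1 ↔ g * x * g⁻¹ ∈ U1 := by
  obtain ⟨u, hu, w, hw, u', hu', rfl⟩ := inCells_all g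
  have hx' : u' * x * u'⁻¹ ∈ UT := UT.mul_mem (UT.mul_mem hu' hx) (UT.inv_mem hu')
  have e : u * weylEl w * u' * x * (u * weylEl w * u')⁻¹ =
      u * (weylEl w * (u' * x * u'⁻¹) * (weylEl w)⁻¹) * u⁻¹ := by group
  rw [e] at hy ⊢
  have hy' : weylEl w * (u' * x * u'⁻¹) * (weylEl w)⁻¹ ∈ UT := by
    have := UT.mul_mem (UT.mul_mem (UT.inv_mem hu) hy) hu
    simpa [mul_assoc] using this
  rw [mem_U1_conj_UT hu hy', ← mem_U1_conj_weyl w hw _ hx' hy', mem_U1_conj_UT hu' hx]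

open Classical in
/-- The character. -/
noncomputable def sideHom : UT →* ℤˣ where
  toFun u := if (u : T) ∈ U1 then 1 else -1
  map_one' := if_pos U1.one_mem
  map_mul' a b := by
    have := mul_mem_U1_iff a.2 b.2
    by_cases ha : (a : T) ∈ U1 <;> by_cases hb : (b : T) ∈ U1 <;> simp_all

open Classical in
theorem sideHom_eq {a b : UT} (h : (a : T) ∈ U1 ↔ (b : T) ∈ U1) : sideHom a = sideHom b := by
  show (if (a : T) ∈ U1 then (1 : ℤˣ) else -1) = if (b : T) ∈ U1 then 1 else -1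
  by_cases ha : (a : T) ∈ U1
  · rw [if_pos ha, if_pos (h.1 ha)]
  · rw [if_neg ha, if_neg (mt h.2 ha)]

theorem index_UT : UT.index = 8775 := by
  have h := Subgroup.card_mul_index UT
  rw [card_UT, card_T] at h
  omega

theorem pc_zero_not_mem_commutator : pc.getD 0 1 ∉ commutator T := by
  intro hmem
  haveI : UT.FiniteIndex := inferInstance
  set g := pc.getD 0 1 with hg
  have hgU : g ∈ UT := pc_getD_mem 0
  have hker : commutator T ≤ (MonoidHom.transfer sideHom).ker := Abelianization.commutator_subset_ker _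
  have h1 : MonoidHom.transfer sideHom g = 1 := hker hmem
  classical
  letI := UT.fintypeQuotientOfFiniteIndex
  rw [MonoidHom.transfer_eq_prod_quotient_orbitRel_zpowers_quot] at h1
  have h2 : ∀ q : Quotient (orbitRel (Subgroup.zpowers g) (T ⧸ UT)),
      sideHom ⟨q.out.out⁻¹ * g ^ Function.minimalPeriod (g • ·) q.out * q.out.out,
        QuotientGroup.out_conj_pow_minimalPeriod_mem UT g q.out⟩ =
      sideHom ⟨g, hgU⟩ ^ Function.minimalPeriod (g • ·) q.out := by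
    intro q
    rw [← map_pow]
    refine (sideHom_eq ?_).symm
    show g ^ _ ∈ U1 ↔ _
    have hy := QuotientGroup.out_conj_pow_minimalPeriod_mem UT g q.out
    simpa using mem_U1_fusion (g := (q.out.out : T)⁻¹) (UT.pow_mem hgU _) (by simpa using hy)
  rw [Finset.prod_congr rfl fun q _ => h2 q, Finset.prod_pow_eq_pow_sum,
    ← Subgroup.index_eq_sum_minimalPeriod UT g, index_UT] at h1
  have hm : sideHom ⟨g, hgU⟩ = -1 := if_neg pc_zero_not_mem
  rw [hm] at h1
  exact absurd h1 (by decide)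

end Cfsg.Agent.TwistedF4Two
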