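import Cfsg.Agent.TwistedF4Two.BitMat
import Cfsg.Agent.TwistedF4Two.Data

/-!
# The numerical checks for the twisted F4 group over the field with two elements
-/

set_option autoImplicit false
set_option maxRecDepth 100000
set_option maxHeartbeats 4000000

namespace Cfsg.Agent.TwistedF4Two

/-- The product of the selected bit matrices. -/
def sprodB : List (List ℕ) → ℕ → List ℕ
  | [], _ => idB
  | x :: l, m => comp (if m % 2 = 1 then x else idB) (sprodB l (m / 2))

/-- The product of a word in given bit matrices. -/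
def wordB (L : List (List ℕ)) : List ℕ → List ℕ
  | [] => idB
  | k :: l => comp (L.getD k idB) (wordB L l)

/-- The powers. -/
def powB (A : List ℕ) : ℕ → List ℕ
  | 0 => idB
  | n + 1 => comp A (powB A n)

theorem w1M_ok : wordB letters w1 = w1M ∧ comp w1M w1M = idB := by decide +kernel

theorem w2M_ok : wordB letters w2 = w2M ∧ comp w2M w2M = idB := by decide +kernel

theorem pcWords_ok : ∀ k : Fin 12, (pcWords.getD (k : ℕ) []).all (· < 4) = true ∧
    wordB letters (pcWords.getD (k : ℕ) []) = pcMats.getD (k : ℕ) [] ∧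
    (pcMats.getD (k : ℕ) []).length = 26 := by decide +kernel

theorem pcSquares_ok : ∀ i : Fin 12,
    comp (pcMats.getD (i : ℕ) []) (pcMats.getD (i : ℕ) []) =
      sprodB (pcMats.drop ((i : ℕ) + 1)) (pcSquares.getD (i : ℕ) 0 / 2 ^ ((i : ℕ) + 1)) := by
  decide +kernel

theorem pcConj_ok : ∀ t ∈ pcConj, comp (pcMats.getD t.2.1 []) (pcMats.getD t.1 []) =
    comp (pcMats.getD t.1 []) (sprodB (pcMats.drop (t.1 + 1)) (t.2.2 / 2 ^ (t.1 + 1))) := by
  decide +kernel

theorem pcConj_all : ∀ i : Fin 12, ∀ j : Fin 12, (i : ℕ) < j →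
    ∃ t ∈ pcConj, t.1 = (i : ℕ) ∧ t.2.1 = (j : ℕ) := by decide +kernel

theorem part1_ok : ∀ k : Fin 3, (part1Words.getD (k : ℕ) []).all (· < 4) = true ∧
    wordB letters (part1Words.getD (k : ℕ) []) = part1Mats.getD (k : ℕ) [] ∧
    part1Mats.getD (k : ℕ) [] = sprodB pcMats (part1Masks.getD (k : ℕ) 0) ∧
    comp (comp w1M (part1Mats.getD (k : ℕ) [])) w1M = sprodB pcMats (part1Images.getD (k : ℕ) 0) ∧
    comp (letters.getD 0 []) (part1Mats.getD (k : ℕ) []) =
      comp (wordB part1Mats (part1Conj.getD (k : ℕ) [])) (letters.getD 0 []) := by decide +kernel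

theorem part2_ok : ∀ k : Fin 5, (part2Words.getD (k : ℕ) []).all (· < 4) = true ∧
    wordB letters (part2Words.getD (k : ℕ) []) = part2Mats.getD (k : ℕ) [] ∧
    part2Mats.getD (k : ℕ) [] = sprodB pcMats (part2Masks.getD (k : ℕ) 0) ∧
    comp (comp w2M (part2Mats.getD (k : ℕ) [])) w2M = sprodB pcMats (part2Images.getD (k : ℕ) 0) ∧
    comp (letters.getD 2 []) (part2Mats.getD (k : ℕ) []) =
      comp (wordB part2Mats (part2Conj.getD (k : ℕ) [])) (letters.getD 2 []) := by decide +kernel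

theorem dec_range : (∀ i : Fin 12, (part1Dec.getD (i : ℕ) ([], 0)).1.all (· < 3) = true ∧
      (part1Dec.getD (i : ℕ) ([], 0)).2 < 2 ∧
      (part2Dec.getD (i : ℕ) ([], 0)).1.all (· < 5) = true ∧
      (part2Dec.getD (i : ℕ) ([], 0)).2 < 4) ∧
    (∀ k : Fin 3, (part1Conj.getD (k : ℕ) []).all (· < 3) = true) ∧
    (∀ k : Fin 5, (part2Conj.getD (k : ℕ) []).all (· < 5) = true) := by decide +kernel

theorem part1Dec_ok : ∀ i : Fin 12, pcMats.getD (i : ℕ) [] =
    comp (wordB part1Mats (part1Dec.getD (i : ℕ) ([], 0)).1)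
      (powB (letters.getD 0 []) (part1Dec.getD (i : ℕ) ([], 0)).2) := by decide +kernel

theorem part2Dec_ok : ∀ i : Fin 12, pcMats.getD (i : ℕ) [] =
    comp (wordB part2Mats (part2Dec.getD (i : ℕ) ([], 0)).1)
      (powB (letters.getD 2 []) (part2Dec.getD (i : ℕ) ([], 0)).2) := by decide +kernel

theorem complements_ok : powB (letters.getD 0 []) 2 = idB ∧ powB (letters.getD 2 []) 4 = idB := by
  decide +kernel

theorem weyl_ok : ∀ w : Fin 16, (weylWords.getD (w : ℕ) []).all (fun k => k == 1 || k == 2) = true ∧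
    wordB [[], w1M, w2M] (weylWords.getD (w : ℕ) []) = weylMats.getD (w : ℕ) [] ∧
    (weylMats.getD (w : ℕ) []).length = 26 ∧
    comp (weylMats.getD (w : ℕ) []) (wordB [[], w1M, w2M] (weylWords.getD (w : ℕ) []).reverse) = idB := by
  decide +kernel

theorem weyl_zero : weylWords.getD 0 [] = [] := by decide +kernel

theorem steps1_ok : ∀ k : Fin 2, ∀ w : Fin 16,
    (steps.getD ((k : ℕ) * 16 + w) (0, 0, 0)).2.1 < 16 ∧
    comp (comp w1M (powB (letters.getD 0 []) k)) (weylMats.getD (w : ℕ) []) =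
      comp (comp (sprodB pcMats (steps.getD ((k : ℕ) * 16 + w) (0, 0, 0)).1)
        (weylMats.getD (steps.getD ((k : ℕ) * 16 + w) (0, 0, 0)).2.1 []))
        (sprodB pcMats (steps.getD ((k : ℕ) * 16 + w) (0, 0, 0)).2.2) := by decide +kernel

theorem steps2_ok : ∀ k : Fin 4, ∀ w : Fin 16,
    (steps.getD (32 + (k : ℕ) * 16 + w) (0, 0, 0)).2.1 < 16 ∧
    comp (comp w2M (powB (letters.getD 2 []) k)) (weylMats.getD (w : ℕ) []) =
      comp (comp (sprodB pcMats (steps.getD (32 + (k : ℕ) * 16 + w) (0, 0, 0)).1)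
        (weylMats.getD (steps.getD (32 + (k : ℕ) * 16 + w) (0, 0, 0)).2.1 []))
        (sprodB pcMats (steps.getD (32 + (k : ℕ) * 16 + w) (0, 0, 0)).2.2) := by decide +kernel

theorem letterCosets_ok : ∀ k : Fin 4, (letterCosets.getD (k : ℕ) (0, 0, 0)).2.1 < 16 ∧
    letters.getD (k : ℕ) [] = comp (comp (sprodB pcMats (letterCosets.getD (k : ℕ) (0, 0, 0)).1)
        (weylMats.getD (letterCosets.getD (k : ℕ) (0, 0, 0)).2.1 []))
        (sprodB pcMats (letterCosets.getD (k : ℕ) (0, 0, 0)).2.2) := by decide +kernel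

/-- Unitriangularity with respect to the heights. -/
def upperB (A : List ℕ) : Bool :=
  (List.range 26).all fun r => (List.range 26).all fun c =>
    decide (hts.getD c 0 < hts.getD r 0) || ((A.getD c 0).testBit r == (r == c))

theorem pc_upper : ∀ k : Fin 12, upperB (pcMats.getD (k : ℕ) []) = true := by decide +kernel

theorem moved_ok : ∀ w : Fin 15, moved.getD (w : ℕ) 0 < 12 ∧
    upperB (comp (comp (weylMats.getD ((w : ℕ) + 1) []) (pcMats.getD (moved.getD (w : ℕ) 0) []))
      (wordB [[], w1M, w2M] (weylWords.getD ((w : ℕ) + 1) []).reverse)) = false := by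
  decide +kernel

theorem halves_ok : (∀ p : Fin 32, leftHalf.getD (p : ℕ) [] = sprodB (pcMats.take 6) (2 * (p : ℕ) + 1) ∧
      (leftHalf.getD (p : ℕ) []).length = 26) ∧
    ∀ q : Fin 64, rightHalf.getD (q : ℕ) [] = sprodB (pcMats.drop 6) (q : ℕ) ∧
      (rightHalf.getD (q : ℕ) []).length = 26 := by decide +kernel

theorem parity_ok : ∀ k : Fin 11,
    ((pcWords.getD ((k : ℕ) + 1) []).countP (fun i => 2 ≤ i)) % 2 = 0 := by decide +kernel

end Cfsg.Agent.TwistedF4Two
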