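import Mathlib

/-!
# Polycyclic sequences with squares in the tail
-/

set_option autoImplicit false

namespace Cfsg.Agent.TwistedF4Two

variable {G : Type*}

/-- The product of the members of `l` selected by the bits of `m`. -/
def sprod [Monoid G] : List G → ℕ → G
  | [], _ => 1
  | x :: l, m => (if m % 2 = 1 then x else 1) * sprod l (m / 2)

theorem sprod_zero [Monoid G] : ∀ l : List G, sprod l 0 = 1
  | [] => rfl
  | x :: l => by simp [sprod, sprod_zero l]

theorem map_sprod {H : Type*} [Monoid G] [Monoid H] (f : G →* H) :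
    ∀ (l : List G) (m : ℕ), f (sprod l m) = sprod (l.map f) m
  | [], _ => map_one f
  | x :: l, m => by
    rw [sprod, List.map_cons, sprod, map_mul, map_sprod f l]
    split_ifs
    · rfl
    · rw [map_one]

variable [Group G]

theorem sprod_mem {S : Subgroup G} : ∀ {l : List G}, (∀ x ∈ l, x ∈ S) → ∀ m, sprod l m ∈ S
  | [], _, _ => S.one_mem
  | x :: l, h, m => by
    refine S.mul_mem ?_ (sprod_mem (fun z hz => h z (List.mem_cons_of_mem _ hz)) _)
    split_ifs
    exacts [h x List.mem_cons_self, S.one_mem]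

/-- The squares and conjugates of each member lie in the tail. -/
def Collected : List G → Prop
  | [] => True
  | x :: l => (∃ m, x * x = sprod l m) ∧ (∀ z ∈ l, ∃ m, z * x = x * sprod l m) ∧ Collected l

/-- The subgroup of a list. -/
abbrev listClosure (l : List G) : Subgroup G := Subgroup.closure {g | g ∈ l}

theorem mem_listClosure {l : List G} {g : G} (h : g ∈ l) : g ∈ listClosure l :=
  Subgroup.subset_closure h

variable [Finite G]

/-- Every element of the subgroup is a product of a subset. -/
theorem exists_sprod : ∀ {l : List G}, Collected l →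
    ∀ g ∈ listClosure l, ∃ m, g = sprod l m
  | [], _, g, hg => ⟨0, by
      have : listClosure ([] : List G) = ⊥ := (Subgroup.closure_eq_bot_iff).2 (by
        intro z hz; simp at hz)
      rw [this, Subgroup.mem_bot] at hg
      rw [hg]; rfl⟩
  | x :: l, ⟨hx, hc, hl⟩, g, hg => by
    have ih := exists_sprod hl
    have hcl : ∀ z ∈ listClosure l, ∃ z' ∈ listClosure l, z * x = x * z' := by
      intro z hz
      refine Subgroup.closure_induction (p := fun z _ => ∃ z' ∈ listClosure l, z * x = x * z')
        ?_ ⟨1, Subgroup.one_mem _, by rw [one_mul, mul_one]⟩ ?_ ?_ hz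
      · intro z hz
        obtain ⟨m, hm⟩ := hc z hz
        exact ⟨_, sprod_mem (fun _ => mem_listClosure) m, hm⟩
      · rintro u v - - ⟨u', hu', eu⟩ ⟨v', hv', ev⟩
        exact ⟨u' * v', Subgroup.mul_mem _ hu' hv',
          by rw [mul_assoc, ev, ← mul_assoc, eu, mul_assoc]⟩
      · rintro u - ⟨u', hu', eu⟩
        refine ⟨u'⁻¹, Subgroup.inv_mem _ hu', ?_⟩
        calc u⁻¹ * x = u⁻¹ * (x * u') * u'⁻¹ := by group
          _ = x * u'⁻¹ := by rw [← eu]; group
    let P : G → Prop := fun g => ∃ z ∈ listClosure l, g = z ∨ g = x * z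
    have hP : ∀ a b, P a → P b → P (a * b) := by
      rintro a b ⟨z, hz, ha⟩ ⟨w, hw, hb⟩
      rcases ha with ha | ha <;> rcases hb with hb | hb <;> rw [ha, hb]
      · exact ⟨_, Subgroup.mul_mem _ hz hw, Or.inl rfl⟩
      · obtain ⟨z', hz', e⟩ := hcl z hz
        exact ⟨_, Subgroup.mul_mem _ hz' hw, Or.inr (by rw [← mul_assoc, e, mul_assoc])⟩
      · exact ⟨_, Subgroup.mul_mem _ hz hw, Or.inr (mul_assoc _ _ _)⟩
      · obtain ⟨z', hz', e⟩ := hcl z hz
        obtain ⟨m, hm⟩ := hx
        refine ⟨sprod l m * (z' * w),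
          Subgroup.mul_mem _ (sprod_mem (fun _ => mem_listClosure) m) (Subgroup.mul_mem _ hz' hw),
          Or.inl ?_⟩
        calc x * z * (x * w) = x * (z * x) * w := by group
          _ = x * x * (z' * w) := by rw [e]; group
          _ = _ := by rw [hm]
    obtain ⟨z, hz, h⟩ : P g := by
      refine Subgroup.closure_induction (p := fun g _ => P g) ?_
        ⟨1, Subgroup.one_mem _, Or.inl rfl⟩ (fun a b _ _ => hP a b) ?_ hg
      · intro z hz
        rcases List.mem_cons.1 hz with rfl | hz
        · exact ⟨1, Subgroup.one_mem _, Or.inr (mul_one _).symm⟩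
        · exact ⟨z, mem_listClosure hz, Or.inl rfl⟩
      · intro a _ ha
        have hpow : ∀ n : ℕ, P (a ^ n) := fun n => by
          induction n with
          | zero => exact ⟨1, Subgroup.one_mem _, Or.inl (pow_zero a)⟩
          | succ n ihn => rw [pow_succ]; exact hP _ _ ihn ha
        have h1 : a⁻¹ = a ^ (orderOf a - 1) := by
          refine inv_eq_of_mul_eq_one_right ?_
          rw [← pow_succ', Nat.sub_add_cancel (orderOf_pos a), pow_orderOf_eq_one]
        rw [h1]
        exact hpow _
    obtain ⟨m, rfl⟩ := ih z hz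
    rcases h with rfl | rfl
    · exact ⟨2 * m, by rw [sprod, if_neg (by omega), one_mul, Nat.mul_div_cancel_left _ two_pos]⟩
    · exact ⟨2 * m + 1, by
        rw [sprod, if_pos (by omega), show (2 * m + 1) / 2 = m by omega]⟩

omit [Finite G] in
theorem sprod_split : ∀ (l₁ l₂ : List G) (m : ℕ),
    sprod (l₁ ++ l₂) m = sprod l₁ (m % 2 ^ l₁.length) * sprod l₂ (m / 2 ^ l₁.length)
  | [], l₂, m => by simp [sprod]
  | x :: l₁, l₂, m => by
    rw [List.cons_append, sprod, sprod_split l₁ l₂, sprod, ← mul_assoc]
    have h1 : m % 2 ^ (x :: l₁).length % 2 = m % 2 := by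
      rw [List.length_cons, pow_succ', Nat.mod_mul_right_mod]
    have h2 : m % 2 ^ (x :: l₁).length / 2 = m / 2 % 2 ^ l₁.length := by
      rw [List.length_cons, pow_succ', Nat.mod_mul_right_div_self]
    rw [h1, h2, List.length_cons, pow_succ', Nat.div_div_eq_div_mul]

end Cfsg.Agent.TwistedF4Two
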