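import Cfsg.Agent.TwistedF4Two.MultData
import Cfsg.Agent.TwistedF4Two.MultPacked
import Cfsg.Agent.StemCert.Packed

/-! Checks over consecutive ranges. -/

set_option autoImplicit false

namespace Cfsg.Agent.TwistedF4Two.MultCert

open Cfsg.Agent.Compute Cfsg.Agent.StemCert

/-- The check on the `q`-th range of length 351. -/
noncomputable def rangeB (f : ℕ → Bool) (q : ℕ) : Bool :=
  allBelow 351 fun j => f (Nat.add (Nat.mul 351 q) j)

/-- The packed value check of one entry. -/
noncomputable def pvEnt (i s j : ℕ) : Bool :=
  pcong cert.md cert.dim (pvAt pvs (i, s, j)) (entAt cert.D (i, s, j)).e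

theorem allBelow_of_ranges {f : ℕ → Bool} (h : ∀ q < 5, rangeB f q = true) :
    allBelow 1755 f = true := by
  refine allBelow_eq_true.mpr fun j hj => ?_
  have := allBelow_eq_true.mp (h (j / 351) (by omega)) (j % 351) (Nat.mod_lt _ (by norm_num))
  change f (351 * (j / 351) + j % 351) = true at this
  rwa [Nat.div_add_mod] at this

end Cfsg.Agent.TwistedF4Two.MultCert
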