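import Cfsg.Agent.TwistedF4Two.Main
import Cfsg.Agent.TwistedF4Two.PointData

/-!
# The order of the twisted F4 group over the field with two elements

The group acts on the orbit of a highest weight vector; the Bruhat cells are told apart by two weights.
-/

set_option autoImplicit false
set_option maxRecDepth 100000

namespace Cfsg.Agent.TwistedF4Two

open scoped Matrix
open MulAction

attribute [local irreducible] rho toM comp img Cfsg.Lie.chevF4 gen

/-- The module. -/
@[ext]
structure Vec where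
  /-- The coordinates. -/
  val : Fin 26 → ZMod 2

instance : Finite Vec := Finite.of_injective Vec.val fun _ _ h => Vec.ext h

instance vecAct : MulAction T Vec where
  smul g v := ⟨rho g *ᵥ v.val⟩
  one_smul v := by
    show Vec.mk (rho 1 *ᵥ v.val) = v
    rw [map_one, Matrix.one_mulVec]
  mul_smul g h v := by
    show Vec.mk (rho (g * h) *ᵥ v.val) = Vec.mk (rho g *ᵥ (rho h *ᵥ v.val))
    rw [map_mul, Matrix.mulVec_mulVec]

theorem smul_val (g : T) (v : Vec) : (g • v).val = rho g *ᵥ v.val := rfl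

/-- The vector with a given bit mask. -/
def vec (a : ℕ) : Vec := ⟨toV a⟩

theorem smul_vec {g : T} {A : List ℕ} (h : Rep g A) (a : ℕ) : g • vec a = vec (img A a) := by
  refine Vec.ext ?_
  rw [smul_val, h.1]
  exact toM_mulVec A h.2.le a

theorem vec_inj {a b : ℕ} (ha : a < 2 ^ 26) (hb : b < 2 ^ 26) (h : vec a = vec b) : a = b := by
  refine Nat.eq_of_testBit_eq fun i => ?_
  by_cases hi : i < 26
  · have := congrFun (congrArg Vec.val h) ⟨i, hi⟩
    simp only [vec, toV, bit] at this
    revert this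
    cases a.testBit i <;> cases b.testBit i <;> simp
  · have hp : 2 ^ 26 ≤ 2 ^ i := Nat.pow_le_pow_right two_pos (by omega)
    rw [Nat.testBit_lt_two_pow (lt_of_lt_of_le ha hp), Nat.testBit_lt_two_pow (lt_of_lt_of_le hb hp)]

theorem smul_mem_of_mem_closure {L : Set T} {O : Set Vec} (h : ∀ g ∈ L, ∀ v ∈ O, g • v ∈ O) :
    ∀ g ∈ Subgroup.closure L, ∀ v ∈ O, g • v ∈ O := by
  intro g hg
  induction hg using Subgroup.closure_induction with
  | mem x hx => exact h x hx
  | one => intro v hv; rwa [one_smul]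
  | mul x y _ _ hx hy => intro v hv; rw [mul_smul]; exact hx _ (hy v hv)
  | inv x _ hx =>
    intro v hv
    have hp : ∀ n : ℕ, x ^ n • v ∈ O := fun n => by
      induction n with
      | zero => rwa [pow_zero, one_smul]
      | succ n ih => rw [pow_succ', mul_smul]; exact hx _ ih
    have e : x⁻¹ = x ^ (orderOf x - 1) := by
      refine inv_eq_of_mul_eq_one_right ?_
      rw [← pow_succ', Nat.sub_add_cancel (orderOf_pos x), pow_orderOf_eq_one]
    rw [e]; exact hp _

/-- The masks in a list, as vectors. -/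
def vecSet (l : List ℕ) : Set Vec := {v | ∃ a ∈ l, v = vec a}

theorem ncard_vecSet {l : List ℕ} (hn : l.Nodup) (hl : ∀ a ∈ l, a < 2 ^ 26) :
    (vecSet l).ncard = l.length := by
  have e : vecSet l = vec '' (l.toFinset : Set ℕ) := by
    ext v; simp [vecSet, eq_comm]
  rw [e, Set.InjOn.ncard_image, Set.ncard_coe_finset, List.toFinset_card_of_nodup hn]
  intro a ha b hb h
  exact vec_inj (hl a (List.mem_toFinset.1 ha)) (hl b (List.mem_toFinset.1 hb)) h

/-- A list of matrices preserving a list of masks. -/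
def closedB (L : List (List ℕ)) (O : List ℕ) : Bool :=
  L.all fun A => O.all fun a => O.contains (img A a)

theorem smul_mem_vecSet {L : List T} {A : List (List ℕ)} (hr : ∀ g ∈ L, ∃ B ∈ A, Rep g B)
    {O : List ℕ} (h : closedB A O = true) : ∀ g ∈ listClosure L, ∀ v ∈ vecSet O, g • v ∈ vecSet O := by
  refine smul_mem_of_mem_closure ?_
  rintro g hg v ⟨a, ha, rfl⟩
  obtain ⟨B, hB, hrep⟩ := hr g hg
  simp only [closedB, List.all_eq_true, List.contains_iff_mem] at h
  exact ⟨_, h B hB a ha, smul_vec hrep a⟩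

theorem rep_of_mem_pc {g : T} (hg : g ∈ pc) : ∃ k, k < 12 ∧ g = pc.getD k 1 ∧ Rep g (pcMats.getD k []) := by
  obtain ⟨k, hk, rfl⟩ := List.getElem_of_mem hg
  have hk' : k < 12 := pc_length ▸ hk
  refine ⟨k, hk', (List.getD_eq_getElem _ _ hk).symm, ?_⟩
  rw [← List.getD_eq_getElem _ 1 hk]
  exact rep_pc' hk'

theorem mem_pcMats {k : ℕ} (hk : k < 12) : pcMats.getD k [] ∈ pcMats := by
  rw [List.getD_eq_getElem _ _ (lt_of_lt_of_eq hk pcMats_length.symm)]
  exact List.getElem_mem _

theorem rep_pc_drop_mem (i : ℕ) : ∀ g ∈ pc.drop i, ∃ B ∈ pcMats.drop i, Rep g B := by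
  intro g hg
  obtain ⟨k, hk, rfl⟩ := List.getElem_of_mem hg
  rw [List.length_drop, pc_length] at hk
  refine ⟨pcMats.getD (i + k) [], ?_, ?_⟩
  · have hk' : k < (pcMats.drop i).length := by rw [List.length_drop, pcMats_length]; omega
    rw [List.getD_eq_getElem _ _ (by rw [pcMats_length]; omega), ← List.getElem_drop (h := hk')]
    exact List.getElem_mem _
  · rw [List.getElem_drop, ← List.getD_eq_getElem _ 1]
    exact rep_pc' (by omega)

/-! ### The unipotent group -/

theorem sep_ok : ∀ i : Fin 12,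
    (sepData.getD (i : ℕ) (0, [])).2.contains (sepData.getD (i : ℕ) (0, [])).1 = true ∧
    closedB (pcMats.drop ((i : ℕ) + 1)) (sepData.getD (i : ℕ) (0, [])).2 = true ∧
    (sepData.getD (i : ℕ) (0, [])).2.contains
      (img (pcMats.getD (i : ℕ) []) (sepData.getD (i : ℕ) (0, [])).1) = false ∧
    (sepData.getD (i : ℕ) (0, [])).2.all (· < 2 ^ 26) = true ∧
    img (pcMats.getD (i : ℕ) []) (sepData.getD (i : ℕ) (0, [])).1 < 2 ^ 26 := by decide +kernel

theorem pc_not_mem_drop {i : ℕ} (hi : i < 12) :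
    pc.getD i 1 ∉ listClosure (pc.drop (i + 1)) := by
  intro hmem
  obtain ⟨h1, h2, h3, h4, h5⟩ := sep_ok ⟨i, hi⟩
  simp only at h1 h2 h3 h4 h5
  obtain ⟨a, ha, e⟩ := smul_mem_vecSet (rep_pc_drop_mem (i + 1)) h2 _ hmem _
    ⟨_, List.contains_iff_mem.1 h1, rfl⟩
  rw [smul_vec (rep_pc' hi)] at e
  have := vec_inj h5 (by simpa using List.all_eq_true.1 h4 a ha) e
  rw [this] at h3
  rw [List.contains_iff_mem.2 ha] at h3
  exact absurd h3 (by simp)

theorem sprod_mod {l : List T} (m : ℕ) : sprod l m = sprod l (m % 2 ^ l.length) := by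
  have := sprod_split l [] m
  rwa [List.append_nil, show sprod ([] : List T) (m / 2 ^ l.length) = 1 from rfl, mul_one] at this

theorem card_drop : ∀ n i : ℕ, i + n = 12 → Nat.card (listClosure (pc.drop i)) = 2 ^ n := by
  intro n
  induction n with
  | zero =>
    intro i hi
    have e : pc.drop i = [] := List.drop_eq_nil_of_le (by rw [pc_length]; omega)
    rw [e, show listClosure ([] : List T) = ⊥ by
      refine (Subgroup.closure_eq_bot_iff).2 ?_; intro z hz; simp at hz, Subgroup.card_bot, pow_zero]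
  | succ n ih =>
    intro i hi
    have hlt : i < pc.length := by rw [pc_length]; omega
    have hmem : pc.getD i 1 ∈ listClosure (pc.drop i) := mem_listClosure (by
      rw [List.drop_eq_getElem_cons hlt, List.getD_eq_getElem _ _ hlt]; exact List.mem_cons_self)
    have hle : listClosure (pc.drop (i + 1)) ≤ listClosure (pc.drop i) := Subgroup.closure_mono fun z hz => by
      simp only [Set.mem_setOf_eq] at hz ⊢
      rw [List.drop_eq_getElem_cons hlt]; exact List.mem_cons_of_mem _ hz
    refine le_antisymm ?_ ?_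
    · have hlen : (pc.drop i).length = n + 1 := by rw [List.length_drop, pc_length]; omega
      have hsurj : Function.Surjective fun m : Fin (2 ^ (n + 1)) =>
          (⟨sprod (pc.drop i) m, sprod_mem (fun _ => mem_listClosure) _⟩ : listClosure (pc.drop i)) := by
        rintro ⟨g, hg⟩
        obtain ⟨m, rfl⟩ := exists_sprod (collected_drop (n + 1) i hi) g hg
        refine ⟨⟨m % 2 ^ (n + 1), Nat.mod_lt _ (by positivity)⟩, Subtype.ext ?_⟩
        show sprod (pc.drop i) (m % 2 ^ (n + 1)) = sprod (pc.drop i) m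
        exact ((sprod_mod m).trans (by rw [hlen])).symm
      have := Nat.card_le_card_of_surjective _ hsurj
      rwa [Nat.card_fin] at this
    · have hrel : 2 ≤ (listClosure (pc.drop (i + 1))).relIndex (listClosure (pc.drop i)) := by
        have h0 : (listClosure (pc.drop (i + 1))).relIndex (listClosure (pc.drop i)) ≠ 0 :=
          Subgroup.index_ne_zero_of_finite
        have h1 : (listClosure (pc.drop (i + 1))).relIndex (listClosure (pc.drop i)) ≠ 1 := fun e =>
          pc_not_mem_drop (by omega) (Subgroup.relIndex_eq_one.1 e hmem)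
        omega
      rw [← Subgroup.card_mul_index ((listClosure (pc.drop (i + 1))).subgroupOf (listClosure (pc.drop i))),
        Nat.card_congr (Subgroup.subgroupOfEquivOfLe hle).toEquiv, ih (i + 1) (by omega), pow_succ]
      exact Nat.mul_le_mul_left _ hrel

theorem card_UT : Nat.card UT = 4096 := by simpa [UT] using card_drop 12 0 rfl

/-! ### The two weights -/

/-- The highest weight vector. -/
def hi0 : Vec := vec (2 ^ 25)

/-- The second vector. -/
def hi1 : Vec := vec (2 ^ 24)

theorem weights_ok : (∀ w : Fin 16, img (weylMats.getD (w : ℕ) []) (2 ^ 25) = 2 ^ (weights.getD (w : ℕ) (0, 0)).1 ∧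
      img (weylMats.getD (w : ℕ) []) (2 ^ 24) = 2 ^ (weights.getD (w : ℕ) (0, 0)).2 ∧
      img (weylMats.getD (w : ℕ) []) (2 ^ 24 + 2 ^ 25) =
        2 ^ (weights.getD (w : ℕ) (0, 0)).2 + 2 ^ (weights.getD (w : ℕ) (0, 0)).1 ∧
      (weights.getD (w : ℕ) (0, 0)).1 < 26 ∧ (weights.getD (w : ℕ) (0, 0)).2 < 26 ∧
      (weights.getD (w : ℕ) (0, 0)).1 ≠ (weights.getD (w : ℕ) (0, 0)).2) ∧
    (∀ w w' : Fin 16, weights.getD (w : ℕ) (0, 0) = weights.getD (w' : ℕ) (0, 0) → w = w') ∧
    (∀ w : Fin 16, (weights.getD (w : ℕ) (0, 0)).1 = 25 → (w : ℕ) = 0 ∨ (w : ℕ) = 2) ∧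
    closedB pcMats [2 ^ 25] = true ∧ closedB pcMats [2 ^ 24, 2 ^ 24 + 2 ^ 25] = true ∧
    weylWords.getD 2 [] = [2] := by
  decide +kernel

theorem rep_mem_pcMats : ∀ g ∈ pc, ∃ B ∈ pcMats, Rep g B := fun g hg => by
  obtain ⟨k, hk, -, h⟩ := rep_of_mem_pc hg
  exact ⟨_, mem_pcMats hk, h⟩

theorem smul_hi0 {u : T} (hu : u ∈ UT) : u • hi0 = hi0 := by
  obtain ⟨a, ha, e⟩ := smul_mem_vecSet rep_mem_pcMats weights_ok.2.2.2.1 u hu hi0
    ⟨_, List.mem_cons_self, rfl⟩
  rw [List.mem_singleton] at ha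
  rw [e, ha]; rfl

theorem smul_hi1 {u : T} (hu : u ∈ UT) :
    u • hi1 = hi1 ∨ u • hi1 = vec (2 ^ 24 + 2 ^ 25) := by
  obtain ⟨a, ha, e⟩ := smul_mem_vecSet rep_mem_pcMats weights_ok.2.2.2.2.1 u hu hi1
    ⟨_, List.mem_cons_self, rfl⟩
  rcases List.mem_pair.1 ha with rfl | rfl
  · exact Or.inl e
  · exact Or.inr e

theorem vec_pow_apply (p : ℕ) (r : Fin 26) : (vec (2 ^ p)).val r = if p = (r : ℕ) then 1 else 0 := by
  simp [vec, toV, bit, Nat.testBit_two_pow]

theorem vec_add_pow {p q : ℕ} (h : p ≠ q) :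
    (vec (2 ^ q + 2 ^ p)).val = (vec (2 ^ q)).val + (vec (2 ^ p)).val := by
  funext r
  have e : ∀ a b : ℕ, a < b → 2 ^ b + 2 ^ a = 2 ^ b ||| 2 ^ a := fun a b hab => by
    have := Nat.two_pow_add_eq_or_of_lt (Nat.pow_lt_pow_right one_lt_two hab) 1
    simpa using this
  show bit (2 ^ q + 2 ^ p) r = bit (2 ^ q) r + bit (2 ^ p) r
  rcases lt_or_gt_of_ne h with hlt | hlt
  · simp only [bit, e p q hlt, Nat.testBit_or, Nat.testBit_two_pow]
    by_cases h1 : q = (r : ℕ) <;> by_cases h2 : p = (r : ℕ) <;> simp_all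
  · simp only [bit, add_comm (2 ^ q) (2 ^ p), e q p hlt, Nat.testBit_or, Nat.testBit_two_pow]
    by_cases h1 : q = (r : ℕ) <;> by_cases h2 : p = (r : ℕ) <;> simp_all

/-- A unipotent element has coefficient one on the diagonal. -/
theorem rho_diag {x : T} (hx : x ∈ UT) (k : Fin 26) : rho x k k = 1 := by
  have h := unitri_mem hx k k
  by_contra hne
  have hz : (rho x + 1) k k ≠ 0 := by
    rw [Matrix.add_apply, Matrix.one_apply_eq]
    intro e
    exact hne (CharTwo.add_eq_zero.1 e)
  have := h hz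
  push_cast at this
  omega

theorem smul_basis_diag {x : T} (hx : x ∈ UT) (k : Fin 26) :
    (x • vec (2 ^ (k : ℕ))).val k = 1 := by
  rw [smul_val]
  simp only [Matrix.mulVec, dotProduct]
  rw [Finset.sum_eq_single k]
  · rw [vec_pow_apply, if_pos rfl, mul_one, rho_diag hx]
  · intro b _ hb; rw [vec_pow_apply, if_neg (fun e => hb (Fin.ext e.symm)), mul_zero]
  · simp

theorem smul_basis_eq {x : T} (hx : x ∈ UT) {p p' : ℕ} (hp : p < 26)
    (h : x • vec (2 ^ p) = vec (2 ^ p')) : p = p' := by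
  have e := congrFun (congrArg Vec.val h) ⟨p, hp⟩
  rw [vec_pow_apply, smul_basis_diag hx ⟨p, hp⟩] at e
  by_contra hne
  rw [if_neg (Ne.symm hne)] at e
  exact one_ne_zero e

theorem rep_weyl_smul {w : ℕ} (hw : w < 16) :
    weylEl w • hi0 = vec (2 ^ (weights.getD w (0, 0)).1) ∧
    weylEl w • hi1 = vec (2 ^ (weights.getD w (0, 0)).2) ∧
    weylEl w • vec (2 ^ 24 + 2 ^ 25) =
      vec (2 ^ (weights.getD w (0, 0)).2 + 2 ^ (weights.getD w (0, 0)).1) := by
  obtain ⟨h1, h2, h3, -⟩ := weights_ok.1 ⟨w, hw⟩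
  simp only at h1 h2 h3
  exact ⟨by rw [hi0, smul_vec (rep_weyl hw), h1], by rw [hi1, smul_vec (rep_weyl hw), h2],
    by rw [smul_vec (rep_weyl hw), h3]⟩

/-- The two weights determine the cell. -/
theorem cell_key {x y : T} (hx : x ∈ UT) (hy : y ∈ UT) {w w' : ℕ} (hw : w < 16) (hw' : w' < 16)
    (h0 : x • weylEl w • y • hi0 = weylEl w' • hi0) (h1 : x • weylEl w • y • hi1 = weylEl w' • hi1) :
    w = w' := by
  obtain ⟨-, -, -, hp, hq, hpq⟩ := weights_ok.1 ⟨w, hw⟩
  simp only at hp hq hpq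
  obtain ⟨a0, a1, a2⟩ := rep_weyl_smul hw
  obtain ⟨b0, b1, -⟩ := rep_weyl_smul hw'
  rw [smul_hi0 hy, a0, b0] at h0
  have e0 := smul_basis_eq hx hp h0
  have e1 : (weights.getD w (0, 0)).2 = (weights.getD w' (0, 0)).2 := by
    rcases smul_hi1 hy with h | h
    · rw [h, a1, b1] at h1
      exact smul_basis_eq hx hq h1
    · rw [h, a2, b1] at h1
      by_contra hne
      have e := congrFun (congrArg Vec.val h1) ⟨_, hq⟩
      rw [vec_pow_apply, if_neg (Ne.symm hne), smul_val, vec_add_pow hpq, Matrix.mulVec_add,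
        Pi.add_apply] at e
      have e2 := congrFun (congrArg Vec.val h0) ⟨_, hq⟩
      rw [smul_val, vec_pow_apply, if_neg (by rw [← e0]; exact hpq)] at e2
      have e3 := smul_basis_diag hx ⟨_, hq⟩
      rw [smul_val] at e3
      rw [e2, e3, add_zero] at e
      exact one_ne_zero e
  have := weights_ok.2.1 ⟨w, hw⟩ ⟨w', hw'⟩ (Prod.ext e0 e1)
  exact congrArg Fin.val this

theorem cell_eq {a b a' b' : T} (ha : a ∈ UT) (hb : b ∈ UT) (ha' : a' ∈ UT) (hb' : b' ∈ UT) {w w' : ℕ}
    (hw : w < 16) (hw' : w' < 16) (h : a * weylEl w * b = a' * weylEl w' * b') : w = w' := by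
  have e : a'⁻¹ * a * weylEl w * (b * b'⁻¹) = weylEl w' := by
    calc a'⁻¹ * a * weylEl w * (b * b'⁻¹) = a'⁻¹ * (a * weylEl w * b) * b'⁻¹ := by group
      _ = _ := by rw [h]; group
  refine cell_key (UT.mul_mem (UT.inv_mem ha') ha) (UT.mul_mem hb (UT.inv_mem hb')) hw hw' ?_ ?_ <;>
    rw [← mul_smul, ← mul_smul, e]

/-- The stabiliser of the highest weight vector. -/
def PT : Subgroup T := listClosure (pc ++ [s2])

theorem UT_le_PT : UT ≤ PT := Subgroup.closure_mono fun _ h => List.mem_append_left _ h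

theorem s2_mem_PT : s2 ∈ PT := mem_listClosure (List.mem_append_right _ List.mem_cons_self)

theorem weylEl_two : weylEl 2 = s2 := by
  rw [weylEl, weights_ok.2.2.2.2.2]; simp [wordG]

theorem weylEl_zero : weylEl 0 = 1 := by rw [weylEl, weyl_zero]; rfl

theorem stabilizer_hi0 : stabilizer T hi0 = PT := by
  refine le_antisymm (fun g hg => ?_) ((Subgroup.closure_le _).2 ?_)
  · obtain ⟨u, hu, w, hw, u', hu', rfl⟩ := inCells_all g
    rw [mem_stabilizer_iff, mul_smul, mul_smul, smul_hi0 hu', (rep_weyl_smul hw).1] at hg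
    have h25 : (weights.getD w (0, 0)).1 = 25 :=
      smul_basis_eq hu (weights_ok.1 ⟨w, hw⟩).2.2.2.1 hg
    rcases weights_ok.2.2.1 ⟨w, hw⟩ h25 with rfl | rfl
    · rw [weylEl_zero, mul_one]; exact PT.mul_mem (UT_le_PT hu) (UT_le_PT hu')
    · rw [weylEl_two]; exact PT.mul_mem (PT.mul_mem (UT_le_PT hu) s2_mem_PT) (UT_le_PT hu')
  · intro g hg
    rcases List.mem_append.1 hg with h | h
    · exact smul_hi0 (mem_listClosure h)
    · rw [List.mem_singleton] at h
      subst h
      have := (rep_weyl_smul (w := 2) (by norm_num)).1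
      rw [weylEl_two] at this
      show s2 • hi0 = hi0
      rw [this]
      rfl

theorem stabilizer_hi1_le {g : T} (h0 : g • hi0 = hi0) (h1 : g • hi1 = hi1) : g ∈ UT := by
  obtain ⟨u, hu, w, hw, u', hu', rfl⟩ := inCells_all g
  rw [mul_smul, mul_smul] at h0 h1
  have hw0 : w = 0 := cell_key hu hu' hw (by norm_num)
    (by rw [h0, weylEl_zero, one_smul]) (by rw [h1, weylEl_zero, one_smul])
  subst hw0
  rw [weylEl_zero, mul_one]
  exact UT.mul_mem hu hu'

/-! ### Orbits -/

theorem line_ok : closedB (pcMats ++ [w2M]) linePts = true ∧ linePts.Nodup ∧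
    linePts.all (· < 2 ^ 26) = true ∧ linePts.length = 10 ∧ linePts.getD 0 0 = 2 ^ 24 ∧
    (∀ i : Fin 10, (i : ℕ) = 0 ∨ ((linePar.getD (i : ℕ) (0, 0)).1 < (i : ℕ) ∧
      (linePar.getD (i : ℕ) (0, 0)).2 < 13 ∧
      img ((pcMats ++ [w2M]).getD (linePar.getD (i : ℕ) (0, 0)).2 [])
        (linePts.getD (linePar.getD (i : ℕ) (0, 0)).1 0) = linePts.getD (i : ℕ) 0)) ∧
    (∀ a ∈ [2 ^ 24, 2 ^ 24 + 2 ^ 25], a < 2 ^ 26) ∧
    img (pcMats.getD 1 []) (2 ^ 24) = 2 ^ 24 + 2 ^ 25 := by decide +kernel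

theorem rep_PT_gen {g : T} (hg : g ∈ pc ++ [s2]) : ∃ B ∈ pcMats ++ [w2M], Rep g B := by
  rcases List.mem_append.1 hg with h | h
  · obtain ⟨B, hB, hr⟩ := rep_mem_pcMats g h
    exact ⟨B, List.mem_append_left _ hB, hr⟩
  · rw [List.mem_singleton] at h
    subst h
    exact ⟨w2M, List.mem_append_right _ List.mem_cons_self, rep_s2⟩

theorem rep_PT_getD {j : ℕ} (hj : j < 13) :
    ((pc ++ [s2]).getD j 1) ∈ PT ∧ Rep ((pc ++ [s2]).getD j 1) ((pcMats ++ [w2M]).getD j []) := by
  have hl1 : j < (pc ++ [s2]).length := by rw [List.length_append, pc_length]; simpa using hj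
  refine ⟨?_, ?_⟩
  · rw [List.getD_eq_getElem _ _ hl1]; exact mem_listClosure (List.getElem_mem hl1)
  by_cases h : j < 12
  · rw [List.getD_append _ _ _ _ (pc_length.symm ▸ h), List.getD_append _ _ _ _ (pcMats_length.symm ▸ h)]
    exact rep_pc' h
  · obtain rfl : j = 12 := by omega
    rw [List.getD_append_right _ _ _ _ (by rw [pc_length]),
      List.getD_append_right _ _ _ _ (by rw [pcMats_length]), pc_length, pcMats_length]
    exact rep_s2

theorem orbit_hi1 : orbit PT hi1 = vecSet linePts := by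
  ext v
  constructor
  · rintro ⟨⟨g, hg⟩, rfl⟩
    refine smul_mem_vecSet (fun g hg => rep_PT_gen hg) line_ok.1 g hg hi1 ⟨2 ^ 24, ?_, rfl⟩
    rw [← line_ok.2.2.2.2.1, List.getD_eq_getElem _ _ (by rw [line_ok.2.2.2.1]; norm_num)]
    exact List.getElem_mem _
  · rintro ⟨a, ha, rfl⟩
    obtain ⟨i, hi, rfl⟩ := List.getElem_of_mem ha
    rw [← List.getD_eq_getElem _ 0 hi]
    suffices ∀ i < 10, vec (linePts.getD i 0) ∈ orbit PT hi1 from this i (line_ok.2.2.2.1 ▸ hi)
    clear ha hi i
    intro i hi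
    induction i using Nat.strong_induction_on with
    | _ i ih =>
      rcases line_ok.2.2.2.2.2.1 ⟨i, hi⟩ with h | ⟨h1, h2, h3⟩
      · simp only at h
        subst h
        rw [line_ok.2.2.2.2.1]
        exact mem_orbit_self hi1
      · simp only at h1 h2 h3
        obtain ⟨⟨g, hg⟩, e⟩ := ih _ h1 (lt_trans h1 hi)
        obtain ⟨hm, hr⟩ := rep_PT_getD h2
        refine ⟨⟨_, PT.mul_mem hm hg⟩, ?_⟩
        show ((pc ++ [s2]).getD _ 1 * g) • hi1 = _
        rw [mul_smul, show g • hi1 = _ from e, smul_vec hr, h3]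

theorem card_stabilizer_subgroup (H : Subgroup T) (v : Vec) :
    Nat.card (stabilizer H v) = Nat.card (stabilizer T v ⊓ H : Subgroup T) := by
  have e : stabilizer H v = (stabilizer T v ⊓ H).subgroupOf H := by
    ext g
    simp [Subgroup.mem_subgroupOf, mem_stabilizer_iff, Subgroup.smul_def]
  rw [e, Nat.card_congr (Subgroup.subgroupOfEquivOfLe inf_le_right).toEquiv]

theorem card_eq_orbit_mul (H : Subgroup T) (v : Vec) :
    Nat.card H = (orbit H v).ncard * Nat.card (stabilizer T v ⊓ H : Subgroup T) := by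
  rw [← card_stabilizer_subgroup, ← index_stabilizer, mul_comm, Subgroup.card_mul_index]

theorem card_PT : Nat.card PT = 20480 := by
  have hU : (orbit UT hi1).ncard = 2 := by
    have e : orbit UT hi1 = vecSet [2 ^ 24, 2 ^ 24 + 2 ^ 25] := by
      ext v
      constructor
      · rintro ⟨⟨g, hg⟩, rfl⟩
        show g • hi1 ∈ _
        rcases smul_hi1 hg with h | h <;> rw [h]
        · exact ⟨_, List.mem_cons_self, rfl⟩
        · exact ⟨_, List.mem_cons_of_mem _ List.mem_cons_self, rfl⟩
      · rintro ⟨a, ha, rfl⟩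
        rcases List.mem_pair.1 ha with rfl | rfl
        · exact mem_orbit_self hi1
        · refine ⟨⟨pc.getD 1 1, pc_getD_mem 1⟩, ?_⟩
          show pc.getD 1 1 • hi1 = _
          rw [hi1, smul_vec (rep_pc' (by norm_num)), line_ok.2.2.2.2.2.2.2]
    rw [e, ncard_vecSet (by decide) line_ok.2.2.2.2.2.2.1]
    rfl
  have hP : (orbit PT hi1).ncard = 10 := by
    rw [orbit_hi1, ncard_vecSet line_ok.2.1 (fun a ha => by simpa using List.all_eq_true.1 line_ok.2.2.1 a ha),
      line_ok.2.2.2.1]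
  have hinf : stabilizer T hi1 ⊓ PT = stabilizer T hi1 ⊓ UT := by
    refine le_antisymm (fun g hg => ⟨hg.1, stabilizer_hi1_le ?_ hg.1⟩) (inf_le_inf_left _ UT_le_PT)
    have := hg.2
    rw [← stabilizer_hi0] at this
    exact this
  have h1 := card_eq_orbit_mul UT hi1
  have h2 := card_eq_orbit_mul PT hi1
  rw [card_UT, hU] at h1
  rw [hP, hinf] at h2
  omega

namespace PtTree

/-- The keys, in order. -/
def keys : PtTree → List ℕ
  | .leaf => []
  | .node k _ l r => l.keys ++ k :: r.keys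

/-- Search. -/
def find : PtTree → ℕ → Option PtInfo
  | .leaf, _ => none
  | .node k i l r, x => if x = k then some i else if x < k then l.find x else r.find x

theorem mem_keys_of_find : ∀ {t : PtTree} {x : ℕ} {i : PtInfo}, t.find x = some i → x ∈ t.keys
  | .leaf, _, _, h => by simp [find] at h
  | .node k j l r, x, i, h => by
    simp only [find] at h
    simp only [keys, List.mem_append, List.mem_cons]
    split_ifs at h with h1 h2
    · exact Or.inr (Or.inl h1)
    · exact Or.inl (mem_keys_of_find h)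
    · exact Or.inr (Or.inr (mem_keys_of_find h))

end PtTree

/-- Increasing lists. -/
def incB : List ℕ → Bool
  | a :: b :: l => decide (a < b) && incB (b :: l)
  | _ => true

theorem nodup_of_incB : ∀ {l : List ℕ}, incB l = true → l.Nodup ∧ ∀ a ∈ l.head?, ∀ b ∈ l.tail, a < b
  | [], _ => by simp
  | [a], _ => by simp
  | a :: b :: l, h => by
    simp only [incB, Bool.and_eq_true, decide_eq_true_eq] at h
    obtain ⟨hn, hlt⟩ := nodup_of_incB h.2
    have hall : ∀ c ∈ b :: l, a < c := by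
      intro c hc
      rcases List.mem_cons.1 hc with rfl | hc
      · exact h.1
      · exact h.1.trans (hlt b (by simp) c hc)
    exact ⟨List.nodup_cons.2 ⟨fun hm => lt_irrefl _ (hall a hm), hn⟩, by simpa using hall⟩

/-- The test of a point in the orbit tree. -/
def ptOkB (k : ℕ) : Bool :=
  match ptTree.find k with
  | none => false
  | some i => (k == 2 ^ 25 && i.dep == 0) ||
      match ptTree.find i.par with
      | none => false
      | some j => decide (j.dep < i.dep) && decide (i.gen < 4) && img (letters.getD i.gen []) i.par == k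

/-- The closure test of a point. -/
def ptClosedB (k : ℕ) : Bool := letters.all fun A => (ptTree.find (img A k)).isSome

theorem pts_ok : incB ptTree.keys = true ∧ ptTree.keys.length = 1755 ∧
    ptTree.keys.all (· < 2 ^ 26) = true ∧ (ptTree.find (2 ^ 25)).isSome = true := by decide +kernel

theorem pts_closed : ptTree.keys.all ptClosedB = true := by decide +kernel

theorem pts_reached : ptTree.keys.all ptOkB = true := by decide +kernel

theorem hi0_mem_pts : hi0 ∈ vecSet ptTree.keys := by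
  obtain ⟨i, hi⟩ := Option.isSome_iff_exists.1 pts_ok.2.2.2
  exact ⟨_, PtTree.mem_keys_of_find hi, rfl⟩

theorem letters_smul_pts : ∀ g : T, ∀ v ∈ vecSet ptTree.keys, g • v ∈ vecSet ptTree.keys := by
  intro g
  refine smul_mem_of_mem_closure (L := Set.range gen) ?_ g (closure_letters ▸ Subgroup.mem_top g)
  rintro x ⟨k, rfl⟩ v ⟨a, ha, rfl⟩
  have h := List.all_eq_true.1 pts_closed a ha
  simp only [ptClosedB, List.all_eq_true] at h
  have hk : letters.getD (k : ℕ) [] ∈ letters := by
    rw [List.getD_eq_getElem _ _ (show (k : ℕ) < letters.length from k.2)]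
    exact List.getElem_mem _
  obtain ⟨i, hi⟩ := Option.isSome_iff_exists.1 (h _ hk)
  exact ⟨_, PtTree.mem_keys_of_find hi, smul_vec (rep_gen k) a⟩

theorem orbit_hi0 : orbit T hi0 = vecSet ptTree.keys := by
  refine Set.Subset.antisymm ?_ ?_
  · rintro v ⟨g, rfl⟩
    exact letters_smul_pts g hi0 hi0_mem_pts
  rintro v ⟨a, ha, rfl⟩
  suffices ∀ n, ∀ a i, ptTree.find a = some i → i.dep = n → vec a ∈ orbit T hi0 by
    have h := List.all_eq_true.1 pts_reached a ha
    simp only [ptOkB] at h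
    split at h
    · exact absurd h (by simp)
    · next i hi => exact this _ a i hi rfl
  intro n
  induction n using Nat.strong_induction_on with
  | _ n ih =>
    intro a i hi hn
    have h := List.all_eq_true.1 pts_reached a (PtTree.mem_keys_of_find hi)
    simp only [ptOkB, hi, Bool.or_eq_true, Bool.and_eq_true, beq_iff_eq] at h
    rcases h with ⟨rfl, -⟩ | h
    · exact mem_orbit_self hi0
    · split at h
      · exact absurd h (by simp)
      · next j hj =>
        simp only [Bool.and_eq_true, decide_eq_true_eq, beq_iff_eq] at h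
        obtain ⟨⟨h1, h2⟩, h3⟩ := h
        obtain ⟨g, hg⟩ := ih j.dep (hn ▸ h1) i.par j hj rfl
        refine ⟨gen ⟨i.gen, h2⟩ * g, ?_⟩
        show (gen ⟨i.gen, h2⟩ * g) • hi0 = _
        rw [mul_smul, show g • hi0 = _ from hg, smul_vec (rep_gen ⟨i.gen, h2⟩), h3]

theorem ncard_orbit_hi0 : (orbit T hi0).ncard = 1755 := by
  rw [orbit_hi0, ncard_vecSet (nodup_of_incB pts_ok.1).1
    (fun a ha => by simpa using List.all_eq_true.1 pts_ok.2.2.1 a ha), pts_ok.2.1]

/-- The order of the group. -/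
theorem card_T : Nat.card T = 35942400 := by
  rw [← Subgroup.card_mul_index (stabilizer T hi0), index_stabilizer, ncard_orbit_hi0, stabilizer_hi0, card_PT]

end Cfsg.Agent.TwistedF4Two
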