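import Cfsg.Agent.TwistedF4Two.RepA
import Cfsg.Agent.Chev.SimpleAll
import Cfsg.Prelude.Def_LieTwisted

/-!
# The twenty-six dimensional representation of the twisted F4 group over the field with two elements
-/

set_option autoImplicit false
set_option maxRecDepth 100000
set_option maxHeartbeats 1000000

namespace Cfsg.Agent.TwistedF4Two

open Cfsg.Lie
open scoped MatrixGroups Matrix

/-- The monoid of matrices leaving the ideal invariant. -/
def good : Submonoid (GL chevF4.Idx (ZMod 2)) where
  carrier := {g | Stable (g : Matrix chevF4.Idx chevF4.Idx (ZMod 2))}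
  one_mem' := stable_one
  mul_mem' := fun {a b} ha hb => by
    rw [Set.mem_setOf_eq, Units.val_mul]; exact stable_mul ha hb

theorem group_le_good {g : GL chevF4.Idx (ZMod 2)} (hg : g ∈ chevF4.group (ZMod 2)) : g ∈ good := by
  rw [Chev.group_eq_closure_simple Chev.facts_chevF4] at hg
  refine Subgroup.closure_induction (p := fun x _ => x ∈ good) ?_ good.one_mem
    (fun _ _ _ _ hx hy => good.mul_mem hx hy) ?_ hg
  · have key : ∀ (r : ℕ), r ∈ rootIdx → ∀ t : ZMod 2,
        Chev.xG Chev.facts_chevF4 r t ∈ good := by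
      intro r hr t
      change Stable _
      rw [Chev.xG_val]
      rcases zmod2_cases t with rfl | rfl
      · rw [x_zero]; exact stable_one
      · exact stable_root hr
    rintro x ⟨i, t, rfl | rfl⟩
    · exact key _ (simple_root_mem i).1 t
    · exact key _ (simple_root_mem i).2 t
  · intro x _ hx
    obtain ⟨n, hn⟩ : ∃ n : ℕ, x⁻¹ = x ^ n := by
      refine ⟨orderOf x - 1, inv_eq_of_mul_eq_one_right ?_⟩
      rw [← pow_succ', Nat.sub_add_cancel (orderOf_pos x), pow_orderOf_eq_one]
    rw [hn]
    exact good.pow_mem hx n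

/-- The representation of the untwisted group. -/
def resHom : ↥(chevF4.group (ZMod 2)) →* M where
  toFun g := res ((g : GL chevF4.Idx (ZMod 2)) : Matrix chevF4.Idx chevF4.Idx (ZMod 2))
  map_one' := res_one
  map_mul' _ h := res_mul (group_le_good h.2)

theorem resHom_injective : Function.Injective resHom := by
  have hs := (Chev.f4_simple (ZMod 2)).1
  let φ : ↥(chevF4.group (ZMod 2)) →* Mˣ := resHom.toHomUnits
  rcases hs.eq_bot_or_eq_top_of_normal φ.ker inferInstance with h | h
  · intro a b hab
    exact (MonoidHom.ker_eq_bot_iff φ).1 h (Units.ext hab)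
  · exfalso
    let g : ↥(chevF4.group (ZMod 2)) :=
      ⟨Chev.xG Chev.facts_chevF4 33 1, Chev.xG_mem_group _ _ _⟩
    have h1 : φ g = 1 := MonoidHom.mem_ker.1 (h ▸ Subgroup.mem_top g)
    have h2 : res (chevF4.x (ZMod 2) 33 1) = 1 := congrArg Units.val h1
    exact res_x_ne_one h2

/-- The group. -/
abbrev T : Type := ↥(twistedF4 (ZMod 2) 1)

theorem twisted_le : twistedF4 (ZMod 2) 1 ≤ chevF4.group (ZMod 2) := by
  refine (Subgroup.closure_le _).2 ?_
  rintro g ⟨w, -, hw⟩
  have : g = Chev.wordG Chev.facts_chevF4 w :=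
    Units.ext (hw.trans (Chev.wordG_val Chev.facts_chevF4 w).symm)
  rw [this]
  exact Chev.wordG_mem _ fun p _ => Chev.xG_mem_group _ _ _

/-- The representation. -/
def rho : T →* M := resHom.comp (Subgroup.inclusion twisted_le)

theorem rho_injective : Function.Injective rho :=
  resHom_injective.comp (Subgroup.inclusion_injective twisted_le)

/-- The roots of the words of the four generators. -/
def letterRoots : List (List ℕ) := [[33, 24], [14, 23], [27, 25, 28], [20, 22, 19]]

/-- The product of matrices of root elements. -/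
def rootWordM : List ℕ → List ℕ
  | [] => idB
  | r :: l => comp (rootMats.getD (rootIdx.idxOf r) []) (rootWordM l)

theorem res_wordMat : ∀ (w : List (ℕ × ZMod 2)) (l : List ℕ), (w.filter fun p => p.2 == 1).map Prod.fst = l →
    (∀ r ∈ l, r ∈ rootIdx) → (∀ p ∈ w, p.1 < 48) →
    res (chevF4.wordMat (ZMod 2) w) = toM (rootWordM l) ∧ Stable (chevF4.wordMat (ZMod 2) w)
  | [], l, h, _, _ => by
    subst h
    exact ⟨by rw [ChevalleyDatum.wordMat]; simpa [rootWordM, toM_idB] using res_one, stable_one⟩
  | (r, t) :: w, l, h, hl, hw => by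
    have hr : r < 48 := hw (r, t) List.mem_cons_self
    have hw' : ∀ p ∈ w, p.1 < 48 := fun p hp => hw p (List.mem_cons_of_mem _ hp)
    have hcons : chevF4.wordMat (ZMod 2) ((r, t) :: w) =
        chevF4.x (ZMod 2) r t * chevF4.wordMat (ZMod 2) w := by
      simp [ChevalleyDatum.wordMat]
    rcases zmod2_cases t with rfl | rfl
    · rw [hcons, x_zero, one_mul]
      exact res_wordMat w l (by simpa using h) hl hw'
    · subst h
      simp only [List.filter_cons, beq_self_eq_true, if_true, List.map_cons] at hl ⊢
      obtain ⟨h1, h2⟩ := res_wordMat w _ rfl (fun q hq => hl q (List.mem_cons_of_mem _ hq)) hw'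
      have hmem := hl r List.mem_cons_self
      have hlt : rootIdx.idxOf r < 12 := List.idxOf_lt_length_iff.2 hmem
      have hk := rootMats_ok ⟨rootIdx.idxOf r, hlt⟩
      have hget : rootIdx.getD (rootIdx.idxOf r) 0 = r := by
        rw [List.getD_eq_getElem _ _ (List.idxOf_lt_length_iff.2 hmem)]
        exact List.getElem_idxOf _
      simp only [hget] at hk
      refine ⟨?_, hcons ▸ stable_mul (stable_root hmem) h2⟩
      rw [hcons, res_mul h2, h1, rootWordM, toM_comp _ _ hk.2, hk.1]

theorem mem_twisted {w : List (ℕ × ZMod 2)} (hw : w ∈ f4Words (ZMod 2) 1) :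
    Chev.wordG Chev.facts_chevF4 w ∈ twistedF4 (ZMod 2) 1 :=
  Subgroup.subset_closure ⟨w, hw, Chev.wordG_val Chev.facts_chevF4 w⟩

/-- The element of a generating word. -/
def wordT (w : List (ℕ × ZMod 2)) (hw : w ∈ f4Words (ZMod 2) 1) : T := ⟨_, mem_twisted hw⟩

theorem rho_wordT {w : List (ℕ × ZMod 2)} (hw : w ∈ f4Words (ZMod 2) 1) {l : List ℕ}
    (hl : (w.filter fun p => p.2 == 1).map Prod.fst = l) (hsub : ∀ r ∈ l, r ∈ rootIdx)
    (h48 : ∀ p ∈ w, p.1 < 48) : rho (wordT w hw) = toM (rootWordM l) := by
  have := (res_wordMat w l hl hsub h48).1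
  rw [← this, ← Chev.wordG_val Chev.facts_chevF4]
  rfl

/-- The four generators. -/
def gen : Fin 4 → T
  | 0 => wordT (f4PairWord 1 f4p1 f4p4 1) (Or.inl ⟨1, Or.inl rfl⟩)
  | 1 => wordT (f4PairWord 1 f4m1 f4m4 1) (Or.inl ⟨1, Or.inr rfl⟩)
  | 2 => wordT (b2ClassWord 1 f4a f4b f4ab f4aab 1 0) (Or.inr ⟨1, 0, Or.inl rfl⟩)
  | 3 => wordT (b2ClassWord 1 f4ma f4mb f4mab f4maab 1 0) (Or.inr ⟨1, 0, Or.inr rfl⟩)

theorem letters_eq : ∀ k : Fin 4, rootWordM (letterRoots.getD (k : ℕ) []) = letters.getD (k : ℕ) [] ∧
    (letters.getD (k : ℕ) []).length = 26 := by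
  decide +kernel

theorem rho_gen : ∀ k : Fin 4, rho (gen k) = toM (letters.getD (k : ℕ) []) := by
  intro k
  rw [← (letters_eq k).1]
  fin_cases k
  · exact rho_wordT (w := f4PairWord 1 f4p1 f4p4 (1 : ZMod 2)) (Or.inl ⟨1, Or.inl rfl⟩) (l := [33, 24]) (by decide +kernel) (by decide +kernel)
      (by decide +kernel)
  · exact rho_wordT (w := f4PairWord 1 f4m1 f4m4 (1 : ZMod 2)) (Or.inl ⟨1, Or.inr rfl⟩) (l := [14, 23]) (by decide +kernel) (by decide +kernel)
      (by decide +kernel)
  · exact rho_wordT (w := b2ClassWord 1 f4a f4b f4ab f4aab (1 : ZMod 2) 0) (Or.inr ⟨1, 0, Or.inl rfl⟩) (l := [27, 25, 28]) (by decide +kernel) (by decide +kernel)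
      (by decide +kernel)
  · exact rho_wordT (w := b2ClassWord 1 f4ma f4mb f4mab f4maab (1 : ZMod 2) 0) (Or.inr ⟨1, 0, Or.inr rfl⟩) (l := [20, 22, 19]) (by decide +kernel) (by decide +kernel)
      (by decide +kernel)

/-- A letter given by a natural number. -/
def lt (n : ℕ) : T := gen ⟨n % 4, Nat.mod_lt _ (by norm_num)⟩

/-- The element of a word in the letters. -/
def elt (l : List ℕ) : T := (l.map lt).prod

/-- The bit matrix of a word in the letters. -/
def bword : List ℕ → List ℕ
  | [] => idB
  | k :: l => comp (letters.getD (k % 4) []) (bword l)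

theorem bword_length : ∀ l, (bword l).length = 26
  | [] => by decide
  | k :: l => by rw [bword, length_comp, bword_length l]

theorem rho_elt : ∀ l, rho (elt l) = toM (bword l)
  | [] => by rw [elt, List.map_nil, List.prod_nil, map_one, bword, toM_idB]
  | k :: l => by
    rw [elt, List.map_cons, List.prod_cons, map_mul, lt, rho_gen, bword,
      toM_comp _ _ (le_of_eq (letters_eq ⟨k % 4, Nat.mod_lt _ (by norm_num)⟩).2)]
    congr 1
    exact rho_elt l

theorem elt_eq_of_bword {l m : List ℕ} (h : bword l = bword m) : elt l = elt m :=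
  rho_injective (by rw [rho_elt, rho_elt, h])

theorem elt_append (l m : List ℕ) : elt (l ++ m) = elt l * elt m := by
  rw [elt, elt, elt, List.map_append, List.prod_append]

theorem word_mem_letters {w : List (ℕ × ZMod 2)} (hw : w ∈ f4Words (ZMod 2) 1) :
    wordT w hw ∈ Subgroup.closure (Set.range gen) := by
  have hmem : ∀ l : List ℕ, elt l ∈ Subgroup.closure (Set.range gen) := fun l =>
    Subgroup.list_prod_mem _ fun z hz => by
      obtain ⟨k, -, rfl⟩ := List.mem_map.1 hz
      exact Subgroup.subset_closure ⟨_, rfl⟩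
  have key : ∀ (l : List ℕ) (r : List ℕ), (w.filter fun p => p.2 == 1).map Prod.fst = r →
      (∀ q ∈ r, q ∈ rootIdx) → (∀ p ∈ w, p.1 < 48) → rootWordM r = bword l →
      wordT w hw ∈ Subgroup.closure (Set.range gen) := fun l r h1 h2 h3 h4 => by
    rw [show wordT w hw = elt l from
      rho_injective (by rw [rho_elt, rho_wordT hw h1 h2 h3, h4])]
    exact hmem l
  rcases hw with ⟨t, h | h⟩ | ⟨t, u, h | h⟩ <;> subst h
  · rcases zmod2_cases t with rfl | rfl
    · exact key [] [] (by decide +kernel) (by decide +kernel) (by decide +kernel) (by decide +kernel)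
    · exact key [0] [33, 24] (by decide +kernel) (by decide +kernel) (by decide +kernel)
        (by decide +kernel)
  · rcases zmod2_cases t with rfl | rfl
    · exact key [] [] (by decide +kernel) (by decide +kernel) (by decide +kernel) (by decide +kernel)
    · exact key [1] [14, 23] (by decide +kernel) (by decide +kernel) (by decide +kernel)
        (by decide +kernel)
  · rcases zmod2_cases t with rfl | rfl <;>
      rcases zmod2_cases u with rfl | rfl
    · exact key [] [] (by decide +kernel) (by decide +kernel) (by decide +kernel) (by decide +kernel)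
    · exact key [2, 2] [28, 30] (by decide +kernel) (by decide +kernel) (by decide +kernel)
        (by decide +kernel)
    · exact key [2] [27, 25, 28] (by decide +kernel) (by decide +kernel) (by decide +kernel)
        (by decide +kernel)
    · exact key [2, 2, 2] [27, 25, 30] (by decide +kernel) (by decide +kernel) (by decide +kernel)
        (by decide +kernel)
  · rcases zmod2_cases t with rfl | rfl <;>
      rcases zmod2_cases u with rfl | rfl
    · exact key [] [] (by decide +kernel) (by decide +kernel) (by decide +kernel) (by decide +kernel)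
    · exact key [3, 3] [19, 17] (by decide +kernel) (by decide +kernel) (by decide +kernel)
        (by decide +kernel)
    · exact key [3] [20, 22, 19] (by decide +kernel) (by decide +kernel) (by decide +kernel)
        (by decide +kernel)
    · exact key [3, 3, 3] [20, 22, 17] (by decide +kernel) (by decide +kernel) (by decide +kernel)
        (by decide +kernel)

theorem closure_letters : Subgroup.closure (Set.range gen) = ⊤ := by
  refine (Subgroup.map_injective (f := (twistedF4 (ZMod 2) 1).subtype) Subtype.val_injective) ?_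
  rw [← MonoidHom.range_eq_map, Subgroup.range_subtype]
  refine le_antisymm (Subgroup.map_subtype_le _) ((Subgroup.closure_le _).2 ?_)
  rintro x ⟨w, hw, hx⟩
  exact ⟨wordT w hw, word_mem_letters hw,
    Units.ext ((Chev.wordG_val Chev.facts_chevF4 w).trans hx.symm)⟩

end Cfsg.Agent.TwistedF4Two
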