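import Cfsg.Agent.TwistedF4Two.BitMat
import Cfsg.Agent.TwistedF4Two.Data
import Cfsg.Agent.TwistedF4Two.Cover
import Cfsg.Agent.Chev.All
import Cfsg.Agent.Chev.Generation

/-!
# Root elements of F4 over the field with two elements on the short-root ideal
-/

set_option autoImplicit false
set_option maxRecDepth 100000
set_option maxHeartbeats 4000000

namespace Cfsg.Agent.TwistedF4Two

open Cfsg.Lie
open scoped MatrixGroups Matrix

/-- The coordinates of the ideal. -/
def embI (i : Fin 26) : chevF4.Idx :=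
  if _h : emb.getD (i : ℕ) 0 < 4 then .inl ⟨emb.getD (i : ℕ) 0 % 4, Nat.mod_lt _ (by norm_num)⟩
  else .inr ⟨(emb.getD (i : ℕ) 0 - 4) % 48, Nat.mod_lt _ (by norm_num)⟩

/-- The submatrix on the ideal. -/
def res (g : Matrix chevF4.Idx chevF4.Idx (ZMod 2)) : M := g.submatrix embI embI

/-- The ideal is invariant. -/
def Stable (g : Matrix chevF4.Idx chevF4.Idx (ZMod 2)) : Prop :=
  ∀ a : chevF4.Idx, ∀ j : Fin 26, (∀ i, embI i ≠ a) → g a (embI j) = 0

theorem embI_injective : Function.Injective embI := by decide +kernel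

theorem res_mul {g h : Matrix chevF4.Idx chevF4.Idx (ZMod 2)} (hh : Stable h) :
    res (g * h) = res g * res h := by
  ext i j
  simp only [res, Matrix.submatrix_apply, Matrix.mul_apply]
  refine (Fintype.sum_of_injective embI embI_injective _ _ ?_ fun _ => rfl).symm
  intro a ha
  rw [hh a j fun i hi => ha ⟨i, hi⟩, mul_zero]

theorem stable_mul {g h : Matrix chevF4.Idx chevF4.Idx (ZMod 2)} (hg : Stable g) (hh : Stable h) :
    Stable (g * h) := by
  intro a j ha
  rw [Matrix.mul_apply]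
  refine Finset.sum_eq_zero fun b _ => ?_
  by_cases hb : ∃ i, embI i = b
  · obtain ⟨i, rfl⟩ := hb
    rw [hg a i ha, zero_mul]
  · rw [hh b j fun i hi => hb ⟨i, hi⟩, mul_zero]

instance (g : Matrix chevF4.Idx chevF4.Idx (ZMod 2)) : Decidable (Stable g) := by
  unfold Stable; infer_instance

theorem stable_one : Stable 1 := by
  intro a j ha
  exact Matrix.one_apply_ne (Ne.symm (ha j))

theorem res_one : res 1 = 1 := Matrix.submatrix_one embI embI_injective

theorem stable_gen : ∀ k : Fin 12, ∀ a : chevF4.Idx, (∀ i, embI i ≠ a) →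
    ∀ j : Fin 26, chevF4.x (ZMod 2) (rootIdx.getD (k : ℕ) 0) 1 a (embI j) = 0 := by decide +kernel

theorem stable_root {r : ℕ} (hr : r ∈ rootIdx) : Stable (chevF4.x (ZMod 2) r 1) := by
  intro a j ha
  have h := stable_gen ⟨rootIdx.idxOf r, List.idxOf_lt_length_iff.2 hr⟩ a ha j
  rwa [List.getD_eq_getElem _ _ (List.idxOf_lt_length_iff.2 hr), List.getElem_idxOf] at h

theorem zmod2_cases : ∀ t : ZMod 2, t = 0 ∨ t = 1 := by decide

theorem simple_root_mem : ∀ i : Fin 4,
    chevF4.simple (i : ℕ) ∈ rootIdx ∧ chevF4.neg (chevF4.simple (i : ℕ)) ∈ rootIdx := by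
  decide +kernel

theorem x_zero (r : ℕ) : chevF4.x (ZMod 2) r 0 = 1 :=
  Chev.x_zero (Chev.facts_chevF4) r

theorem rootMats_ok : ∀ k : Fin 12,
    res (chevF4.x (ZMod 2) (rootIdx.getD (k : ℕ) 0) 1) = toM (rootMats.getD (k : ℕ) []) ∧
      (rootMats.getD (k : ℕ) []).length ≤ 26 := by decide +kernel

theorem res_x_ne_one : res (chevF4.x (ZMod 2) 33 1) ≠ 1 := by decide +kernel

end Cfsg.Agent.TwistedF4Two
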