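import Cfsg.Agent.TwistedF4Two.Rep
import Cfsg.Agent.TwistedF4Two.Checks

/-!
# The unipotent group is a self-normalising Sylow 2-subgroup
-/

set_option autoImplicit false
set_option maxRecDepth 100000

namespace Cfsg.Agent.TwistedF4Two

open scoped Matrix

attribute [local irreducible] rho toM comp img Cfsg.Lie.chevF4

/-- Shortcuts for the group structure, whose search otherwise evaluates the root datum. -/
instance (priority := high) instGroupT : Group T := Subgroup.toGroup _

instance (priority := high) instDivT : DivisionMonoid T := Group.toDivisionMonoid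

/-- The element with a given matrix, when it exists. -/
def Rep (g : T) (A : List ℕ) : Prop := rho g = toM A ∧ A.length = 26

theorem Rep.one : Rep 1 idB := ⟨by rw [map_one, toM_idB], by decide⟩

theorem Rep.mul {g h : T} {A B : List ℕ} (hg : Rep g A) (hh : Rep h B) : Rep (g * h) (comp A B) :=
  ⟨by rw [map_mul, toM_comp _ _ hg.2.le, hg.1, hh.1], by rw [length_comp, hh.2]⟩

theorem Rep.eq {g h : T} {A B : List ℕ} (hg : Rep g A) (hh : Rep h B) (e : A = B) : g = h :=
  rho_injective (by rw [hg.1, hh.1, e])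

theorem rep_elt (l : List ℕ) : Rep (elt l) (bword l) := ⟨rho_elt l, bword_length l⟩

theorem bword_eq : ∀ {l : List ℕ}, l.all (· < 4) = true → bword l = wordB letters l
  | [], _ => rfl
  | k :: l, h => by
    simp only [List.all_cons, Bool.and_eq_true, decide_eq_true_eq] at h
    rw [bword, wordB, bword_eq h.2, Nat.mod_eq_of_lt h.1,
      List.getD_eq_getElem _ _ (lt_of_lt_of_eq h.1 (by decide)),
      List.getD_eq_getElem _ _ (lt_of_lt_of_eq h.1 (by decide))]

theorem Rep.pow {g : T} {A : List ℕ} (hg : Rep g A) : ∀ n, Rep (g ^ n) (powB A n)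
  | 0 => by rw [pow_zero]; exact Rep.one
  | n + 1 => by rw [pow_succ']; exact hg.mul (Rep.pow hg n)

/-- The product of a word in given elements. -/
def wordG (L : List T) : List ℕ → T
  | [] => 1
  | k :: l => L.getD k 1 * wordG L l

theorem Rep.word {L : List T} {A : List (List ℕ)} (h : ∀ k, Rep (L.getD k 1) (A.getD k idB)) :
    ∀ l, Rep (wordG L l) (wordB A l)
  | [] => Rep.one
  | k :: l => (h k).mul (Rep.word h l)

theorem wordG_mem {L : List T} {S : Subgroup T} (h : ∀ x ∈ L, x ∈ S) : ∀ l, wordG L l ∈ S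
  | [] => S.one_mem
  | k :: l => by
    refine S.mul_mem ?_ (wordG_mem h l)
    rcases Nat.lt_or_ge k L.length with hk | hk
    · rw [List.getD_eq_getElem _ _ hk]; exact h _ (List.getElem_mem hk)
    · rw [List.getD_eq_default _ _ hk]; exact S.one_mem

theorem Rep.sprod : ∀ {L : List T} {A : List (List ℕ)}, L.length = A.length →
    (∀ k, Rep (L.getD k 1) (A.getD k idB)) → ∀ m, Rep (sprod L m) (sprodB A m)
  | [], [], _, _, _ => Rep.one
  | [], _ :: _, h, _, _ => by simp at h
  | _ :: _, [], h, _, _ => by simp at h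
  | x :: L, a :: A, h, hr, m => by
    rw [TwistedF4Two.sprod, sprodB]
    refine Rep.mul ?_ (Rep.sprod (Nat.succ.inj h) (fun k => hr (k + 1)) _)
    split_ifs
    exacts [hr 0, Rep.one]

theorem rep_list {L : List T} {A : List (List ℕ)} (n : ℕ) (hL : L.length = n) (hA : A.length = n)
    (h : ∀ k, k < n → Rep (L.getD k 1) (A.getD k idB)) (k : ℕ) : Rep (L.getD k 1) (A.getD k idB) := by
  rcases Nat.lt_or_ge k n with hk | hk
  · exact h k hk
  · rw [List.getD_eq_default _ _ (hL ▸ hk), List.getD_eq_default _ _ (hA ▸ hk)]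
    exact Rep.one

/-- The polycyclic sequence. -/
def pc : List T := pcWords.map elt

theorem pc_length : pc.length = 12 := (List.length_map _).trans (by decide)

theorem pcMats_length : pcMats.length = 12 := by decide

theorem rep_pc (k : ℕ) : Rep (pc.getD k 1) (pcMats.getD k idB) := by
  refine rep_list 12 pc_length pcMats_length (fun k hk => ?_) k
  obtain ⟨h1, h2, -⟩ := pcWords_ok ⟨k, hk⟩
  rw [List.getD_eq_getElem _ _ (pc_length.symm ▸ hk), List.getD_eq_getElem _ _ (pcMats_length.symm ▸ hk)]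
  have e := rep_elt (pcWords.getD k [])
  rw [bword_eq h1, h2, List.getD_eq_getElem _ _ (lt_of_lt_of_eq hk (by decide)),
    List.getD_eq_getElem _ _ (pcMats_length.symm ▸ hk)] at e
  simpa [pc] using e

theorem rep_pc' {k : ℕ} (hk : k < 12) : Rep (pc.getD k 1) (pcMats.getD k []) := by
  rw [List.getD_eq_getElem _ _ (lt_of_lt_of_eq hk pcMats_length.symm),
    ← List.getD_eq_getElem _ idB (lt_of_lt_of_eq hk pcMats_length.symm)]
  exact rep_pc k

theorem rep_pc_drop (i : ℕ) (m : ℕ) : Rep (sprod (pc.drop i) m) (sprodB (pcMats.drop i) m) :=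
  Rep.sprod (by rw [List.length_drop, List.length_drop, pc_length, pcMats_length])
    (fun k => by simpa [List.getD, List.getElem?_drop] using rep_pc (i + k)) m

theorem rep_pc_prod (m : ℕ) : Rep (sprod pc m) (sprodB pcMats m) :=
  Rep.sprod (pc_length.trans pcMats_length.symm) rep_pc m

theorem rep_pc_take (i : ℕ) (m : ℕ) : Rep (sprod (pc.take i) m) (sprodB (pcMats.take i) m) := by
  refine Rep.sprod (by rw [List.length_take, List.length_take, pc_length, pcMats_length]) (fun k => ?_) m
  rcases Nat.lt_or_ge k i with hk | hk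
  · simpa [List.getD, List.getElem?_take, hk] using rep_pc k
  · simpa [List.getD, List.getElem?_take, Nat.not_lt.2 hk] using Rep.one

theorem collected_drop : ∀ n i : ℕ, i + n = 12 → Collected (pc.drop i)
  | 0, i, h => by rw [List.drop_eq_nil_of_le (by rw [pc_length]; omega)]; trivial
  | n + 1, i, h => by
    have hi : i < pc.length := by rw [pc_length]; omega
    rw [List.drop_eq_getElem_cons hi]
    have hx : pc[i] = pc.getD i 1 := (List.getD_eq_getElem _ _ hi).symm
    refine ⟨⟨pcSquares.getD i 0 / 2 ^ (i + 1), ?_⟩, fun z hz => ?_, collected_drop n (i + 1) (by omega)⟩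
    · rw [hx]
      exact ((rep_pc' (by omega)).mul (rep_pc' (by omega))).eq (rep_pc_drop _ _)
        (pcSquares_ok ⟨i, by omega⟩)
    · obtain ⟨j, hj, rfl⟩ := List.getElem_of_mem hz
      rw [List.length_drop, pc_length] at hj
      obtain ⟨t, ht, e1, e2⟩ := pcConj_all ⟨i, by omega⟩ ⟨i + 1 + j, by omega⟩
        (show i < i + 1 + j by omega)
      simp only at e1 e2
      refine ⟨t.2.2 / 2 ^ (i + 1), ?_⟩
      rw [List.getElem_drop, hx, ← List.getD_eq_getElem _ 1]
      have hc := pcConj_ok t ht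
      rw [e1, e2] at hc
      exact ((rep_pc' (by omega)).mul (rep_pc' (by omega))).eq
        ((rep_pc' (by omega)).mul (rep_pc_drop _ _)) hc

theorem collected_pc : Collected pc := by simpa using collected_drop 12 0 rfl

/-- The unipotent group. -/
def UT : Subgroup T := listClosure pc

theorem sprod_pc_mem (m : ℕ) : sprod pc m ∈ UT := sprod_mem (fun _ => mem_listClosure) m

theorem exists_sprod_pc {g : T} (hg : g ∈ UT) : ∃ m, g = sprod pc m :=
  exists_sprod collected_pc g hg

theorem pc_getD_mem (k : ℕ) : pc.getD k 1 ∈ UT := by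
  rcases Nat.lt_or_ge k pc.length with hk | hk
  · rw [List.getD_eq_getElem _ _ hk]; exact mem_listClosure (List.getElem_mem hk)
  · rw [List.getD_eq_default _ _ hk]; exact UT.one_mem

/-- The two reflections. -/
def s1 : T := elt w1
/-- The two reflections. -/
def s2 : T := elt w2

theorem rep_s1 : Rep s1 w1M := by
  have := rep_elt w1
  rwa [bword_eq (by decide +kernel), w1M_ok.1] at this

theorem rep_s2 : Rep s2 w2M := by
  have := rep_elt w2
  rwa [bword_eq (by decide +kernel), w2M_ok.1] at this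

theorem s1_sq : s1 * s1 = 1 := (rep_s1.mul rep_s1).eq Rep.one w1M_ok.2

theorem s2_sq : s2 * s2 = 1 := (rep_s2.mul rep_s2).eq Rep.one w2M_ok.2

/-- The Weyl elements. -/
def weylEl (w : ℕ) : T := wordG [1, s1, s2] (weylWords.getD w [])

theorem rep_refl (k : ℕ) (hk : k = 1 ∨ k = 2) :
    Rep (([1, s1, s2] : List T).getD k 1) (([[], w1M, w2M] : List (List ℕ)).getD k idB) := by
  rcases hk with rfl | rfl
  · exact rep_s1
  · exact rep_s2

theorem rep_refl_word : ∀ (l : List ℕ), l.all (fun k => k == 1 || k == 2) = true →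
    Rep (wordG [1, s1, s2] l) (wordB [[], w1M, w2M] l)
  | [], _ => Rep.one
  | k :: l, h => by
    simp only [List.all_cons, Bool.and_eq_true, Bool.or_eq_true, beq_iff_eq] at h
    exact (rep_refl k h.1).mul (rep_refl_word l h.2)

theorem rep_weyl {w : ℕ} (hw : w < 16) : Rep (weylEl w) (weylMats.getD w []) := by
  obtain ⟨h1, h2, -⟩ := weyl_ok ⟨w, hw⟩
  simp only at h1 h2
  rw [← h2]
  exact rep_refl_word _ h1

theorem weyl_inv {w : ℕ} (hw : w < 16) :
    Rep (weylEl w)⁻¹ (wordB [[], w1M, w2M] (weylWords.getD w []).reverse) := by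
  obtain ⟨h1, -, -, h3⟩ := weyl_ok ⟨w, hw⟩
  simp only at h1 h3
  have h := rep_refl_word (weylWords.getD w []).reverse (by rw [List.all_reverse]; exact h1)
  have hone : weylEl w * wordG [1, s1, s2] (weylWords.getD w []).reverse = 1 :=
    Rep.eq (Rep.mul (rep_weyl hw) h) Rep.one h3
  rw [inv_eq_of_mul_eq_one_right hone]
  exact h

/-- The union of the double cosets of the Weyl elements. -/
def InCells (g : T) : Prop :=
  ∃ u ∈ UT, ∃ w : ℕ, w < 16 ∧ ∃ u' ∈ UT, g = u * weylEl w * u'

theorem inCells_one : InCells 1 :=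
  ⟨1, UT.one_mem, 0, by norm_num, 1, UT.one_mem, by
    rw [weylEl, weyl_zero]; simp [wordG]⟩

theorem inCells_mul_left {u g : T} (hu : u ∈ UT) (hg : InCells g) : InCells (u * g) := by
  obtain ⟨v, hv, w, hw, v', hv', rfl⟩ := hg
  exact ⟨u * v, UT.mul_mem hu hv, w, hw, v', hv', by simp only [mul_assoc]⟩

/-- The rank one step. -/
theorem inCells_refl_mul {s h : T} {n : ℕ} (gs : List T) (hn : 0 < n) (hs : s * s = 1)
    (hh : h ^ n = 1) (hgsU : ∀ x ∈ gs, x ∈ UT) (hgs : ∀ x ∈ gs, s * x * s ∈ UT)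
    (hconj : ∀ x ∈ gs, ∃ y ∈ listClosure gs, h * x = y * h)
    (hdec : ∀ x ∈ pc, ∃ v ∈ listClosure gs, ∃ k : ℕ, x = v * h ^ k)
    (hstep : ∀ k < n, ∀ w < 16, InCells (s * h ^ k * weylEl w)) {g : T} (hg : InCells g) :
    InCells (s * g) := by
  have hsU : ∀ v ∈ listClosure gs, s * v * s ∈ UT := by
    intro v hv
    refine Subgroup.closure_induction (p := fun v _ => s * v * s ∈ UT) (fun x hx => hgs x hx)
      (by rw [mul_one, hs]; exact UT.one_mem) ?_ ?_ hv
    · intro a b _ _ ha hb
      rw [show s * (a * b) * s = s * a * s * (s * b * s) by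
        simp only [mul_assoc, ← mul_assoc s s, hs, one_mul]]
      exact UT.mul_mem ha hb
    · intro a _ ha
      have e : s⁻¹ = s := inv_eq_of_mul_eq_one_right hs
      rw [show s * a⁻¹ * s = (s⁻¹ * a * s⁻¹)⁻¹ by group, e]
      exact UT.inv_mem ha
  have hhv : ∀ v ∈ listClosure gs, ∃ v' ∈ listClosure gs, h * v = v' * h := by
    intro v hv
    refine Subgroup.closure_induction (p := fun v _ => ∃ v' ∈ listClosure gs, h * v = v' * h)
      (fun x hx => hconj x hx) ⟨1, Subgroup.one_mem _, by rw [mul_one, one_mul]⟩ ?_ ?_ hv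
    · rintro a b - - ⟨a', ha', ea⟩ ⟨b', hb', eb⟩
      exact ⟨a' * b', Subgroup.mul_mem _ ha' hb', by rw [← mul_assoc, ea, mul_assoc, eb, ← mul_assoc]⟩
    · rintro a - ⟨a', ha', ea⟩
      refine ⟨a'⁻¹, Subgroup.inv_mem _ ha', ?_⟩
      calc h * a⁻¹ = a'⁻¹ * (a' * h) * a⁻¹ := by group
        _ = a'⁻¹ * h := by rw [← ea]; group
  have hhk : ∀ k : ℕ, ∀ v ∈ listClosure gs, ∃ v' ∈ listClosure gs, h ^ k * v = v' * h ^ k := by
    intro k
    induction k with
    | zero => exact fun v hv => ⟨v, hv, by rw [pow_zero, one_mul, mul_one]⟩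
    | succ k ih =>
      intro v hv
      obtain ⟨v', hv', e⟩ := hhv v hv
      obtain ⟨v'', hv'', e'⟩ := ih v' hv'
      exact ⟨v'', hv'', by rw [pow_succ, mul_assoc, e, ← mul_assoc, e', mul_assoc]⟩
  let P : T → Prop := fun x => ∃ v ∈ listClosure gs, ∃ k : ℕ, x = v * h ^ k
  have hPmul : ∀ a b, P a → P b → P (a * b) := by
    rintro a b ⟨v, hv, k, rfl⟩ ⟨w, hw, l, rfl⟩
    obtain ⟨w', hw', e⟩ := hhk k w hw
    exact ⟨v * w', Subgroup.mul_mem _ hv hw', k + l, by
      rw [pow_add, mul_assoc, ← mul_assoc (h ^ k), e]; simp only [mul_assoc]⟩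
  have hPall : ∀ u ∈ UT, P u := by
    intro u hu
    obtain ⟨m, rfl⟩ := exists_sprod_pc hu
    have : ∀ (L : List T) (m : ℕ), (∀ x ∈ L, P x) → P (sprod L m) := by
      intro L
      induction L with
      | nil => exact fun _ _ => ⟨1, Subgroup.one_mem _, 0, by rw [pow_zero, one_mul]; rfl⟩
      | cons x L ih =>
        intro m hL
        rw [sprod]
        refine hPmul _ _ ?_ (ih _ fun z hz => hL z (List.mem_cons_of_mem _ hz))
        split_ifs
        exacts [hL x List.mem_cons_self, ⟨1, Subgroup.one_mem _, 0, by rw [pow_zero, one_mul]⟩]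
    exact this pc m fun x hx => hdec x hx
  obtain ⟨u, hu, w, hw, u', hu', rfl⟩ := hg
  obtain ⟨v, hv, k, rfl⟩ := hPall u hu
  rw [← pow_mod_orderOf] at hu ⊢
  set j := k % orderOf h
  have hj : j < n := lt_of_lt_of_le (Nat.mod_lt _ (orderOf_pos h))
    (Nat.le_of_dvd hn (orderOf_dvd_of_pow_eq_one hh))
  obtain ⟨a, ha, w', hw', b, hb, e⟩ := hstep j hj w hw
  refine ⟨s * v * s * a, UT.mul_mem (hsU v hv) ha, w', hw', b * u', UT.mul_mem hb hu', ?_⟩
  calc s * (v * h ^ j * weylEl w * u') = s * v * (s * s) * h ^ j * weylEl w * u' := by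
        rw [hs]; simp only [mul_one, mul_assoc]
    _ = s * v * s * (s * h ^ j * weylEl w) * u' := by simp only [mul_assoc]
    _ = _ := by rw [e]; simp only [mul_assoc]

theorem rep_part {W : List (List ℕ)} {A : List (List ℕ)} (n : ℕ) (hW : W.length = n)
    (hA : A.length = n)
    (h : ∀ k : Fin n, (W.getD (k : ℕ) []).all (· < 4) = true ∧ wordB letters (W.getD (k : ℕ) []) = A.getD (k : ℕ) [])
    (k : ℕ) : Rep ((W.map elt).getD k 1) (A.getD k idB) := by
  refine rep_list n ((List.length_map _).trans hW) hA (fun k hk => ?_) k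
  obtain ⟨h1, h2⟩ := h ⟨k, hk⟩
  have e := rep_elt (W.getD k [])
  rw [bword_eq h1, h2, List.getD_eq_getElem _ _ (lt_of_lt_of_eq hk hW.symm),
    List.getD_eq_getElem _ _ (lt_of_lt_of_eq hk hA.symm)] at e
  have hkA : k < A.length := lt_of_lt_of_eq hk hA.symm
  have hkW : k < (W.map elt).length := lt_of_lt_of_eq hk (hW.symm.trans (List.length_map _).symm)
  rw [List.getD_eq_getElem _ _ hkA, List.getD_eq_getElem _ _ hkW]
  simpa using e

theorem rep_gen (k : Fin 4) : Rep (gen k) (letters.getD (k : ℕ) []) :=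
  ⟨TwistedF4Two.rho_gen k, (letters_eq k).2⟩

theorem inCells_of_witness {x : T} {A : List ℕ} (hx : Rep x A) {m w m' : ℕ} (hw : w < 16)
    (e : A = comp (comp (sprodB pcMats m) (weylMats.getD w [])) (sprodB pcMats m')) : InCells x :=
  ⟨_, sprod_pc_mem m, w, hw, _, sprod_pc_mem m',
    hx.eq (((rep_pc_prod m).mul (rep_weyl hw)).mul (rep_pc_prod m')) e⟩

theorem inCells_s1_mul {g : T} (hg : InCells g) : InCells (s1 * g) := by
  let gs := part1Words.map elt
  have hlen : part1Words.length = 3 ∧ part1Mats.length = 3 := by decide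
  have hr := rep_part 3 hlen.1 hlen.2 (fun k => ⟨(part1_ok k).1, (part1_ok k).2.1⟩)
  have hmem : ∀ x ∈ gs, ∃ k : Fin 3, x = gs.getD (k : ℕ) 1 := fun x hx => by
    obtain ⟨k, hk, rfl⟩ := List.getElem_of_mem hx
    exact ⟨⟨k, lt_of_lt_of_eq hk ((List.length_map _).trans hlen.1)⟩, (List.getD_eq_getElem _ _ hk).symm⟩
  have hr' : ∀ k : Fin 3, Rep (gs.getD (k : ℕ) 1) (part1Mats.getD (k : ℕ) []) := fun k => by
    rw [List.getD_eq_getElem part1Mats [] (lt_of_lt_of_eq k.2 hlen.2.symm),
      ← List.getD_eq_getElem part1Mats idB (lt_of_lt_of_eq k.2 hlen.2.symm)]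
    exact hr k
  refine inCells_refl_mul (h := gen 0) (n := 2) gs two_pos s1_sq
    (((rep_gen 0).pow 2).eq Rep.one complements_ok.1) ?_ ?_ ?_ ?_ ?_ hg
  · intro x hx
    obtain ⟨k, rfl⟩ := hmem x hx
    rw [(hr' k).eq (rep_pc_prod _) (part1_ok k).2.2.1]
    exact sprod_pc_mem _
  · intro x hx
    obtain ⟨k, rfl⟩ := hmem x hx
    rw [((rep_s1.mul (hr' k)).mul rep_s1).eq (rep_pc_prod _) (part1_ok k).2.2.2.1]
    exact sprod_pc_mem _
  · intro x hx
    obtain ⟨k, rfl⟩ := hmem x hx
    exact ⟨_, wordG_mem (fun _ => mem_listClosure) _,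
      ((rep_gen 0).mul (hr' k)).eq ((Rep.word hr _).mul (rep_gen 0)) (part1_ok k).2.2.2.2⟩
  · intro x hx
    obtain ⟨i, hi, rfl⟩ := List.getElem_of_mem hx
    rw [← List.getD_eq_getElem _ 1 hi]
    rw [pc_length] at hi
    exact ⟨_, wordG_mem (fun _ => mem_listClosure) _, _,
      (rep_pc' hi).eq ((Rep.word hr _).mul ((rep_gen 0).pow _)) (part1Dec_ok ⟨i, hi⟩)⟩
  · intro k hk w hw
    obtain ⟨h1, h2⟩ := steps1_ok ⟨k, hk⟩ ⟨w, hw⟩
    exact inCells_of_witness ((rep_s1.mul ((rep_gen 0).pow k)).mul (rep_weyl hw)) h1 h2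

theorem inCells_s2_mul {g : T} (hg : InCells g) : InCells (s2 * g) := by
  let gs := part2Words.map elt
  have hlen : part2Words.length = 5 ∧ part2Mats.length = 5 := by decide
  have hr := rep_part 5 hlen.1 hlen.2 (fun k => ⟨(part2_ok k).1, (part2_ok k).2.1⟩)
  have hmem : ∀ x ∈ gs, ∃ k : Fin 5, x = gs.getD (k : ℕ) 1 := fun x hx => by
    obtain ⟨k, hk, rfl⟩ := List.getElem_of_mem hx
    exact ⟨⟨k, lt_of_lt_of_eq hk ((List.length_map _).trans hlen.1)⟩, (List.getD_eq_getElem _ _ hk).symm⟩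
  have hr' : ∀ k : Fin 5, Rep (gs.getD (k : ℕ) 1) (part2Mats.getD (k : ℕ) []) := fun k => by
    rw [List.getD_eq_getElem part2Mats [] (lt_of_lt_of_eq k.2 hlen.2.symm),
      ← List.getD_eq_getElem part2Mats idB (lt_of_lt_of_eq k.2 hlen.2.symm)]
    exact hr k
  refine inCells_refl_mul (h := gen 2) (n := 4) gs (by norm_num) s2_sq
    (((rep_gen 2).pow 4).eq Rep.one complements_ok.2) ?_ ?_ ?_ ?_ ?_ hg
  · intro x hx
    obtain ⟨k, rfl⟩ := hmem x hx
    rw [(hr' k).eq (rep_pc_prod _) (part2_ok k).2.2.1]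
    exact sprod_pc_mem _
  · intro x hx
    obtain ⟨k, rfl⟩ := hmem x hx
    rw [((rep_s2.mul (hr' k)).mul rep_s2).eq (rep_pc_prod _) (part2_ok k).2.2.2.1]
    exact sprod_pc_mem _
  · intro x hx
    obtain ⟨k, rfl⟩ := hmem x hx
    exact ⟨_, wordG_mem (fun _ => mem_listClosure) _,
      ((rep_gen 2).mul (hr' k)).eq ((Rep.word hr _).mul (rep_gen 2)) (part2_ok k).2.2.2.2⟩
  · intro x hx
    obtain ⟨i, hi, rfl⟩ := List.getElem_of_mem hx
    rw [← List.getD_eq_getElem _ 1 hi]
    rw [pc_length] at hi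
    exact ⟨_, wordG_mem (fun _ => mem_listClosure) _, _,
      (rep_pc' hi).eq ((Rep.word hr _).mul ((rep_gen 2).pow _)) (part2Dec_ok ⟨i, hi⟩)⟩
  · intro k hk w hw
    obtain ⟨h1, h2⟩ := steps2_ok ⟨k, hk⟩ ⟨w, hw⟩
    exact inCells_of_witness ((rep_s2.mul ((rep_gen 2).pow k)).mul (rep_weyl hw)) h1 h2

theorem inCells_all (g : T) : InCells g := by
  have hword : ∀ (l : List ℕ) (x : T), InCells x → InCells (wordG [1, s1, s2] l * x) := by
    intro l
    induction l with
    | nil => intro x hx; rw [wordG, one_mul]; exact hx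
    | cons k l ih =>
      intro x hx
      rw [wordG, mul_assoc]
      match k with
      | 0 => rw [List.getD_cons_zero, one_mul]; exact ih x hx
      | 1 => rw [List.getD_cons_succ, List.getD_cons_zero]; exact inCells_s1_mul (ih x hx)
      | 2 =>
        rw [List.getD_cons_succ, List.getD_cons_succ, List.getD_cons_zero]
        exact inCells_s2_mul (ih x hx)
      | k + 3 =>
        rw [show ([1, s1, s2] : List T).getD (k + 3) 1 = 1 from rfl, one_mul]
        exact ih x hx
  let Q : T → Prop := fun g => ∀ x, InCells x → InCells (g * x)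
  suffices h : Q g by
    have h1 := h 1 inCells_one
    rwa [mul_one] at h1
  have hmul : ∀ a b, Q a → Q b → Q (a * b) := fun a b ha hb x hx => by
    rw [mul_assoc]; exact ha _ (hb x hx)
  have hpow : ∀ a, Q a → ∀ n : ℕ, Q (a ^ n) := fun a ha n => by
    induction n with
    | zero => intro x hx; rw [pow_zero, one_mul]; exact hx
    | succ n ih => rw [pow_succ]; exact hmul _ _ ih ha
  have hg : g ∈ Subgroup.closure (Set.range gen) := closure_letters ▸ Subgroup.mem_top g
  refine Subgroup.closure_induction (p := fun g _ => Q g) ?_ (fun x hx => by rw [one_mul]; exact hx)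
    (fun a b _ _ => hmul a b) ?_ hg
  · rintro a ⟨k, rfl⟩ x hx
    obtain ⟨h1, h2⟩ := letterCosets_ok k
    rw [(rep_gen k).eq (((rep_pc_prod _).mul (rep_weyl h1)).mul (rep_pc_prod _)) h2, mul_assoc,
      mul_assoc]
    exact inCells_mul_left (sprod_pc_mem _) (hword _ _ (inCells_mul_left (sprod_pc_mem _) hx))
  · intro a _ ha
    obtain ⟨n, hn⟩ : ∃ n : ℕ, a⁻¹ = a ^ n := by
      refine ⟨orderOf a - 1, inv_eq_of_mul_eq_one_right ?_⟩
      rw [← pow_succ', Nat.sub_add_cancel (orderOf_pos a), pow_orderOf_eq_one]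
    rw [hn]
    exact hpow a ha n

/-- Strictly triangular matrices of depth `k`. -/
def Deep (k : ℕ) (A : M) : Prop :=
  ∀ r c : Fin 26, A r c ≠ 0 → hts.getD (c : ℕ) 0 + k ≤ hts.getD (r : ℕ) 0

theorem Deep.mul {k l : ℕ} {A B : M} (hA : Deep k A) (hB : Deep l B) : Deep (k + l) (A * B) := by
  intro r c h
  rw [Matrix.mul_apply] at h
  obtain ⟨j, -, hj⟩ := Finset.exists_ne_zero_of_sum_ne_zero h
  obtain ⟨h1, h2⟩ := ne_zero_and_ne_zero_of_mul hj
  have := hA r j h1
  have := hB j c h2
  push_cast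
  omega

theorem Deep.add {k : ℕ} {A B : M} (hA : Deep k A) (hB : Deep k B) : Deep k (A + B) := by
  intro r c h
  by_cases h1 : A r c = 0
  · exact hB r c (by simpa [h1] using h)
  · exact hA r c h1

theorem Deep.mono {k l : ℕ} (h : l ≤ k) {A : M} (hA : Deep k A) : Deep l A := fun r c hrc => by
  have := hA r c hrc
  omega

/-- Unitriangular elements. -/
def Unitri (g : T) : Prop := Deep 1 (rho g + 1)

theorem two_eq : ∀ A : M, A + A = 0 := fun A => by
  ext r c; exact CharTwo.add_self_eq_zero _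

theorem Unitri.mul {g h : T} (hg : Unitri g) (hh : Unitri h) : Unitri (g * h) := by
  have key : ∀ a b : M, a * b + 1 = (a + 1) * (b + 1) + ((a + 1) + (b + 1)) := fun a b => by
    have e : (a + 1) * (b + 1) + ((a + 1) + (b + 1)) =
        a * b + 1 + ((a + a) + (b + b) + (1 + 1)) := by noncomm_ring
    rw [e, two_eq a, two_eq b, two_eq 1]
    simp only [add_zero]
  have e : rho (g * h) + 1 = (rho g + 1) * (rho h + 1) + ((rho g + 1) + (rho h + 1)) := by
    rw [map_mul]; exact key _ _
  unfold Unitri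
  rw [e]
  exact Deep.add (Deep.mono (k := 1 + 1) (by norm_num) (Deep.mul (k := 1) (l := 1) hg hh)) (Deep.add hg hh)

theorem unitri_of_upperB {g : T} {A : List ℕ} (hg : Rep g A) (h : upperB A = true) : Unitri g := by
  intro r c hne
  simp only [upperB, List.all_eq_true, List.mem_range, Bool.or_eq_true, decide_eq_true_eq,
    beq_iff_eq] at h
  rcases h r r.2 c c.2 with h1 | h1
  · push_cast
    omega
  · refine absurd ?_ hne
    rw [Matrix.add_apply, hg.1, toM, Matrix.of_apply, bit, h1, Matrix.one_apply]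
    by_cases hrc : r = c
    · subst hrc; simp; decide
    · simp [hrc, Fin.val_ne_iff.2 hrc]

theorem upperB_of_unitri {g : T} {A : List ℕ} (hg : Rep g A) (h : Unitri g) : upperB A = true := by
  simp only [upperB, List.all_eq_true, List.mem_range, Bool.or_eq_true, decide_eq_true_eq,
    beq_iff_eq]
  intro r hr c hc
  by_contra hno
  push Not at hno
  have h1 := h ⟨r, hr⟩ ⟨c, hc⟩ (by
    rw [Matrix.add_apply, hg.1, toM, Matrix.of_apply, bit, Matrix.one_apply]
    have h2 := hno.2
    by_cases hrc : r = c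
    · subst hrc
      simp at h2
      simp [h2]
    · cases hb : (A.getD c 0).testBit r <;> simp_all [Fin.ext_iff])
  have := hno.1
  simp only at h1
  push_cast at h1
  omega

theorem unitri_one : Unitri 1 := by
  intro r c h
  rw [map_one, two_eq] at h
  exact absurd rfl h

theorem unitri_mem {g : T} (hg : g ∈ UT) : Unitri g := by
  obtain ⟨m, rfl⟩ := exists_sprod_pc hg
  suffices ∀ (L : List T) (m : ℕ), (∀ x ∈ L, Unitri x) → Unitri (sprod L m) from
    this pc m fun x hx => by
      obtain ⟨i, hi, rfl⟩ := List.getElem_of_mem hx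
      rw [← List.getD_eq_getElem _ 1 hi]
      rw [pc_length] at hi
      exact unitri_of_upperB (rep_pc' hi) (pc_upper ⟨i, hi⟩)
  intro L
  induction L with
  | nil => exact fun _ _ => unitri_one
  | cons x L ih =>
    intro m hL
    rw [sprod]
    refine Unitri.mul ?_ (ih _ fun z hz => hL z (List.mem_cons_of_mem _ hz))
    split_ifs
    exacts [hL x List.mem_cons_self, unitri_one]

theorem isPGroup_UT : IsPGroup 2 UT := by
  intro g
  refine ⟨5, Subtype.ext (rho_injective ?_)⟩
  rw [Subgroup.coe_pow, map_pow, OneMemClass.coe_one, map_one]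
  set N := rho (g : T) + 1 with hN
  have hd : Deep 1 N := unitri_mem g.2
  have hdeep : ∀ k : ℕ, Deep k (N ^ k) := by
    intro k
    induction k with
    | zero =>
      intro r c h
      rw [pow_zero, Matrix.one_apply] at h
      split_ifs at h with he
      · subst he; simp
      · exact absurd rfl h
    | succ k ih => rw [pow_succ]; exact ih.mul hd
  have hbound : ∀ r c : Fin 26, hts.getD (r : ℕ) 0 < hts.getD (c : ℕ) 0 + 17 := by decide +kernel
  have hzero : N ^ 32 = 0 := by
    ext r c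
    by_contra h
    have := (hdeep 32).mono (show 17 ≤ 32 by norm_num) r c h
    have := hbound r c
    push_cast at *
    omega
  have hrho : rho (g : T) = N + 1 := by rw [hN, add_assoc, two_eq, add_zero]
  rw [hrho]
  have e := add_pow_char_pow_of_commute (p := 2) (n := 5) (Commute.one_right N)
  rw [e, one_pow]
  rw [show N ^ 2 ^ 5 = N ^ 32 from rfl, hzero, zero_add]

theorem normalizer_UT : Subgroup.normalizer (UT : Set T) = UT := by
  refine le_antisymm (fun g hg => ?_) Subgroup.le_normalizer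
  obtain ⟨u, hu, w, hw, u', hu', rfl⟩ := inCells_all g
  have hN : weylEl w ∈ Subgroup.normalizer (UT : Set T) := by
    have h1 := Subgroup.le_normalizer (H := UT) hu
    have h2 := Subgroup.le_normalizer (H := UT) hu'
    have e : weylEl w = u⁻¹ * (u * weylEl w * u') * u'⁻¹ := by group
    rw [e]
    exact Subgroup.mul_mem _ (Subgroup.mul_mem _ (Subgroup.inv_mem _ h1) hg) (Subgroup.inv_mem _ h2)
  rcases Nat.eq_zero_or_pos w with rfl | hw0
  · rw [show weylEl 0 = 1 by rw [weylEl, weyl_zero]; rfl, mul_one]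
    exact UT.mul_mem hu hu'
  exfalso
  obtain ⟨h1, h2⟩ := moved_ok ⟨w - 1, by omega⟩
  simp only [show w - 1 + 1 = w by omega] at h1 h2
  have hmem := (Subgroup.mem_normalizer_iff.1 hN _).1 (pc_getD_mem (moved.getD (w - 1) 0))
  have h3 := upperB_of_unitri (((rep_weyl hw).mul (rep_pc' h1)).mul (weyl_inv hw)) (unitri_mem hmem)
  rw [h3] at h2
  exact absurd h2 (by decide)

theorem exists_conj_mem_UT {g : T} (hg : orderOf g = 2) : ∃ x : T, x * g * x⁻¹ ∈ UT := by
  obtain ⟨P, hP⟩ := isPGroup_UT.exists_le_sylow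
  have hPU : (P : Subgroup T) = UT := by
    by_contra hne
    have := P.isPGroup'.isNilpotent
    have hlt : UT.subgroupOf (P : Subgroup T) < ⊤ := by
      rw [lt_top_iff_ne_top, Ne, Subgroup.subgroupOf_eq_top]
      exact fun h => hne (le_antisymm h hP)
    have h1 := normalizerCondition_of_isNilpotent (UT.subgroupOf (P : Subgroup T)) hlt
    obtain ⟨y, hy, hy'⟩ := SetLike.exists_of_lt h1
    refine hy' (Subgroup.mem_subgroupOf.2 (normalizer_UT.le ?_))
    rw [Subgroup.mem_normalizer_iff] at hy ⊢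
    intro z
    constructor
    · intro hz
      exact Subgroup.mem_subgroupOf.1 ((hy ⟨z, hP hz⟩).1 (Subgroup.mem_subgroupOf.2 hz))
    · intro hz
      have hzP : z ∈ (P : Subgroup T) := by
        have := (P : Subgroup T).mul_mem
          ((P : Subgroup T).mul_mem ((P : Subgroup T).inv_mem y.2) (hP hz)) y.2
        rwa [show (y : T)⁻¹ * ((y : T) * z * (y : T)⁻¹) * (y : T) = z by group] at this
      exact Subgroup.mem_subgroupOf.1 ((hy ⟨z, hzP⟩).2 (Subgroup.mem_subgroupOf.2 hz))
  have := Fact.mk Nat.prime_two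
  have hz : IsPGroup 2 (Subgroup.zpowers g) :=
    IsPGroup.of_card (n := 1) (by rw [Nat.card_zpowers, hg, pow_one])
  obtain ⟨Q, hQ⟩ := hz.exists_le_sylow
  obtain ⟨x, hx⟩ := MulAction.exists_smul_eq T Q P
  refine ⟨x, ?_⟩
  have hmem : x * g * x⁻¹ ∈ ((x • Q : Sylow 2 T) : Subgroup T) := by
    open scoped Pointwise in
    rw [Sylow.coe_subgroup_smul]
    exact Subgroup.smul_mem_pointwise_smul g (MulAut.conj x) _ (hQ (Subgroup.mem_zpowers g))
  rwa [hx, hPU] at hmem

end Cfsg.Agent.TwistedF4Two
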